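import Mathlib
import Cfsg.Agent.Solvable.Glauberman

/-!
# Coprime action: invariant conjugacy classes (helper594)

`S` normalises `G`, the orders are coprime, one of the groups is solvable, `C = G ⊓ C(S)`.  The conjugacy classes
of `G` mapped to themselves by `S` are in bijection with the conjugacy classes of `C`.
-/

set_option autoImplicit false

namespace Cfsg.Agent.H594.ClassCount

variable {Γ : Type*} [Group Γ] [Finite Γ]

/-- the action by conjugation -/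
@[reducible] def conjMulAction (Γ : Type*) [Group Γ] : MulAction Γ Γ :=
  MulAction.compHom Γ (MulAut.conj : Γ →* MulAut Γ)

/-- Two elements of `C` conjugate in `G` are conjugate in `C`. -/
theorem conj_in_C {G S : Subgroup Γ} (hnorm : ∀ s ∈ S, ∀ g ∈ G, s * g * s⁻¹ ∈ G)
    (hcop : (Nat.card G).Coprime (Nat.card S)) (hsolv : Group.IsSolvable S ∨ Group.IsSolvable G)
    {x y : Γ} (hx : ∀ s ∈ S, s * x * s⁻¹ = x) (hy : ∀ s ∈ S, s * y * s⁻¹ = y) {k : Γ} (hk : k ∈ G)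
    (hkx : k * x * k⁻¹ = y) : ∃ c ∈ G ⊓ Subgroup.centralizer (S : Set Γ), c * x * c⁻¹ = y := by
  have hnS : S ≤ Subgroup.normalizer (G : Set Γ) := by
    intro s hs
    rw [Subgroup.mem_normalizer_iff]
    intro g
    refine ⟨hnorm s hs g, fun hg => ?_⟩
    have := hnorm s⁻¹ (S.inv_mem hs) _ hg
    simpa [mul_assoc] using this
  obtain ⟨c, hc1, hc2, hc3⟩ := @Cfsg.Agent.Solvable.Glauberman.exists_centralizer_smul Γ _ _ S G hnS
    hcop.symm hsolv Γ (conjMulAction Γ) x y hx hy k hk hkx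
  exact ⟨c, Subgroup.mem_inf.2 ⟨hc1, hc2⟩, hc3⟩

/-- An `S`-invariant `G`-class meets `C`. -/
theorem exists_mem_C {G S : Subgroup Γ} (hnorm : ∀ s ∈ S, ∀ g ∈ G, s * g * s⁻¹ ∈ G)
    (hcop : (Nat.card G).Coprime (Nat.card S)) (hsolv : Group.IsSolvable S ∨ Group.IsSolvable G)
    (x : Γ) (hx : ∀ s ∈ S, ∃ k ∈ G, s * x * s⁻¹ = k * x * k⁻¹) :
    ∃ k ∈ G, ∀ s ∈ S, s * (k * x * k⁻¹) * s⁻¹ = k * x * k⁻¹ := by
  have hnS : S ≤ Subgroup.normalizer (G : Set Γ) := by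
    intro s hs
    rw [Subgroup.mem_normalizer_iff]
    intro g
    refine ⟨hnorm s hs g, fun hg => ?_⟩
    have := hnorm s⁻¹ (S.inv_mem hs) _ hg
    simpa [mul_assoc] using this
  exact @Cfsg.Agent.Solvable.Glauberman.exists_smul_fixed Γ _ _ S G hnS
    hcop.symm hsolv Γ (conjMulAction Γ) x hx

/-- **The number of invariant classes.** -/
theorem card_classes {G S C : Subgroup Γ} (hnorm : ∀ s ∈ S, ∀ g ∈ G, s * g * s⁻¹ ∈ G)
    (hcop : (Nat.card G).Coprime (Nat.card S)) (hsolv : Group.IsSolvable S ∨ Group.IsSolvable G)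
    (hC : C = G ⊓ Subgroup.centralizer (S : Set Γ)) :
    Nat.card {K : ConjClasses G // ∀ s ∈ S, ∀ g g' : G, (g' : Γ) = s * g * s⁻¹ →
      ConjClasses.mk g = K → ConjClasses.mk g' = K} = Nat.card (ConjClasses C) := by
  have hCG : C ≤ G := hC ▸ inf_le_left
  have hCs : ∀ c ∈ C, ∀ s ∈ S, s * c * s⁻¹ = c := by
    intro c hc s hs
    rw [hC] at hc
    have := Subgroup.mem_centralizer_iff.1 hc.2 s hs
    rw [this]; group
  let F : ConjClasses C → ConjClasses G := ConjClasses.map (Subgroup.inclusion hCG)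
  have hF : ∀ c : C, F (ConjClasses.mk c) = ConjClasses.mk (Subgroup.inclusion hCG c) := fun c => rfl
  symm
  refine Nat.card_congr (Equiv.ofBijective (fun K => ⟨F K, ?_⟩) ⟨?_, ?_⟩)
  · intro s hs g g' hg' hgK
    obtain ⟨c, rfl⟩ := ConjClasses.exists_rep K
    rw [hF] at hgK ⊢
    rw [ConjClasses.mk_eq_mk_iff_isConj, isConj_comm, isConj_iff] at hgK
    obtain ⟨x, hx⟩ := hgK
    rw [ConjClasses.mk_eq_mk_iff_isConj, isConj_comm, isConj_iff]
    refine ⟨⟨s * x * s⁻¹, hnorm s hs x x.2⟩, ?_⟩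
    apply Subtype.ext
    have h1 : (x : Γ) * c * (x : Γ)⁻¹ = g := congrArg Subtype.val hx
    show s * x * s⁻¹ * c * (s * x * s⁻¹)⁻¹ = g'
    rw [hg', ← h1]
    have h2 := hCs c c.2 s⁻¹ (S.inv_mem hs)
    rw [inv_inv] at h2
    calc s * x * s⁻¹ * c * (s * x * s⁻¹)⁻¹ = s * (x * (s⁻¹ * c * s) * (x : Γ)⁻¹) * s⁻¹ := by group
      _ = _ := by rw [h2]
  · intro K K' h
    obtain ⟨c, rfl⟩ := ConjClasses.exists_rep K
    obtain ⟨c', rfl⟩ := ConjClasses.exists_rep K'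
    have h1 : F (ConjClasses.mk c) = F (ConjClasses.mk c') := congrArg Subtype.val h
    rw [hF, hF, ConjClasses.mk_eq_mk_iff_isConj, isConj_iff] at h1
    obtain ⟨x, hx⟩ := h1
    obtain ⟨d, hd, hd2⟩ := conj_in_C hnorm hcop hsolv (hCs c c.2) (hCs c' c'.2) x.2 (congrArg Subtype.val hx)
    rw [ConjClasses.mk_eq_mk_iff_isConj, isConj_iff]
    exact ⟨⟨d, hC ▸ hd⟩, Subtype.ext hd2⟩
  · rintro ⟨K, hK⟩
    obtain ⟨g, rfl⟩ := ConjClasses.exists_rep K
    obtain ⟨k, hk, hk2⟩ := exists_mem_C hnorm hcop hsolv (g : Γ) (by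
      intro s hs
      have h1 := hK s hs g ⟨s * g * s⁻¹, hnorm s hs g g.2⟩ rfl rfl
      rw [ConjClasses.mk_eq_mk_iff_isConj, isConj_comm, isConj_iff] at h1
      obtain ⟨x, hx⟩ := h1
      exact ⟨x, x.2, (congrArg Subtype.val hx).symm⟩)
    have hmem : k * g * k⁻¹ ∈ C := by
      rw [hC]
      refine Subgroup.mem_inf.2 ⟨G.mul_mem (G.mul_mem hk g.2) (G.inv_mem hk), ?_⟩
      rw [Subgroup.mem_centralizer_iff]
      intro s hs
      have h2 := hk2 s hs
      calc s * (k * g * k⁻¹) = (s * (k * g * k⁻¹) * s⁻¹) * s := by group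
        _ = _ := by rw [h2]
    refine ⟨ConjClasses.mk ⟨_, hmem⟩, ?_⟩
    apply Subtype.ext
    change F (ConjClasses.mk ⟨k * g * k⁻¹, hmem⟩) = ConjClasses.mk g
    rw [hF, ConjClasses.mk_eq_mk_iff_isConj, isConj_comm, isConj_iff]
    exact ⟨⟨k, hk⟩, Subtype.ext rfl⟩

end Cfsg.Agent.H594.ClassCount
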