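import Mathlib
import Cfsg.Agent.Characters.Core
import Cfsg.Agent.Solvable.Glauberman

/-!
# Sums over the coset of a generator of a coprime cyclic group of operators (helper594)

`S = ⟨s⟩` normalises `G`, the orders are coprime, `C = G ⊓ C(S)`.

* `exists_conj_mul`: every element of `G s` is a conjugate `x c s x⁻¹` with `x ∈ G`, `c ∈ C`;
* `mem_of_conj_eq`: `x c s x⁻¹ = x' c' s x'⁻¹` implies `x⁻¹ x' ∈ C`;
* `coset_sum`: the average of a class function over `G s` is the average over `C s`.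
-/

set_option autoImplicit false
set_option linter.unusedSectionVars false
open Cfsg

namespace Cfsg.Agent.H594.CosetSum

open scoped Pointwise

variable {Γ : Type*} [Group Γ] [Finite Γ]

/-- An exponent `k ≡ 1` modulo `#S`, `k ≡ 0` modulo `#G`. -/
theorem exists_exp {m n : ℕ} (h : m.Coprime n) : ∃ k : ℕ, k ≡ 0 [MOD m] ∧ k ≡ 1 [MOD n] :=
  ⟨_, (Nat.chineseRemainder h 0 1).2⟩

theorem conj_pow' (x g : Γ) (k : ℕ) : (x * g * x⁻¹) ^ k = x * g ^ k * x⁻¹ := by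
  induction k with
  | zero => simp
  | succ k ih => rw [pow_succ, ih, pow_succ]; group

/-- if `c ∈ G` commutes with `s ∈ S` then `(c s)^k = s`. -/
theorem pow_mul_eq {G S : Subgroup Γ} {k : ℕ} (hk0 : k ≡ 0 [MOD Nat.card G]) (hk1 : k ≡ 1 [MOD Nat.card S])
    {c s : Γ} (hc : c ∈ G) (hs : s ∈ S) (hcs : c * s = s * c) : (c * s) ^ k = s := by
  rw [(show Commute c s from hcs).mul_pow]
  have h1 : c ^ k = 1 := by
    obtain ⟨j, hj⟩ := (Nat.modEq_zero_iff_dvd.1 hk0)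
    have h2 : c ^ Nat.card G = 1 := by
      have := pow_card_eq_one' (x := (⟨c, hc⟩ : G))
      exact congrArg Subtype.val this
    rw [hj, pow_mul, h2, one_pow]
  have h2 : s ^ k = s := by
    have h3 : orderOf s ∣ Nat.card S := by
      have := orderOf_dvd_natCard (⟨s, hs⟩ : S)
      rwa [Subgroup.orderOf_mk] at this
    have h4 : k ≡ 1 [MOD orderOf s] := hk1.of_dvd h3
    rw [← pow_mod_orderOf, h4, pow_mod_orderOf, pow_one]
  rw [h1, h2, one_mul]

theorem mem_centralizer_zpowers {s x : Γ} (h : x * s = s * x) :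
    x ∈ Subgroup.centralizer ((Subgroup.zpowers s : Subgroup Γ) : Set Γ) := by
  rw [Subgroup.mem_centralizer_iff]
  rintro _ ⟨j, rfl⟩
  exact ((show Commute x s from h).zpow_right j).eq.symm

theorem mem_of_conj_eq {G S : Subgroup Γ} (hcop : (Nat.card G).Coprime (Nat.card S)) {s : Γ}
    (hs : Subgroup.zpowers s = S) {x x' c c' : Γ} (hx : x ∈ G) (hx' : x' ∈ G)
    (hc : c ∈ G ⊓ Subgroup.centralizer (S : Set Γ)) (hc' : c' ∈ G ⊓ Subgroup.centralizer (S : Set Γ))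
    (h : x * (c * s) * x⁻¹ = x' * (c' * s) * x'⁻¹) :
    x⁻¹ * x' ∈ G ⊓ Subgroup.centralizer (S : Set Γ) := by
  obtain ⟨k, hk0, hk1⟩ := exists_exp hcop
  have hsS : s ∈ S := hs ▸ Subgroup.mem_zpowers s
  have h1 : c * s = s * c := (Subgroup.mem_centralizer_iff.1 hc.2 s hsS).symm
  have h2 : c' * s = s * c' := (Subgroup.mem_centralizer_iff.1 hc'.2 s hsS).symm
  have h3 : (x * (c * s) * x⁻¹) ^ k = (x' * (c' * s) * x'⁻¹) ^ k := by rw [h]
  rw [conj_pow', conj_pow', pow_mul_eq hk0 hk1 hc.1 hsS h1, pow_mul_eq hk0 hk1 hc'.1 hsS h2] at h3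
  refine Subgroup.mem_inf.2 ⟨G.mul_mem (G.inv_mem hx) hx', ?_⟩
  rw [← hs]
  apply mem_centralizer_zpowers
  have h4 : s = x⁻¹ * (x' * s * x'⁻¹) * x := by rw [← h3]; group
  calc x⁻¹ * x' * s = (x⁻¹ * (x' * s * x'⁻¹) * x) * (x⁻¹ * x') := by group
    _ = s * (x⁻¹ * x') := by rw [← h4]

theorem disjoint_of_coprime {G S : Subgroup Γ} (hcop : (Nat.card G).Coprime (Nat.card S)) {x : Γ}
    (h1 : x ∈ G) (h2 : x ∈ S) : x = 1 := by
  have := (Subgroup.disjoint_of_coprime_natCard hcop).le_bot (Subgroup.mem_inf.2 ⟨h1, h2⟩)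
  simpa using this

theorem exists_conj_mul {G S : Subgroup Γ} (hnorm : ∀ s ∈ S, ∀ g ∈ G, s * g * s⁻¹ ∈ G)
    (hcop : (Nat.card G).Coprime (Nat.card S)) {s : Γ}
    (hs : Subgroup.zpowers s = S) {y : Γ} (hy : y ∈ G) :
    ∃ x ∈ G, ∃ c ∈ G ⊓ Subgroup.centralizer (S : Set Γ), y * s = x * (c * s) * x⁻¹ := by
  obtain ⟨k, hk0, hk1⟩ := exists_exp hcop
  have hsS : s ∈ S := hs ▸ Subgroup.mem_zpowers s
  have hnS : S ≤ Subgroup.normalizer (G : Set Γ) := by
    intro s hs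
    rw [Subgroup.mem_normalizer_iff]
    intro g
    refine ⟨hnorm s hs g, fun hg => ?_⟩
    have := hnorm s⁻¹ (S.inv_mem hs) _ hg
    simpa [mul_assoc] using this
  -- powers of `y s`
  have hpow : ∀ j : ℕ, ∃ g ∈ G, (y * s) ^ j = g * s ^ j := by
    intro j
    induction j with
    | zero => exact ⟨1, G.one_mem, by simp⟩
    | succ j ih =>
      obtain ⟨g, hg, hg2⟩ := ih
      refine ⟨g * (s ^ j * y * (s ^ j)⁻¹), G.mul_mem hg (hnorm _ (S.pow_mem hsS j) y hy), ?_⟩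
      rw [pow_succ, hg2, pow_succ]
      group
  have hcardS : orderOf s = Nat.card S := by rw [← hs, Nat.card_zpowers]
  -- `y s` has order dividing `#G #S`
  have hord : (y * s) ^ (Nat.card S * Nat.card G) = 1 := by
    obtain ⟨g, hg, hg2⟩ := hpow (Nat.card S)
    rw [← hcardS, pow_orderOf_eq_one, mul_one, hcardS] at hg2
    rw [pow_mul, hg2]
    have := pow_card_eq_one' (x := (⟨g, hg⟩ : G))
    exact congrArg Subtype.val this
  set z := (y * s) ^ k with hz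
  have hzn : z ^ Nat.card S = 1 := by
    obtain ⟨j, hj⟩ := (Nat.modEq_zero_iff_dvd.1 hk0)
    rw [hz, ← pow_mul, hj, show Nat.card G * j * Nat.card S = (Nat.card S * Nat.card G) * j by ring,
      pow_mul, hord, one_pow]
  obtain ⟨g0, hg0, hg0z⟩ := hpow k
  have hsk : s ^ k = s := by
    have h4 : k ≡ 1 [MOD orderOf s] := hcardS ▸ hk1
    rw [← pow_mod_orderOf, h4, pow_mod_orderOf, pow_one]
  rw [hsk] at hg0z
  have hzord : orderOf z = Nat.card S := by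
    apply Nat.dvd_antisymm (orderOf_dvd_of_pow_eq_one hzn)
    rw [← hcardS]
    apply orderOf_dvd_of_pow_eq_one
    -- `z^j ∈ G s^j`
    have hpow2 : ∀ j : ℕ, ∃ g ∈ G, z ^ j = g * s ^ j := by
      intro j
      induction j with
      | zero => exact ⟨1, G.one_mem, by simp⟩
      | succ j ih =>
        obtain ⟨g, hg, hg2⟩ := ih
        refine ⟨g * (s ^ j * g0 * (s ^ j)⁻¹), G.mul_mem hg (hnorm _ (S.pow_mem hsS j) g0 hg0), ?_⟩
        rw [pow_succ, hg2, hz, hg0z, pow_succ]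
        group
    obtain ⟨g, hg, hg2⟩ := hpow2 (orderOf z)
    rw [pow_orderOf_eq_one] at hg2
    apply disjoint_of_coprime hcop ?_ (S.pow_mem hsS _)
    rw [show s ^ orderOf z = g⁻¹ * 1 by rw [hg2]; group]
    exact G.mul_mem (G.inv_mem hg) G.one_mem
  have hcardz : Nat.card (Subgroup.zpowers z) = Nat.card S := by rw [Nat.card_zpowers, hzord]
  have hsol : Group.IsSolvable S := by
    rw [← hs]
    infer_instance
  obtain ⟨x, hx, hxz⟩ := Cfsg.Agent.Solvable.Glauberman.exists_conj_of_le_sup S G hnS hcop.symm (Or.inl hsol)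
    (Subgroup.zpowers z) (by
      rw [Subgroup.zpowers_le, hz]
      exact Subgroup.pow_mem _ (Subgroup.mul_mem _ (Subgroup.mem_sup_right hy) (Subgroup.mem_sup_left hsS)) _) hcardz
  -- `x⁻¹ z x ∈ S`
  have hzx : z ∈ MulAut.conj x • S := by rw [hxz]; exact Subgroup.mem_zpowers z
  rw [Subgroup.mem_smul_pointwise_iff_exists] at hzx
  obtain ⟨t, ht, htz⟩ := hzx
  have htz' : x * t * x⁻¹ = z := htz
  have hts : t = s := by
    have h1 : t * s⁻¹ ∈ G := by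
      have h2 : t * s⁻¹ = x⁻¹ * g0 * (s * x * s⁻¹) := by
        have h3 : t = x⁻¹ * z * x := by rw [← htz']; group
        rw [h3, hz, hg0z]
        group
      rw [h2]
      exact G.mul_mem (G.mul_mem (G.inv_mem hx) hg0) (hnorm s hsS x hx)
    have h2 := disjoint_of_coprime hcop h1 (S.mul_mem ht (S.inv_mem hsS))
    exact mul_inv_eq_one.1 h2
  subst hts
  -- `c = x⁻¹ (y s) x s⁻¹`
  refine ⟨x, hx, x⁻¹ * (y * t) * x * t⁻¹, Subgroup.mem_inf.2 ⟨?_, ?_⟩, by group⟩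
  · have h2 : x⁻¹ * (y * t) * x * t⁻¹ = x⁻¹ * y * (t * x * t⁻¹) := by group
    rw [h2]
    exact G.mul_mem (G.mul_mem (G.inv_mem hx) hy) (hnorm t ht x hx)
  · rw [← hs]
    apply mem_centralizer_zpowers
    have h1 : x⁻¹ * (y * t) * x * t = t * (x⁻¹ * (y * t) * x) := by
      have h2 : (y * t) * z = z * (y * t) := by
        rw [hz]; exact ((Commute.refl (y * t)).pow_right k).eq
      have h3 : t = x⁻¹ * z * x := by rw [← htz']; group
      calc x⁻¹ * (y * t) * x * t = x⁻¹ * (y * t) * x * (x⁻¹ * z * x) := by rw [← h3]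
        _ = x⁻¹ * ((y * t) * z) * x := by group
        _ = x⁻¹ * (z * (y * t)) * x := by rw [h2]
        _ = (x⁻¹ * z * x) * (x⁻¹ * (y * t) * x) := by group
        _ = t * (x⁻¹ * (y * t) * x) := by rw [← h3]
    calc x⁻¹ * (y * t) * x * t⁻¹ * t = x⁻¹ * (y * t) * x := by group
      _ = t⁻¹ * (t * (x⁻¹ * (y * t) * x)) := by group
      _ = t⁻¹ * (x⁻¹ * (y * t) * x * t) := by rw [h1]
      _ = t⁻¹ * (x⁻¹ * (y * t) * x * t * t⁻¹) * t := by group
      _ = t⁻¹ * (t * (x⁻¹ * (y * t) * x) * t⁻¹) * t := by rw [h1]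
      _ = x⁻¹ * (y * t) * x := by group
      _ = t * (x⁻¹ * (y * t) * x * t⁻¹) := by
        have h5 : t * (x⁻¹ * (y * t) * x * t⁻¹) = t * (x⁻¹ * (y * t) * x) * t⁻¹ := by group
        rw [h5, ← h1]; group

/-- **Averages over the coset of a generator.** -/
theorem coset_sum {G S C : Subgroup Γ} [Fintype G] [Fintype C] (hnorm : ∀ s ∈ S, ∀ g ∈ G, s * g * s⁻¹ ∈ G)
    (hcop : (Nat.card G).Coprime (Nat.card S)) (hC : C = G ⊓ Subgroup.centralizer (S : Set Γ)) {s : Γ}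
    (hs : Subgroup.zpowers s = S) (F : Γ → ℂ) (hF : ∀ x ∈ G, ∀ y : Γ, F (x * y * x⁻¹) = F y) :
    (Nat.card G : ℂ)⁻¹ * ∑ g : G, F (g * s) = (Nat.card C : ℂ)⁻¹ * ∑ c : C, F (c * s) := by
  classical
  have hsS : s ∈ S := hs ▸ Subgroup.mem_zpowers s
  have hCG : C ≤ G := hC ▸ inf_le_left
  have hCs : ∀ c ∈ C, c * s = s * c := by
    intro c hc
    rw [hC] at hc
    exact (Subgroup.mem_centralizer_iff.1 hc.2 s hsS).symm
  have hmem : ∀ p : G × C, (p.1 : Γ) * (p.2 * s) * (p.1 : Γ)⁻¹ * s⁻¹ ∈ G := by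
    intro p
    have h2 : (p.1 : Γ) * (p.2 * s) * (p.1 : Γ)⁻¹ * s⁻¹ = p.1 * p.2 * (s * (p.1 : Γ)⁻¹ * s⁻¹) := by group
    rw [h2]
    exact G.mul_mem (G.mul_mem p.1.2 (hCG p.2.2)) (hnorm s hsS _ (G.inv_mem p.1.2))
  let Φ : G × C → G := fun p => ⟨_, hmem p⟩
  have hΦ : ∀ p, ((Φ p : G) : Γ) * s = (p.1 : Γ) * (p.2 * s) * (p.1 : Γ)⁻¹ := by
    intro p
    show (p.1 : Γ) * (p.2 * s) * (p.1 : Γ)⁻¹ * s⁻¹ * s = _
    group
  have hex : ∀ y : G, ∃ p : G × C, Φ p = y := by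
    intro y
    obtain ⟨x, hx, c, hc, h⟩ := exists_conj_mul hnorm hcop hs y.2
    refine ⟨(⟨x, hx⟩, ⟨c, hC ▸ hc⟩), ?_⟩
    apply Subtype.ext
    apply mul_right_cancel (b := s)
    rw [hΦ]
    exact h.symm
  choose P hP using hex
  let Ψ : C × G → G × C := fun q => ((P q.2).1 * ⟨q.1, hCG q.1.2⟩, q.1⁻¹ * (P q.2).2 * q.1)
  have hΦΨ : ∀ q, Φ (Ψ q) = q.2 := by
    intro q
    apply Subtype.ext
    apply mul_right_cancel (b := s)
    rw [hΦ]
    have h1 := hΦ (P q.2)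
    rw [hP] at h1
    rw [h1]
    show ((P q.2).1 : Γ) * q.1 * (((q.1 : Γ)⁻¹ * (P q.2).2 * q.1) * s) * (((P q.2).1 : Γ) * q.1)⁻¹ = _
    have h2 := hCs q.1 q.1.2
    calc ((P q.2).1 : Γ) * q.1 * (((q.1 : Γ)⁻¹ * (P q.2).2 * q.1) * s) * (((P q.2).1 : Γ) * q.1)⁻¹ =
        ((P q.2).1 : Γ) * ((P q.2).2 * (q.1 * s) * (q.1 : Γ)⁻¹) * ((P q.2).1 : Γ)⁻¹ := by group
      _ = _ := by rw [h2]; group
  have hbij : Function.Bijective Ψ := by
    constructor
    · intro q q' h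
      have h1 : q.2 = q'.2 := by rw [← hΦΨ q, h, hΦΨ]
      have h2 : (P q.2).1 * ⟨q.1, hCG q.1.2⟩ = (P q'.2).1 * ⟨q'.1, hCG q'.1.2⟩ := congrArg Prod.fst h
      rw [h1] at h2
      have h3 := mul_left_cancel h2
      have h4 : (q.1 : Γ) = q'.1 := congrArg (fun x : G => (x : Γ)) h3
      exact Prod.ext (Subtype.ext h4) h1
    · intro p
      have h1 := hΦ (P (Φ p))
      rw [hP, hΦ p] at h1
      have h2 := mem_of_conj_eq hcop hs (P (Φ p)).1.2 p.1.2 (hC ▸ (P (Φ p)).2.2) (hC ▸ p.2.2) h1.symm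
      rw [← hC] at h2
      refine ⟨(⟨_, h2⟩, Φ p), ?_⟩
      have e1 : (Ψ (⟨_, h2⟩, Φ p)).1 = p.1 := by
        apply Subtype.ext
        show ((P (Φ p)).1 : Γ) * (((P (Φ p)).1 : Γ)⁻¹ * p.1) = p.1
        group
      refine Prod.ext e1 ?_
      apply Subtype.ext
      apply mul_right_cancel (b := s)
      have h3 := hΦ (Ψ (⟨_, h2⟩, Φ p))
      rw [hΦΨ, hΦ p, e1] at h3
      exact (mul_left_cancel (mul_right_cancel h3)).symm
  have hsum : ∑ p : G × C, F (Φ p * s) = ∑ q : C × G, F (q.2 * s) := by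
    symm
    refine Fintype.sum_bijective Ψ hbij _ _ (fun q => ?_)
    rw [hΦΨ]
  have hl : ∑ p : G × C, F (Φ p * s) = (Nat.card G : ℂ) * ∑ c : C, F (c * s) := by
    rw [Fintype.sum_prod_type]
    have : ∀ x : G, ∑ c : C, F ((Φ (x, c) : G) * s) = ∑ c : C, F (c * s) := by
      intro x
      refine Finset.sum_congr rfl fun c _ => ?_
      rw [hΦ]
      exact hF x x.2 _
    rw [Finset.sum_congr rfl (fun x _ => this x)]
    simp
  have hr : ∑ q : C × G, F ((q.2 : Γ) * s) = (Nat.card C : ℂ) * ∑ g : G, F (g * s) := by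
    rw [Fintype.sum_prod_type]
    simp
  have hG0 : (Nat.card G : ℂ) ≠ 0 := Nat.cast_ne_zero.2 Nat.card_pos.ne'
  have hC0 : (Nat.card C : ℂ) ≠ 0 := Nat.cast_ne_zero.2 Nat.card_pos.ne'
  rw [hl, hr] at hsum
  rw [eq_comm]
  field_simp
  rw [mul_comm (∑ c : C, F (↑c * s)), hsum]

end Cfsg.Agent.H594.CosetSum
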