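import Mathlib
import Cfsg.Agent.Characters.Clifford
import Cfsg.Agent.Solvable.Glauberman
import Cfsg.Agent.CharactersDeep.AbelianQuotient

/-!
# Coprime action on irreducible characters: Glauberman's lemma (helper594)

* `autPerm G : MulAut G →* Perm (IrrCharacter G)`: automorphisms permute the irreducible characters.
* `conjAut`: the action by conjugation of a subgroup `S` normalising `H` on `H`.
* `perm_fixed`: Glauberman's lemma for two homomorphisms to the group of permutations.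
* `exists_below`: an `S`-invariant irreducible character of `G` has an `S`-invariant constituent on `N`
  (`(#S, [G:N]) = 1`, `S` or `G/N` solvable).
* `exists_above_of_comm`: an `S`-invariant irreducible character of `N` lies under an `S`-invariant one of `G`
  if `G/N` is commutative and `(#S, [G:N]) = 1`.
-/

set_option autoImplicit false
open Cfsg

namespace Cfsg.Agent.H594.Glau

open Cfsg.Agent.Characters.Core Cfsg.Agent.Characters.Clifford
open scoped ComplexConjugate

/-- Automorphisms permute the irreducible characters. -/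
noncomputable def autPerm (G : Type*) [Group G] : MulAut G →* Equiv.Perm (IrrCharacter G) where
  toFun e :=
    { toFun := fun χ => ⟨χ.1 ∘ (e⁻¹ : MulAut G),
        isIrr_comp ((e⁻¹ : MulAut G) : G →* G) (e⁻¹ : MulAut G).surjective χ.2⟩
      invFun := fun χ => ⟨χ.1 ∘ e, isIrr_comp (e : G →* G) e.surjective χ.2⟩
      left_inv := fun χ => by
        apply Subtype.ext
        funext g
        simp
      right_inv := fun χ => by
        apply Subtype.ext
        funext g
        simp }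
  map_one' := by
    ext χ g
    simp
  map_mul' e f := by
    ext χ g
    simp [mul_inv_rev]

theorem autPerm_apply {G : Type*} [Group G] (e : MulAut G) (χ : IrrCharacter G) (g : G) :
    (autPerm G e χ : G → ℂ) g = (χ : G → ℂ) (e⁻¹ g) := rfl

theorem autPerm_apply_apply {G : Type*} [Group G] (e : MulAut G) (χ : IrrCharacter G) (g : G) :
    (autPerm G e χ : G → ℂ) (e g) = (χ : G → ℂ) g := by
  rw [autPerm_apply]; simp

/-- Conjugation by the elements of a subgroup `S` which normalises `H`. -/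
noncomputable def conjAut {Γ : Type*} [Group Γ] (H S : Subgroup Γ)
    (h : ∀ s ∈ S, ∀ g ∈ H, s * g * s⁻¹ ∈ H) : S →* MulAut H :=
  (Subgroup.normalizerMonoidHom H).comp (Subgroup.inclusion (show S ≤ Subgroup.normalizer (H : Set Γ) from
    fun s hs => by
      rw [Subgroup.mem_normalizer_iff]
      intro g
      refine ⟨h s hs g, fun hg => ?_⟩
      have := h s⁻¹ (S.inv_mem hs) _ hg
      simpa [mul_assoc] using this))

theorem conjAut_apply {Γ : Type*} [Group Γ] (H S : Subgroup Γ)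
    (h : ∀ s ∈ S, ∀ g ∈ H, s * g * s⁻¹ ∈ H) (s : S) (g : H) :
    ((conjAut H S h s g : H) : Γ) = s * g * (s : Γ)⁻¹ := rfl

theorem invariant_iff {Γ : Type*} [Group Γ] (H S : Subgroup Γ)
    (h : ∀ s ∈ S, ∀ g ∈ H, s * g * s⁻¹ ∈ H) (χ : IrrCharacter H) :
    (∀ s ∈ S, ∀ g g' : H, (g' : Γ) = s * g * s⁻¹ → (χ : H → ℂ) g' = (χ : H → ℂ) g) ↔
      ∀ s : S, autPerm H (conjAut H S h s) χ = χ := by
  constructor
  · intro H1 s
    apply Subtype.ext
    funext g
    have e := autPerm_apply (conjAut H S h s) χ g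
    rw [e]
    obtain ⟨g0, rfl⟩ := (conjAut H S h s).surjective g
    have e2 : (conjAut H S h s)⁻¹ (conjAut H S h s g0) = g0 := by simp
    rw [e2]
    exact (H1 s s.2 g0 _ rfl).symm
  · intro H1 s hs g g' hg'
    have e1 : g' = conjAut H S h ⟨s, hs⟩ g := Subtype.ext hg'
    have e2 := H1 ⟨s, hs⟩
    rw [e1]
    conv_lhs => rw [← e2]
    exact autPerm_apply_apply _ _ _

/-- **Glauberman's lemma** for two homomorphisms to the group of permutations of a finite set. -/
theorem perm_fixed {X A K : Type*} [Finite X] [Group A] [Group K] (f : A →* Equiv.Perm X)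
    (h : K →* Equiv.Perm X) (hn : ∀ a k, ∃ k', f a * h k * (f a)⁻¹ = h k')
    (hcop : (Nat.card f.range).Coprime (Nat.card h.range))
    (hsolv : Group.IsSolvable f.range ∨ Group.IsSolvable h.range) (x : X)
    (hx : ∀ a, ∃ k, f a x = h k x) : ∃ k, ∀ a, f a (h k x) = h k x := by
  obtain ⟨k', ⟨k, rfl⟩, hk⟩ := Cfsg.Agent.Solvable.Glauberman.exists_smul_fixed f.range h.range (by
      rintro _ ⟨a, rfl⟩
      rw [Subgroup.mem_normalizer_iff]
      intro y
      constructor
      · rintro ⟨k, rfl⟩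
        obtain ⟨k', hk'⟩ := hn a k
        exact ⟨k', hk'.symm⟩
      · rintro ⟨k, hk⟩
        obtain ⟨k', hk'⟩ := hn a⁻¹ k
        refine ⟨k', ?_⟩
        rw [← hk', hk, map_inv]
        group) hcop hsolv x (by
      rintro _ ⟨a, rfl⟩
      obtain ⟨k, hk⟩ := hx a
      exact ⟨h k, ⟨k, rfl⟩, hk⟩)
  exact ⟨k, fun a => hk (f a) ⟨a, rfl⟩⟩

theorem card_range_dvd {A B : Type*} [Group A] [Group B] (f : A →* B) (N : Subgroup A) [N.Normal]
    (hN : N ≤ f.ker) : Nat.card f.range ∣ N.index := by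
  rw [← Subgroup.index_ker]
  exact Subgroup.index_dvd_of_le hN

theorem solvable_range {A B : Type*} [Group A] [Group B] (f : A →* B) (N : Subgroup A) [N.Normal]
    (hN : N ≤ f.ker) (h : Group.IsSolvable (A ⧸ N)) : Group.IsSolvable f.range := by
  have := h
  refine Group.isSolvable_of_surjective (f := (QuotientGroup.lift N f.rangeRestrict (by
    intro x hx
    apply Subtype.ext
    exact hN hx))) ?_
  rintro ⟨_, ⟨a, rfl⟩⟩
  exact ⟨(a : A ⧸ N), rfl⟩

/-- A nonzero class function has an irreducible constituent. -/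
theorem exists_irr {G : Type*} [Group G] [Fintype G] {f : G → ℂ} (hf : IsClassFunction G f) (h0 : f ≠ 0) :
    ∃ θ : IrrCharacter G, classInner f (θ : G → ℂ) ≠ 0 := by
  by_contra hcon
  push Not at hcon
  exact h0 (classFunction_eq_zero hf fun χ hχ => hcon ⟨χ, hχ⟩)

theorem inner_subgroupOf {Γ : Type*} [Group Γ] (G N : Subgroup Γ) [Fintype N] (hNG : N ≤ G)
    [Fintype (N.subgroupOf G)] (χ : G → ℂ) (θ : N → ℂ) :
    classInner (fun n : N.subgroupOf G => χ n) (θ ∘ (Subgroup.subgroupOfEquivOfLe hNG)) =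
      classInner (fun n : N => χ ⟨n, hNG n.2⟩) θ :=
  classInner_comp_mulEquiv (Subgroup.subgroupOfEquivOfLe hNG) (fun n : N => χ ⟨n, hNG n.2⟩) θ

theorem conj_mem_of_normal {Γ : Type*} [Group Γ] {G N : Subgroup Γ} (hNG : N ≤ G)
    [hNn : (N.subgroupOf G).Normal] : ∀ g ∈ G, ∀ n ∈ N, g * n * g⁻¹ ∈ N := by
  intro g hg n hn
  exact hNn.conj_mem ⟨n, hNG hn⟩ hn ⟨g, hg⟩

/-- the kernel of the action by conjugation on the irreducible characters contains the inner automorphisms -/
theorem autPerm_inner {Γ : Type*} [Group Γ] (N G : Subgroup Γ) (h : ∀ s ∈ G, ∀ g ∈ N, s * g * s⁻¹ ∈ N) :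
    N.subgroupOf G ≤ ((autPerm N).comp (conjAut N G h)).ker := by
  intro n hn
  rw [MonoidHom.mem_ker]
  ext χ g
  obtain ⟨g0, rfl⟩ := (conjAut N G h n).surjective g
  have e1 : (autPerm N (conjAut N G h n) χ : N → ℂ) (conjAut N G h n g0) = (χ : N → ℂ) g0 :=
    autPerm_apply_apply _ _ _
  have e2 : conjAut N G h n g0 = (⟨n, hn⟩ : N) * g0 * (⟨n, hn⟩ : N)⁻¹ := Subtype.ext rfl
  have e3 := isIrr_isClassFunction χ.2 g0 ⟨n, hn⟩
  exact e1.trans ((e3.symm).trans (congrArg _ e2.symm))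

theorem comp_conj {Γ : Type*} [Group Γ] (N G S : Subgroup Γ) (hG : ∀ s ∈ G, ∀ g ∈ N, s * g * s⁻¹ ∈ N)
    (hS : ∀ s ∈ S, ∀ g ∈ N, s * g * s⁻¹ ∈ N) (hGS : ∀ s ∈ S, ∀ g ∈ G, s * g * s⁻¹ ∈ G) (s : S) (g : G) :
    conjAut N S hS s * conjAut N G hG g * (conjAut N S hS s)⁻¹ = conjAut N G hG (conjAut G S hGS s g) := by
  ext n
  obtain ⟨n0, rfl⟩ := (conjAut N S hS s).surjective n
  have e2 : (conjAut N S hS s)⁻¹ (conjAut N S hS s n0) = n0 := by simp
  rw [MulAut.mul_apply, MulAut.mul_apply, e2]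
  simp only [conjAut_apply]
  group

/-- **Isaacs, Theorem 13.27**: constituents below. -/
theorem exists_below {Γ : Type*} [Group Γ] [Finite Γ] (G S N : Subgroup Γ) [Fintype G] [Fintype N]
    (hnorm : ∀ s ∈ S, ∀ g ∈ G, s * g * s⁻¹ ∈ G) (hNG : N ≤ G) [hNn : (N.subgroupOf G).Normal]
    (hNS : ∀ s ∈ S, ∀ n ∈ N, s * n * s⁻¹ ∈ N) (hcop : (N.relIndex G).Coprime (Nat.card S))
    (hsolv : Group.IsSolvable S ∨ Group.IsSolvable (G ⧸ N.subgroupOf G)) (χ : IrrCharacter G)
    (hinv : ∀ s ∈ S, ∀ g g' : G, (g' : Γ) = s * g * s⁻¹ → (χ : G → ℂ) g' = (χ : G → ℂ) g) :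
    ∃ θ : IrrCharacter N, classInner (fun n : N => (χ : G → ℂ) ⟨n, hNG n.2⟩) (θ : N → ℂ) ≠ 0 ∧
      (∀ s ∈ S, ∀ g g' : N, (g' : Γ) = s * g * s⁻¹ → (θ : N → ℂ) g' = (θ : N → ℂ) g) := by
  classical
  have hconj := conj_mem_of_normal hNG
  have hfin := finite_irr (G := N)
  set f : S →* Equiv.Perm (IrrCharacter N) := (autPerm N).comp (conjAut N S hNS) with hf
  set h : G →* Equiv.Perm (IrrCharacter N) := (autPerm N).comp (conjAut N G hconj) with hh
  have hker : N.subgroupOf G ≤ h.ker := autPerm_inner N G hconj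
  -- a constituent
  have hcf : IsClassFunction N (fun n : N => (χ : G → ℂ) ⟨n, hNG n.2⟩) := by
    intro g x
    exact isIrr_isClassFunction χ.2 ⟨g, hNG g.2⟩ ⟨x, hNG x.2⟩
  obtain ⟨θ0, hθ0⟩ := exists_irr hcf (fun h0 => by
    have := congrFun h0 1
    exact isIrr_apply_one_ne_zero χ.2 this)
  -- inner products are invariant
  have hinner : ∀ (e : MulAut N), (∀ n : N, (χ : G → ℂ) ⟨(e n : N), hNG (e n).2⟩ = (χ : G → ℂ) ⟨n, hNG n.2⟩) →
      ∀ θ : IrrCharacter N, classInner (fun n : N => (χ : G → ℂ) ⟨n, hNG n.2⟩) (autPerm N e θ : N → ℂ) =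
        classInner (fun n : N => (χ : G → ℂ) ⟨n, hNG n.2⟩) (θ : N → ℂ) := by
    intro e he θ
    have h1 := classInner_comp_mulEquiv e (fun n : N => (χ : G → ℂ) ⟨n, hNG n.2⟩) (autPerm N e θ : N → ℂ)
    rw [← h1]
    congr 1
    · funext n; exact he n
    · funext n; exact autPerm_apply_apply _ _ _
  have hS : ∀ (s : S) (θ : IrrCharacter N), classInner (fun n : N => (χ : G → ℂ) ⟨n, hNG n.2⟩) (f s θ : N → ℂ) =
      classInner (fun n : N => (χ : G → ℂ) ⟨n, hNG n.2⟩) (θ : N → ℂ) := by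
    intro s θ
    exact hinner _ (fun n => hinv s s.2 ⟨n, hNG n.2⟩ _ rfl) θ
  have hG : ∀ (g : G) (θ : IrrCharacter N), classInner (fun n : N => (χ : G → ℂ) ⟨n, hNG n.2⟩) (h g θ : N → ℂ) =
      classInner (fun n : N => (χ : G → ℂ) ⟨n, hNG n.2⟩) (θ : N → ℂ) := by
    intro g θ
    exact hinner _ (fun n => isIrr_isClassFunction χ.2 ⟨n, hNG n.2⟩ g) θ
  obtain ⟨g, hg⟩ := perm_fixed f h (fun s g => ⟨conjAut G S hnorm s g, by
      rw [hf, hh]
      simp only [MonoidHom.comp_apply]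
      rw [← map_mul, ← map_inv, ← map_mul, comp_conj N G S hconj hNS hnorm]⟩)
    (Nat.Coprime.coprime_dvd_left (Subgroup.card_range_dvd f)
      (Nat.Coprime.coprime_dvd_right (card_range_dvd h (N.subgroupOf G) hker) hcop.symm))
    (by
      rcases hsolv with h1 | h1
      · left
        have := h1
        exact Group.isSolvable_of_surjective (f := f.rangeRestrict) f.rangeRestrict_surjective
      · right
        exact solvable_range h (N.subgroupOf G) hker h1) θ0 (by
      intro s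
      have h1 : classInner (fun n : N => (χ : G → ℂ) ⟨n, hNG n.2⟩) (f s θ0 : N → ℂ) ≠ 0 := by
        rw [hS]; exact hθ0
      obtain ⟨g, hg⟩ := exists_conj_of_constituents (N.subgroupOf G) χ.2
        (χ := (θ0 : N → ℂ) ∘ (Subgroup.subgroupOfEquivOfLe hNG)) (ψ := (f s θ0 : N → ℂ) ∘ (Subgroup.subgroupOfEquivOfLe hNG))
        (isIrr_comp (Subgroup.subgroupOfEquivOfLe hNG).toMonoidHom (Subgroup.subgroupOfEquivOfLe hNG).surjective θ0.2)
        (isIrr_comp (Subgroup.subgroupOfEquivOfLe hNG).toMonoidHom (Subgroup.subgroupOfEquivOfLe hNG).surjective (f s θ0).2)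
        (by rw [inner_subgroupOf]; exact hθ0) (by rw [inner_subgroupOf]; exact h1)
      refine ⟨g⁻¹, ?_⟩
      apply Subtype.ext
      funext n
      have h2 := congrFun hg ⟨⟨n, hNG n.2⟩, n.2⟩
      refine h2.trans ?_
      have h3 : (h g⁻¹ θ0 : N → ℂ) (conjAut N G hconj g⁻¹ (conjAut N G hconj g n)) = (θ0 : N → ℂ) (conjAut N G hconj g n) :=
        autPerm_apply_apply _ _ _
      have h4 : conjAut N G hconj g⁻¹ (conjAut N G hconj g n) = n := by
        rw [map_inv]; simp
      rw [h4] at h3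
      rw [h3]
      rfl)
  refine ⟨h g θ0, ?_, ?_⟩
  · rw [hG]; exact hθ0
  · rw [invariant_iff N S hNS]
    exact hg

end Cfsg.Agent.H594.Glau
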