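import Cfsg.Agent.H594.BFive
import Cfsg.Agent.BabyM.InstVec
import Cfsg.Agent.H863.BGL
import Cfsg.Agent.H995.IMBRow
import Cfsg.Agent.CpAut.TwoInnerB
import Cfsg.Agent.H387.VO.Main
import Cfsg.Agent.H419.Row
import Cfsg.Agent.PermutationGroups.PermChar
import Cfsg.Agent.CharDeep.LinearChar

/-!
# S4987, the Baby Monster (helper594)

* `vz_of_trace` : elements on which the character of degree 4371 vanishes;
* `vz_of_dz` : elements of order divisible by `11`, ...;
* `two_b_5` : the case `p = 5`.
-/

set_option autoImplicit false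
set_option maxRecDepth 100000

namespace Cfsg.Agent.H594.BTr

open Cfsg Cfsg.Agent.Monster
open Cfsg.Agent.Monster.VecEngine (Pl val)
open Cfsg.Agent.Monster.VecSpace (Lane vecU checkFixE_sound)
open Cfsg.Agent.Monster.VecEngine (checkFix)
open Cfsg.Agent.BabyM.Conc Cfsg.Agent.BabyM
open Cfsg.Agent.H863.BRep (G gW gE)
open Cfsg.Agent.H863.BGL (iso)

universe u

/-- The representation of degree 4371. -/
noncomputable def rho : Representation ℂ Spor.BabyMonster (Lane U → ℂ) :=
  (H863.BRep.sigma (F := ℂ) two_ne_zero).comp iso.toMonoidHom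

theorem rho_apply (g : Spor.BabyMonster) : rho g = H863.BRep.sigma (F := ℂ) two_ne_zero (iso g) := rfl

theorem rho_irr : rho.IsIrreducible := by
  rw [CharDeep.LinearChar.isIrreducible_iff]
  have h1 : Module.finrank ℂ (Lane U → ℂ) = 4371 := by
    rw [Module.finrank_fintype_fun_eq_card, card_lane]
  refine ⟨Module.nontrivial_of_finrank_pos (R := ℂ) (by rw [h1]; norm_num), fun W hW => ?_⟩
  refine H863.BFin.irred two_ne_zero W fun g m hm => ?_
  have h := hW (iso.symm g) m hm
  rwa [rho_apply, MulEquiv.apply_symm_apply] at h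

/-- The character of degree 4371. -/
theorem isIrr : IsIrrCharacter Spor.BabyMonster rho.character := PermutationGroups.PermChar.isIrr_of_rep rho rho_irr

/-- **Elements on which the character of degree 4371 vanishes.** -/
theorem vz_of_trace {g : G} (h : LinearMap.trace ℂ (Lane U → ℂ) (H863.BRep.sigma (F := ℂ) two_ne_zero g) = 0) :
    H713.VZ Spor.BabyMonster (iso.symm g) := by
  refine ⟨⟨rho.character, isIrr⟩, fun α => ?_⟩
  obtain ⟨c, rfl⟩ := CpAut.TwoInner.inner_b α
  show rho.character (c * iso.symm g * c⁻¹) = 0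
  rw [Representation.char_conj]
  show LinearMap.trace ℂ (Lane U → ℂ) (rho (iso.symm g)) = 0
  rw [rho_apply, MulEquiv.apply_symm_apply, h]

theorem finite_b : Finite Spor.BabyMonster :=
  Nat.finite_of_card_ne_zero (by rw [BM.KHAll.card_B]; norm_num)

/-- Elements of order divisible by a prime of defect zero. -/
theorem vz_of_dvd {p : ℕ} (hp : p.Prime) (h : (4154781481226426191177580544000000 : ℕ).factorization p = 1) {d : ℕ}
    (hd : d ∈ H995.IMB.ds) (hpd : p ∣ d) {x : Spor.BabyMonster} (hx : p ∣ orderOf x) :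
    H713.VZ Spor.BabyMonster x := by
  have := finite_b
  obtain ⟨χ, -, hχ⟩ := H995.IMB.deg_b (S := Spor.BabyMonster) ⟨MulEquiv.refl _⟩ hd
  refine H419.Row.vz_of_dz hp (H419.Row.dz_of_dvd (n := 1) χ (by rw [hχ, pow_one]; exact hpd) ?_ hp) hx
  rw [BM.KHAll.card_B, h]

/-! ### `p = 5` -/

/-- the word of an element of order 55 -/
def v55 : List Ltr := [.xi, .p7, .taui, .y2]

theorem mv5 : mvchk (rep v55 5) InstVec.dv0 17 = true := by decide +kernel

theorem mv11 : mvchk (rep v55 11) InstVec.dv0 3 = true := by decide +kernel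

theorem fix55 : checkFix ((rep v55 55).map Ltr.prog) InstVec.dv0 = true := by decide +kernel

theorem order55 : 55 ∣ orderOf (gW v55) := by
  apply dvd_order (x := InstVec.dv0)
  have h1 := (fix_iff v55 55 _).1 (W_fix_of_check fix55)
  have h3 : ¬ MulAction.period (gW v55) (vecU ℚ U InstVec.dv0) ∣ 5 := fun h =>
    W_ne_of_mvchk (i := 17) (by decide +kernel) mv5 ((fix_iff v55 5 _).2 h)
  have h4 : ¬ MulAction.period (gW v55) (vecU ℚ U InstVec.dv0) ∣ 11 := fun h =>
    W_ne_of_mvchk (i := 3) (by decide +kernel) mv11 ((fix_iff v55 11 _).2 h)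
  generalize MulAction.period (gW v55) (vecU ℚ U InstVec.dv0) = n at h1 h3 h4
  have h5 : n ≤ 55 := Nat.le_of_dvd (by norm_num) h1
  interval_cases n <;> revert h1 h3 h4 <;> decide

/-- A power of exact order. -/
theorem exists_exact {H : Type*} [Group H] [Finite H] {g : H} {n : ℕ} (h : n ∣ orderOf g) : ∃ y : H, orderOf y = n := by
  obtain ⟨k, hk⟩ := h
  have h0 : 0 < orderOf g := orderOf_pos g
  have hk0 : k ≠ 0 := by rintro rfl; omega
  refine ⟨g ^ k, ?_⟩
  rw [orderOf_pow_of_dvd hk0 ⟨n, by rw [hk, mul_comm]⟩, hk, Nat.mul_div_cancel _ (Nat.pos_of_ne_zero hk0)]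

theorem two_five : H387.VO.TwoVan 5 Spor.BabyMonster := by
  have := finite_b
  obtain ⟨y, hy⟩ := exists_exact (g := iso.symm (gW v55)) (n := 55) (by
    rw [MulEquiv.orderOf_eq]; exact order55)
  have hx : 20 ∣ orderOf (iso.symm (gW v20)) := by
    rw [MulEquiv.orderOf_eq]; exact order20
  have h11 : (4154781481226426191177580544000000 : ℕ).factorization 11 = 1 := by
    have h1 := ((show Nat.Prime 11 by norm_num).dvd_iff_one_le_factorization (by norm_num)).1
      (show 11 ∣ 4154781481226426191177580544000000 by norm_num)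
    have h3 : ¬ 2 ≤ (4154781481226426191177580544000000 : ℕ).factorization 11 := fun h =>
      absurd (((show Nat.Prime 11 by norm_num).pow_dvd_iff_le_factorization (by norm_num)).2 h) (by norm_num)
    omega
  refine H387.VO.TwoVan.of_order (x := iso.symm (gW v20)) (y := y) (dvd_trans (by norm_num) hx)
    (by rw [hy]; norm_num) (vz_of_trace (trace20 _))
    (vz_of_dvd (p := 11) (by norm_num) h11 (d := 4275362520) (by decide) (by norm_num) (by rw [hy]; norm_num)) ?_
  intro h
  rw [h, hy] at hx
  revert hx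
  decide

/-- **S4987, `B`, `p = 5`.** -/
theorem two_b_5 {K : Type u} [Group K] (h : Spor.IsoB K) : H387.VO.TwoVan 5 K := by
  obtain ⟨e⟩ := h
  exact two_five.mulEquiv e.symm

end Cfsg.Agent.H594.BTr
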