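import Cfsg.Agent.H594.BTrC

/-!
# Two elements of the Baby Monster (helper594)

* `g20` : an element of order divisible by `20` on which the character of degree `4371` vanishes;
* `g55` : an element of order divisible by `55`.
-/

set_option autoImplicit false
set_option maxRecDepth 100000

namespace Cfsg.Agent.H594.BTr

open Cfsg.Agent.Monster Cfsg.Agent.Monster.VecEngine Cfsg.Agent.Monster.VecSpace
open Cfsg.Agent.Monster.PauliBasic Cfsg.Agent.Monster.PauliRep Cfsg.Agent.Monster.PauliClif Cfsg.Agent.Monster.PauliBits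
open Cfsg.Agent.BabyM.QAct
open Cfsg.Agent.BabyM.Conc Cfsg.Agent.BabyM.KTab Cfsg.Agent.BabyM.KQ
open Cfsg.Agent.BabyM
open Cfsg.Agent.H863.BRed Cfsg.Agent.H863.BRep Cfsg.Agent.H863.BCode Cfsg.Agent.H863.BStage Cfsg.Agent.H863.BGrp
open Cfsg.Agent.H863.BMdl Cfsg.Agent.H863.BInst
open Cfsg.Agent.Lib.PermNet Cfsg.Agent.MonsterX.VecRel

/-- the word of an element of order 20 -/
def v20 : List Ltr := [.p, .xi, .p, .p, .p, .xi]

/-- an element of the Pauli group -/
def pz : List Ltr := [.X0, .X4, .X6, .X7, .X10, .Z0, .Z7, .Z10]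

/-- the diagonal entries, times 16 -/
def dg : ℕ → ℤ := fun k => [0, 8, 0, 4, 4, 0, 0, 4, -4, 0, 0, -4, -4, 0, -4, -4, -4, 0, 4, 0, -4, 4, 0].getD k 0

theorem dg0 : dchk v20 4 (1344 + 0) (dg 0) = true := by decide +kernel
theorem dg1 : dchk v20 4 (1344 + 1) (dg 1) = true := by decide +kernel
theorem dg2 : dchk v20 4 (1344 + 2) (dg 2) = true := by decide +kernel
theorem dg3 : dchk v20 4 (1344 + 3) (dg 3) = true := by decide +kernel
theorem dg4 : dchk v20 4 (1344 + 4) (dg 4) = true := by decide +kernel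
theorem dg5 : dchk v20 4 (1344 + 5) (dg 5) = true := by decide +kernel
theorem dg6 : dchk v20 4 (1344 + 6) (dg 6) = true := by decide +kernel
theorem dg7 : dchk v20 4 (1344 + 7) (dg 7) = true := by decide +kernel
theorem dg8 : dchk v20 4 (1344 + 8) (dg 8) = true := by decide +kernel
theorem dg9 : dchk v20 4 (1344 + 9) (dg 9) = true := by decide +kernel
theorem dg10 : dchk v20 4 (1344 + 10) (dg 10) = true := by decide +kernel
theorem dg11 : dchk v20 4 (1344 + 11) (dg 11) = true := by decide +kernel
theorem dg12 : dchk v20 4 (1344 + 12) (dg 12) = true := by decide +kernel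
theorem dg13 : dchk v20 4 (1344 + 13) (dg 13) = true := by decide +kernel
theorem dg14 : dchk v20 4 (1344 + 14) (dg 14) = true := by decide +kernel
theorem dg15 : dchk v20 4 (1344 + 15) (dg 15) = true := by decide +kernel
theorem dg16 : dchk v20 4 (1344 + 16) (dg 16) = true := by decide +kernel
theorem dg17 : dchk v20 4 (1344 + 17) (dg 17) = true := by decide +kernel
theorem dg18 : dchk v20 4 (1344 + 18) (dg 18) = true := by decide +kernel
theorem dg19 : dchk v20 4 (1344 + 19) (dg 19) = true := by decide +kernel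
theorem dg20 : dchk v20 4 (1344 + 20) (dg 20) = true := by decide +kernel
theorem dg21 : dchk v20 4 (1344 + 21) (dg 21) = true := by decide +kernel
theorem dg22 : dchk v20 4 (1344 + 22) (dg 22) = true := by decide +kernel

theorem dgs : ∀ k < 23, dchk v20 4 (1344 + k) (dg k) = true := by
  intro k hk
  interval_cases k
  · exact dg0
  · exact dg1
  · exact dg2
  · exact dg3
  · exact dg4
  · exact dg5
  · exact dg6
  · exact dg7
  · exact dg8
  · exact dg9
  · exact dg10
  · exact dg11
  · exact dg12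
  · exact dg13
  · exact dg14
  · exact dg15
  · exact dg16
  · exact dg17
  · exact dg18
  · exact dg19
  · exact dg20
  · exact dg21
  · exact dg22

theorem xchk20 : xchk v20 = true := by decide +kernel

theorem allW20 : allW v20 = true := rfl

theorem sgA : runL ((pz ++ v20).map Ltr.prog) (shl 4 (2 ^ 4096)) (fun y => decide (val y 4102 = 1)) = true := by
  decide +kernel

theorem sgB : runL ((v20 ++ pz).map Ltr.prog) (shl 4 (2 ^ 4096)) (fun y => decide (val y 4102 = -1)) = true := by
  decide +kernel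

theorem lw20 : lw v20 0x268c81 = 0x268c81 := by decide +kernel

theorem cwp : Nat.land (cw pz) 0x3fffff = 0x268c81 := by decide +kernel

theorem conj20 : (gW pz)⁻¹ * gW v20 * gW pz = gW v20 * gE .z := by
  refine conj_z allW20 rfl (c := 0x268c81) ?_ lw20 (by decide +kernel) sgA sgB (by norm_num)
  rw [← cwp]
  exact (ab_dec_mask _).symm

/-- **The character of degree 4371 vanishes.** -/
theorem trace20 {F : Type*} [Field F] (h2 : (2 : F) ≠ 0) :
    LinearMap.trace F (Lane U → F) (sigma h2 (gW v20)) = 0 :=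
  trace_zero h2 allW20 conj20 xchk20 dg dgs (by decide)

theorem fix20 : checkFix ((rep v20 20).map Ltr.prog) (shl 4 (2 ^ 0)) = true := by decide +kernel

theorem mv10 : mvchk (rep v20 10) (shl 4 (2 ^ 0)) 0 = true := by decide +kernel

theorem mv4 : mvchk (rep v20 4) (shl 4 (2 ^ 0)) 0 = true := by decide +kernel

theorem order20 : 20 ∣ orderOf (gW v20) := by
  apply dvd_order (x := shl 4 (2 ^ 0))
  have h1 := (fix_iff v20 20 _).1 (W_fix_of_check fix20)
  have h3 : ¬ MulAction.period (gW v20) (vecU ℚ U (shl 4 (2 ^ 0))) ∣ 10 := fun h =>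
    W_ne_of_mvchk (i := 0) (by decide +kernel) mv10 ((fix_iff v20 10 _).2 h)
  have h4 : ¬ MulAction.period (gW v20) (vecU ℚ U (shl 4 (2 ^ 0))) ∣ 4 := fun h =>
    W_ne_of_mvchk (i := 0) (by decide +kernel) mv4 ((fix_iff v20 4 _).2 h)
  generalize MulAction.period (gW v20) (vecU ℚ U (shl 4 (2 ^ 0))) = n at h1 h3 h4
  have h5 : n ≤ 20 := Nat.le_of_dvd (by norm_num) h1
  interval_cases n <;> revert h1 h3 h4 <;> decide

end Cfsg.Agent.H594.BTr
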