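import Mathlib
import Cfsg.Agent.H863.BFin

/-!
# Traces on the module of degree 4371 of the Baby Monster (helper594)

* `trace_sum` : the trace as a sum over the lanes;
* `q_zero` : if `g` is conjugate to `g z` by an element commuting with `z`, the `2048`-part contributes `0`;
* `x_zero` : the `2300`-part contributes `0` if no code of an `X`-lane is fixed;
* `trace_zero` : the criterion.
-/

set_option autoImplicit false

namespace Cfsg.Agent.H594.BTr

open Cfsg.Agent.Monster Cfsg.Agent.Monster.VecEngine Cfsg.Agent.Monster.VecSpace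
open Cfsg.Agent.Monster.PauliBasic Cfsg.Agent.Monster.PauliRep Cfsg.Agent.Monster.PauliClif Cfsg.Agent.Monster.PauliBits
open Cfsg.Agent.BabyM.QAct
open Cfsg.Agent.BabyM.Conc Cfsg.Agent.BabyM.KTab Cfsg.Agent.BabyM.KQ
open Cfsg.Agent.BabyM
open Cfsg.Agent.H863.BRed Cfsg.Agent.H863.BRep Cfsg.Agent.H863.BCode Cfsg.Agent.H863.BStage Cfsg.Agent.H863.BGrp
open Cfsg.Agent.H863.BMdl Cfsg.Agent.H863.BInst
open Cfsg.Agent.Lib.PermNet

variable {F : Type*} [Field F] (h2 : (2 : F) ≠ 0)

/-- The diagonal entries. -/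
noncomputable def D (g : G) (i : Lane U) : F := sigma h2 g (Pi.single i 1) i

/-- The trace as a sum over the lanes. -/
theorem trace_sum (g : G) : LinearMap.trace F (Lane U → F) (sigma h2 g) = ∑ i, D h2 g i := by
  classical
  rw [LinearMap.trace_eq_matrix_trace F (Pi.basisFun F (Lane U))]
  unfold Matrix.trace
  refine Finset.sum_congr rfl fun i _ => ?_
  rw [Matrix.diag_apply, LinearMap.toMatrix_apply, Pi.basisFun_apply, Pi.basisFun_repr]
  rfl

theorem D_mul_z_q (g : G) {i : Lane U} (hi : Cd.isq i) : D h2 (g * gE .z) i = - D h2 g i := by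
  have h := (M h2).z_q hi
  have h' : sigma h2 (gE .z) (Pi.single i 1) = - (Pi.single i 1 : Lane U → F) := h
  unfold D
  rw [map_mul, Module.End.mul_apply, h', map_neg]
  rfl

theorem D_mul_z_l (g : G) {i : Lane U} (hi : ¬ Cd.isq i) : D h2 (g * gE .z) i = D h2 g i := by
  have h := (M h2).z_l hi
  have h' : sigma h2 (gE .z) (Pi.single i 1) = (Pi.single i 1 : Lane U → F) := h
  unfold D
  rw [map_mul, Module.End.mul_apply, h']

theorem trace_conj (g v : G) : LinearMap.trace F (Lane U → F) (sigma h2 (v⁻¹ * g * v)) =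
    LinearMap.trace F (Lane U → F) (sigma h2 g) := by
  rw [map_mul, LinearMap.trace_mul_comm, ← map_mul]
  congr 2
  group

open Classical in
/-- The contribution of the `2048`-part. -/
theorem q_zero {g v : G} (h : v⁻¹ * g * v = g * gE .z) : ∑ i, (if Cd.isq i then D h2 g i else 0) = 0 := by
  have h1 := trace_conj h2 g v
  rw [h, trace_sum, trace_sum] at h1
  have h3 : ∑ i, D h2 (g * gE .z) i = ∑ i, (D h2 g i - 2 * (if Cd.isq i then D h2 g i else 0)) := by
    refine Finset.sum_congr rfl fun i _ => ?_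
    by_cases hi : Cd.isq i
    · rw [if_pos hi, D_mul_z_q h2 g hi]; ring
    · rw [if_neg hi, D_mul_z_l h2 g hi]; ring
  rw [h3, Finset.sum_sub_distrib, ← Finset.mul_sum, sub_eq_self] at h1
  exact (mul_eq_zero.1 h1).resolve_left h2

/-- No contribution of an `X`-lane whose code is moved. -/
theorem x_zero {v : List Ltr} (hv : allW v = true) {i : Lane U} (hi : Cd.isX i) (hc : lw v (cd i.1) ≠ cd i.1)
    (hlt : lw v (cd i.1) < 2 ^ 22) : D h2 (gW v) i = 0 := by
  classical
  obtain ⟨α, hα, hX⟩ := KFact.fact (W v) (W_mem_C v hv)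
  obtain ⟨j, hj, s, t, h3, -, h5⟩ := hX i hi
  have hji : j ≠ i := by
    rintro rfl
    apply hc
    obtain ⟨q, hq1, hq2⟩ := Cj_word v hv (cd j.1) (Cd.c j) rfl
    have h6 : q = α (Cd.c j) := by
      apply Cd.R_injective
      apply mul_right_cancel (b := W v)
      rw [← hq1, hα]
    rw [h6, h3] at hq2
    have h7 : ab ((⟨s, 0, 0⟩ : Pauli 11) * Cd.c j) = ab (Cd.c j) := by
      refine Prod.ext ?_ ?_
      · show (0 : B 11) + (Cd.c j).a = _
        rw [zero_add]; rfl
      · show (0 : B 11) + (Cd.c j).b = _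
        rw [zero_add]; rfl
    rw [h7] at hq2
    exact (eq_of_ab_dec (cd_lt _) hlt hq2).symm
  have h8 := tr_mono h2 (g := gW v) h5
  unfold D
  rw [h8, Pi.smul_apply, Pi.single_eq_of_ne hji.symm, smul_zero]

end Cfsg.Agent.H594.BTr
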