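import Cfsg.Agent.H594.BTrA
import Cfsg.Agent.MonsterX.VecRel

/-!
# Traces on the module of degree 4371 of the Baby Monster: evaluation of entries (helper594)

* `run_single` : the images of the unit vectors;
* `trace_zero` : the criterion for `χ(g) = 0`;
* `orbit` : the order from an orbit of vectors.
-/

set_option autoImplicit false

namespace Cfsg.Agent.H594.BTr

open Cfsg.Agent.Monster Cfsg.Agent.Monster.VecEngine Cfsg.Agent.Monster.VecSpace
open Cfsg.Agent.Monster.PauliBasic Cfsg.Agent.Monster.PauliRep Cfsg.Agent.Monster.PauliClif Cfsg.Agent.Monster.PauliBits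
open Cfsg.Agent.BabyM.QAct
open Cfsg.Agent.BabyM.Conc Cfsg.Agent.BabyM.KTab Cfsg.Agent.BabyM.KQ
open Cfsg.Agent.BabyM
open Cfsg.Agent.H863.BRed Cfsg.Agent.H863.BRep Cfsg.Agent.H863.BCode Cfsg.Agent.H863.BStage Cfsg.Agent.H863.BGrp
open Cfsg.Agent.H863.BMdl Cfsg.Agent.H863.BInst
open Cfsg.Agent.Lib.PermNet Cfsg.Agent.MonsterX.VecRel

/-- The engine. -/
theorem W_run {v : List Ltr} {x : Pl} {k : Pl → Bool} (h : runL (v.map Ltr.prog) x k = true) :
    ∃ y : Pl, W v (vecU ℚ U x) = vecU ℚ U y ∧ k y = true := by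
  obtain ⟨y, hy, hk⟩ := runL_sound ℚ (m := 2 ^ 13) two_ne_zero _ (fun P hP => (good_progs v P hP).pres.ok) _ _ h
  refine ⟨y, ?_, hk⟩
  rw [W_apply, vecU_eq, vecU_eq, hy, res_semL ℚ fun P hP => (good_progs v P hP).pres]

variable {F : Type*} [Field F] (h2 : (2 : F) ≠ 0)

theorem run_single {v : List Ltr} {s : ℕ} {i : Lane U} {k : Pl → Bool}
    (h : runL (v.map Ltr.prog) (shl s (2 ^ i.1)) k = true) :
    ∃ y : Pl, k y = true ∧ ∀ j : Lane U, (2 : F) ^ s * sigma h2 (gW v) (Pi.single i 1) j = ((val y j.1 : ℤ) : F) := by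
  classical
  obtain ⟨y, hy, hk⟩ := W_run h
  refine ⟨y, hk, fun j => ?_⟩
  have h1 : sigma h2 (gW v) (up F fun j : Lane U => val (shl s (2 ^ i.1)) j.1) = up F fun j : Lane U => val y j.1 :=
    tr h2 (gW v) hy
  have h3 : (up F fun j : Lane U => val (shl s (2 ^ i.1)) j.1) = (2 : F) ^ s • (Pi.single i 1 : Lane U → F) := by
    funext j
    have h4 := congrFun (vec_shl (R := F) s (2 ^ i.1)) j.1
    change ((val (shl s (2 ^ i.1)) j.1 : ℤ) : F) = (2 : F) ^ s * (if (2 ^ i.1).testBit j.1 then 1 else 0) at h4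
    show ((val (shl s (2 ^ i.1)) j.1 : ℤ) : F) = (2 : F) ^ s * (Pi.single i 1 : Lane U → F) j
    rw [h4]
    congr 1
    by_cases hij : j = i
    · subst hij
      rw [Nat.testBit_two_pow_self, Pi.single_eq_same, if_pos rfl]
    · rw [Nat.testBit_two_pow_of_ne (fun h5 => hij (Subtype.ext h5.symm)), Pi.single_eq_of_ne hij]
      rfl
  rw [h3, map_smul] at h1
  exact congrFun h1 j

/-- The check of a diagonal entry. -/
noncomputable def dchk (v : List Ltr) (s i : ℕ) (a : ℤ) : Bool :=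
  runL (v.map Ltr.prog) (shl s (2 ^ i)) fun y => decide (val y i = a)

theorem D_of_dchk {v : List Ltr} {s : ℕ} {i : Lane U} {a : ℤ} (h : dchk v s i.1 a = true) :
    (2 : F) ^ s * D h2 (gW v) i = (a : F) := by
  obtain ⟨y, hk, hy⟩ := run_single h2 h
  have h1 : val y i.1 = a := of_decide_eq_true hk
  rw [← h1]
  exact hy i

open Classical in
/-- The contribution of the `23`-part. -/
theorem u_zero {v : List Ltr} {s : ℕ} (L : ℕ → ℤ) (h : ∀ k < 23, dchk v s (1344 + k) (L k) = true)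
    (h0 : ∑ k ∈ Finset.range 23, L k = 0) : ∑ i, (if Cd.isU i then D h2 (gW v) i else 0) = 0 := by
  have h1 : (2 : F) ^ s * ∑ i, (if Cd.isU i then D h2 (gW v) i else 0) =
      ∑ i : Lane U, (fun j : ℕ => if 1344 ≤ j ∧ j ≤ 1366 then ((L (j - 1344) : ℤ) : F) else 0) i.1 := by
    rw [Finset.mul_sum]
    refine Finset.sum_congr rfl fun i _ => ?_
    by_cases hi : Cd.isU i
    · have hi' := isU_iff.1 hi
      rw [if_pos hi]
      show _ = if 1344 ≤ i.1 ∧ i.1 ≤ 1366 then ((L (i.1 - 1344) : ℤ) : F) else 0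
      rw [if_pos hi']
      apply D_of_dchk h2
      have h3 := h (i.1 - 1344) (by omega)
      rwa [show 1344 + (i.1 - 1344) = i.1 by omega] at h3
    · have hi' : ¬ (1344 ≤ i.1 ∧ i.1 ≤ 1366) := fun h3 => hi (isU_iff.2 h3)
      rw [if_neg hi, mul_zero]
      show _ = if 1344 ≤ i.1 ∧ i.1 ≤ 1366 then ((L (i.1 - 1344) : ℤ) : F) else 0
      rw [if_neg hi']
  have h1 := h1.trans (sum_lane U_lt (fun j : ℕ => if 1344 ≤ j ∧ j ≤ 1366 then ((L (j - 1344) : ℤ) : F) else 0))
  have h3 : ∑ i ∈ Finset.range (2 ^ 13), (if U.testBit i = true then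
      (fun j : ℕ => if 1344 ≤ j ∧ j ≤ 1366 then ((L (j - 1344) : ℤ) : F) else 0) i else 0) =
      ∑ k ∈ Finset.range 23, ((L k : ℤ) : F) := by
    symm
    rw [← Finset.sum_subset (s₁ := (Finset.range 23).map ⟨fun k => 1344 + k, fun a b hab => by
      simpa using hab⟩) (s₂ := Finset.range (2 ^ 13))]
    · rw [Finset.sum_map]
      refine Finset.sum_congr rfl fun k hk => ?_
      rw [Finset.mem_range] at hk
      show _ = if U.testBit (1344 + k) = true then
        (if 1344 ≤ 1344 + k ∧ 1344 + k ≤ 1366 then ((L (1344 + k - 1344) : ℤ) : F) else 0) else 0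
      rw [if_pos (by revert k; decide +kernel), if_pos (by omega), show 1344 + k - 1344 = k by omega]
    · intro x hx
      rw [Finset.mem_map] at hx
      obtain ⟨k, hk, rfl⟩ := hx
      rw [Finset.mem_range] at hk ⊢
      show 1344 + k < 2 ^ 13
      norm_num
      omega
    · intro x _ hx
      show (if U.testBit x = true then (if 1344 ≤ x ∧ x ≤ 1366 then ((L (x - 1344) : ℤ) : F) else 0) else 0) = 0
      rw [if_neg (c := 1344 ≤ x ∧ x ≤ 1366), ite_self]
      rintro ⟨h4, h5⟩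
      apply hx
      rw [Finset.mem_map]
      exact ⟨x - 1344, Finset.mem_range.2 (by omega), by
        show 1344 + (x - 1344) = x
        omega⟩
  rw [h3, ← Int.cast_sum, h0, Int.cast_zero] at h1
  exact (mul_eq_zero.1 h1).resolve_left (pow_ne_zero _ h2)

/-- All codes of `X`-lanes are moved. -/
noncomputable def xchk (v : List Ltr) : Bool :=
  allN 12 (fun i => Bool.rec true (Bool.rec (and (Nat.blt (lw v (cd i)) 4194304) (not (Nat.beq (lw v (cd i)) (cd i))))
    true (Nat.beq (cd i) 0)) (Nat.testBit U i)) 0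

theorem xchk_spec {v : List Ltr} (h : xchk v = true) {i : Lane U} (hi : Cd.isX i) :
    lw v (cd i.1) ≠ cd i.1 ∧ lw v (cd i.1) < 2 ^ 22 := by
  obtain ⟨h1, h3⟩ := isX_iff.1 hi
  have h4 := allN_spec h (Nat.zero_le i.1) (by rw [zero_add]; exact h1)
  simp only [i.2] at h4
  have h5 : Nat.beq (cd i.1) 0 = false := by
    rw [Bool.eq_false_iff]
    intro h6
    exact h3 (Nat.eq_of_beq_eq_true h6)
  rw [h5] at h4
  have h6 : and (Nat.blt (lw v (cd i.1)) 4194304) (not (Nat.beq (lw v (cd i.1)) (cd i.1))) = true := h4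
  rw [Bool.and_eq_true, Bool.not_eq_true'] at h6
  refine ⟨fun h7 => ?_, ?_⟩
  · rw [h7] at h6
    have h8 := h6.2
    rw [show Nat.beq (cd i.1) (cd i.1) = true from Nat.beq_refl _] at h8
    exact absurd h8 (by simp)
  · have h8 := h6.1
    have h9 : lw v (cd i.1) + 1 ≤ 4194304 := Nat.le_of_ble_eq_true h8
    omega

/-- **The criterion.** -/
theorem trace_zero {v : List Ltr} (hv : allW v = true) {t : G} (ht : t⁻¹ * gW v * t = gW v * gE .z)
    (hx : xchk v = true) {s : ℕ} (L : ℕ → ℤ) (h : ∀ k < 23, dchk v s (1344 + k) (L k) = true)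
    (h0 : ∑ k ∈ Finset.range 23, L k = 0) : LinearMap.trace F (Lane U → F) (sigma h2 (gW v)) = 0 := by
  classical
  rw [trace_sum]
  have h1 : ∑ i, D h2 (gW v) i = ∑ i, (if Cd.isq i then D h2 (gW v) i else 0) +
      ∑ i, (if Cd.isU i then D h2 (gW v) i else 0) := by
    rw [← Finset.sum_add_distrib]
    refine Finset.sum_congr rfl fun i _ => ?_
    rcases Cd.cases i with hi | hi | hi
    · rw [if_pos hi, if_neg (fun h3 : Cd.isU i => h3.1 hi), add_zero]
    · rw [if_neg hi.1, if_neg (fun h3 => Cd.not_isX_of_isU h3 hi), add_zero]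
      obtain ⟨h3, h4⟩ := xchk_spec hx hi
      exact x_zero h2 hv hi h3 h4
    · rw [if_neg hi.1, if_pos hi, zero_add]
  rw [h1, q_zero h2 ht, u_zero h2 L h h0, add_zero]

end Cfsg.Agent.H594.BTr
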