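import Cfsg.Agent.H594.BTrB

/-!
# Elements of the Baby Monster: orders from orbits, conjugates `g z` (helper594)
-/

set_option autoImplicit false

namespace Cfsg.Agent.H594.BTr

open Cfsg.Agent.Monster Cfsg.Agent.Monster.VecEngine Cfsg.Agent.Monster.VecSpace
open Cfsg.Agent.Monster.PauliBasic Cfsg.Agent.Monster.PauliRep Cfsg.Agent.Monster.PauliClif Cfsg.Agent.Monster.PauliBits
open Cfsg.Agent.BabyM.QAct
open Cfsg.Agent.BabyM.Conc Cfsg.Agent.BabyM.KTab Cfsg.Agent.BabyM.KQ
open Cfsg.Agent.BabyM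
open Cfsg.Agent.H863.BRed Cfsg.Agent.H863.BRep Cfsg.Agent.H863.BCode Cfsg.Agent.H863.BStage Cfsg.Agent.H863.BGrp
open Cfsg.Agent.H863.BMdl Cfsg.Agent.H863.BInst
open Cfsg.Agent.Lib.PermNet Cfsg.Agent.MonsterX.VecRel

/-! ### Orders -/

/-- the `n`-th power of a word -/
def rep (v : List Ltr) : ℕ → List Ltr
  | 0 => []
  | n + 1 => v ++ rep v n

theorem W_rep (v : List Ltr) (n : ℕ) : W (rep v n) = W v ^ n := by
  induction n with
  | zero => rfl
  | succ n ih =>
    show W (v ++ rep v n) = _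
    rw [W_append, ih, pow_succ]

/-- The word moves the vector: the value in one lane changes. -/
noncomputable def mvchk (v : List Ltr) (x : Pl) (i : ℕ) : Bool :=
  runL (v.map Ltr.prog) x fun y => not (decide (val y i = val x i))

theorem W_ne_of_mvchk {v : List Ltr} {x : Pl} {i : ℕ} (hi : U.testBit i = true) (h : mvchk v x i = true) :
    W v (vecU ℚ U x) ≠ vecU ℚ U x := by
  obtain ⟨y, hy, hk⟩ := W_run h
  intro h1
  rw [hy] at h1
  have h3 := congrFun h1 ⟨i, hi⟩
  change ((val y i : ℤ) : ℚ) = ((val x i : ℤ) : ℚ) at h3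
  have h4 : val y i = val x i := by exact_mod_cast h3
  rw [h4] at hk
  simp at hk

theorem smul_def (g : G) (f : V) : g • f = g.1 f := rfl

theorem fix_iff (v : List Ltr) (n : ℕ) (x : Pl) :
    (W (rep v n) (vecU ℚ U x) = vecU ℚ U x) ↔ MulAction.period (gW v) (vecU ℚ U x) ∣ n := by
  rw [← MulAction.pow_smul_eq_iff_period_dvd, W_rep]
  rfl

theorem dvd_order {v : List Ltr} {x : Pl} {n : ℕ} (h : MulAction.period (gW v) (vecU ℚ U x) = n) :
    n ∣ orderOf (gW v) := by
  rw [← h]
  exact MulAction.period_dvd_orderOf _ _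

/-! ### Conjugates -/

/-- `g` is conjugate to `g z` by an element of the Pauli group. -/
theorem conj_z {v pz : List Ltr} (hv : allW v = true) (hp : pz.all KQ.isq = true) {c : ℕ}
    (hc : ab (dec 11 (cw pz)) = ab (dec 11 c)) (hlw : lw v c = c) {s i j : ℕ} {a b : ℤ} (hj : U.testBit j = true)
    (h1 : runL ((pz ++ v).map Ltr.prog) (shl s (2 ^ i)) (fun y => decide (val y j = a)) = true)
    (h3 : runL ((v ++ pz).map Ltr.prog) (shl s (2 ^ i)) (fun y => decide (val y j = b)) = true) (hab : a ≠ b) :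
    (gW pz)⁻¹ * gW v * gW pz = gW v * gE .z := by
  have hW : W pz = Cd.R (dec 11 (cw pz)) := W_eq_R pz hp
  obtain ⟨q, hq1, hq2⟩ := Cj_word v hv c (dec 11 (cw pz)) hc
  rw [hlw, ← hc] at hq2
  have key : W v * W pz = W pz * E .z * W v := by
    rcases eq_or_of_ab hq2 with h4 | h4
    · exfalso
      rw [h4, ← hW, ← W_append, ← W_append] at hq1
      obtain ⟨y, hy, hky⟩ := W_run h1
      obtain ⟨y', hy', hky'⟩ := W_run h3
      rw [hq1, hy'] at hy
      have h5 := congrFun hy ⟨j, hj⟩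
      change ((val y' j : ℤ) : ℚ) = ((val y j : ℤ) : ℚ) at h5
      have h6 : val y' j = val y j := by exact_mod_cast h5
      rw [of_decide_eq_true hky, of_decide_eq_true hky'] at h6
      exact hab h6.symm
    · rw [h4, map_mul, ← hW, ← E_z'] at hq1
      exact hq1
  have hzc : gE .z * gW v = gW v * gE .z := (z_comm (W_mem_C v hv)).symm
  have key' : gW v * gW pz = gW pz * gE .z * gW v := Subtype.ext key
  rw [mul_assoc, key', ← hzc]
  group

end Cfsg.Agent.H594.BTr
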