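import Mathlib
import Cfsg.Agent.ClassicalGeometry.PSUAutSylow
import Cfsg.Agent.ClassicalGeometry.PSUAutTorus
import Cfsg.Agent.LieClassical.HermPerfect
import Cfsg.Agent.H77.Witt
import Cfsg.Agent.H687.Theta

/-!
# S4834 for `PSU_n(q)` in the defining characteristic (helper594)
-/

set_option autoImplicit false

namespace Cfsg.Agent.H594.GoodPSU

open Cfsg Cfsg.Agent.H687
open Cfsg.Agent.LieClassical.HermBasic Cfsg.Agent.LieClassical.HermSiegel Cfsg.Agent.LieClassical.HermGen
  Cfsg.Agent.ClassicalGeometry.PSUAutBasic Cfsg.Agent.ClassicalGeometry.PSUAutSylow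

universe u

variable {F : Type u} [Field F] [Fintype F] {q n : ℕ}

/-- The subfield with `q` elements. -/
def fixF (hF : Fintype.card F = q ^ 2) : Subfield F where
  carrier := {x | x ^ q = x}
  mul_mem' := by
    intro a b ha hb
    show (a * b) ^ q = a * b
    rw [mul_pow, show a ^ q = a from ha, show b ^ q = b from hb]
  one_mem' := one_pow q
  add_mem' := by
    intro a b ha hb
    show (a + b) ^ q = a + b
    rw [add_pow_q hF, show a ^ q = a from ha, show b ^ q = b from hb]
  zero_mem' := zero_pow_q hF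
  neg_mem' := by
    intro a ha
    show (-a) ^ q = -a
    rw [neg_pow_q hF, show a ^ q = a from ha]
  inv_mem' := by
    intro a ha
    show (a⁻¹) ^ q = a⁻¹
    rw [inv_pow, show a ^ q = a from ha]

theorem mem_fixF {hF : Fintype.card F = q ^ 2} {x : F} : x ∈ fixF hF ↔ x ^ q = x := Iff.rfl

theorem fix_pow {hF : Fintype.card F = q ^ 2} (x : fixF hF) : (x : F) ^ q = x := x.2

/-- Linear independence of two hyperbolic partners. -/
theorem li_hyp {u v : Fin n → F} (hF : Fintype.card F = q ^ 2)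
    (huu : hermForm n F q u u = 0) (hvv : hermForm n F q v v = 0) (huv : hermForm n F q u v = 1) :
    LinearIndependent F ![u, v] := by
  have hvu : hermForm n F q v u = 1 := by rw [herm_swap hF, huv, one_pow]
  rw [LinearIndependent.pair_iff]
  intro s t hst
  have h1 := congrArg (fun x => hermForm n F q x v) hst
  have h2 := congrArg (fun x => hermForm n F q x u) hst
  simp only [herm_add_left, herm_smul_left, herm_zero_left, huu, hvv, huv, hvu, mul_one, mul_zero, add_zero,
    zero_add] at h1 h2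
  exact ⟨h1, h2⟩

omit [Fintype F] in
theorem unit_mem (hn : 3 ≤ n) : (Pi.single ⟨0, by omega⟩ 1 : Fin n → F) ∈ coordSub F n (n - 2) :=
  single_mem_coordSub (by simp; omega) 1

theorem unit_one (hF : Fintype.card F = q ^ 2) (i : Fin n) :
    hermForm n F q (Pi.single i 1) (Pi.single i 1) = 1 := by
  rw [herm_single_right hF, Pi.single_eq_same]; simp

/-- The data: a frame and an element of trace zero. -/
structure Dat (hF : Fintype.card F = q ^ 2) (n : ℕ) where
  e : Fin n → F
  f : Fin n → F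
  k : F
  fr : IsFrame q e f
  k0 : k ≠ 0
  kq : k + k ^ q = 0

theorem exists_dat (hF : Fintype.card F = q ^ 2) (hn : 2 ≤ n) : Nonempty (Dat (F := F) hF n) := by
  obtain ⟨e, f, h⟩ := exists_frame (F := F) (n := n) hF hn
  obtain ⟨k, hk0, hk⟩ := exists_trace_zero_ne hF
  exact ⟨⟨e, f, k, h, hk0, hk⟩⟩

variable {hF : Fintype.card F = q ^ 2}

namespace Dat

variable (D : Dat hF n)

theorem kq' : D.k ^ q = -D.k := by linear_combination D.kq

theorem fe : hermForm n F q D.f D.e = 1 := by rw [herm_swap hF, D.fr.ef, one_pow]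

theorem e0 : D.e ≠ 0 := by
  intro h
  have h1 := D.fr.ef
  rw [h, herm_zero_left] at h1
  exact zero_ne_one h1

theorem tr (a : fixF hF) : D.k * (a : F) + (D.k * (a : F)) ^ q = 0 := by
  rw [mul_pow, fix_pow, D.kq']; ring

/-- The transvection with parameter `k a`. -/
def tv (a : fixF hF) : SU n F q := transv hF D.e D.fr.ee (D.k * a) (D.tr a)

/-- The parametrization of the root group. -/
def z (a : fixF hF) : PSU n F q := pr n F q (D.tv a)

theorem act_tv (a : fixF hF) (v : Fin n → F) : act (D.tv a) v = v + (D.k * a * hermForm n F q v D.e) • D.e :=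
  act_transv hF _ _ v

theorem z_add (a b : fixF hF) : D.z (a + b) = D.z a * D.z b := by
  unfold z tv
  rw [← map_mul, transv_mul]
  congr 1
  refine siegel_congr hF _ _ rfl rfl ?_
  push_cast
  ring

theorem tv_inj {a b : fixF hF} (h : D.tv a = D.tv b) : a = b := by
  have h1 : act (D.tv a) D.f = act (D.tv b) D.f := by rw [h]
  rw [act_tv, act_tv, D.fe, mul_one, mul_one] at h1
  have h2 := smul_left_injective F D.e0 (add_left_cancel h1)
  exact Subtype.ext (mul_left_cancel₀ D.k0 h2)

theorem z_inj (hn : 3 ≤ n) : Function.Injective D.z := fun a b h =>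
  D.tv_inj (siegel_pr_inj hF hn (isSiegel_zero D.fr.ee (D.tr a)) (isSiegel_zero D.fr.ee (D.tr b)) h)

/-- Conjugation. -/
theorem conj_tv {g : SU n F q} {c : F} (hg : act g D.e = c • D.e) (a : fixF hF) :
    g * D.tv a * g⁻¹ = D.tv (⟨c * c ^ q, norm_pow_q hF c⟩ * a) := by
  unfold tv transv
  rw [conj_siegel]
  have h4 : IsSiegel q (c • D.e) (0 : Fin n → F) (D.k * a) := by
    refine isSiegel_zero ?_ (D.tr a)
    rw [herm_smul_left, herm_smul_right, D.fr.ee]; ring
  rw [siegel_congr hF _ h4 hg (act_zero g) rfl]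
  apply ext_act
  intro v
  rw [act_siegel, act_siegel, herm_smul_right]
  simp only [smul_zero, add_zero, herm_zero_right hF, sub_zero]
  funext i
  simp only [Pi.add_apply, Pi.smul_apply, smul_eq_mul, MulMemClass.coe_mul]
  ring

theorem sc {g : SU n F q} {c : F} (hg : act g D.e = c • D.e) : Sc D.z (pr n F q g) ⟨c * c ^ q, norm_pow_q hF c⟩ := by
  intro a
  unfold z
  rw [← map_mul, ← map_inv, ← map_mul, D.conj_tv hg]

theorem nrm {g : SU n F q} {c : F} (hg : act g D.e = c • D.e) : Nrm D.z (pr n F q g) := fun a => ⟨_, D.sc hg a⟩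

theorem of_nrm (hn : 3 ≤ n) {g : SU n F q} (h : Nrm D.z (pr n F q g)) : ∃ c : F, act g D.e = c • D.e := by
  obtain ⟨b, hb⟩ := h 1
  unfold z tv transv at hb
  rw [← map_mul, ← map_inv, ← map_mul, conj_siegel] at hb
  have h1 := siegel_pr_inj hF hn _ _ hb
  have h2 := congrArg (fun x => act x (act g D.f)) h1
  simp only [act_siegel] at h2
  rw [herm_act, D.fe, act_zero, herm_zero_right hF] at h2
  simp only [smul_zero, add_zero, sub_zero, mul_one, OneMemClass.coe_one] at h2
  have h3 := add_left_cancel h2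
  refine ⟨D.k⁻¹ * (D.k * b * hermForm n F q (act g D.f) D.e), ?_⟩
  rw [mul_smul, ← h3, smul_smul, inv_mul_cancel₀ D.k0, one_smul]

theorem f0 : D.f ≠ 0 := by
  intro h
  have h1 := D.fe
  rw [h, herm_zero_left] at h1
  exact zero_ne_one h1

/-- The Weyl element. -/
theorem exists_x (hn : 3 ≤ n) : ∃ x : SU n F q, act x D.e = D.f ∧ act x D.f = D.e := by
  have h1 := li_hyp hF D.fr.ee D.fr.ff D.fr.ef
  have h2 := li_hyp hF D.fr.ff D.fr.ee D.fe
  have hz1 := (D.fr.mem _).1 (unit_mem (F := F) hn)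
  obtain ⟨g, hg⟩ := H77.Witt.exists_su_ext hF ![D.e, D.f] ![D.f, D.e] h1 h2 (by
    intro i j
    fin_cases i <;> fin_cases j <;> simp [D.fr.ee, D.fr.ff, D.fr.ef, D.fe]) (z := Pi.single ⟨0, by omega⟩ 1) (by
      rw [unit_one hF]; exact one_ne_zero) (by
      intro i
      fin_cases i
      · exact hz1.2
      · exact hz1.1)
  exact ⟨g, hg 0, hg 1⟩

/-- Torus elements. -/
theorem exists_t {w z : Fin n → F} (hz : z ∈ coordSub F n (n - 2)) (hzz : hermForm n F q z z = 1)
    (hw : w ∈ coordSub F n (n - 2)) (hwz : hermForm n F q w z = 0) (d : (fixF hF)ˣ) :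
    ∃ (t : SU n F q) (c : F), c ≠ 0 ∧ c * c ^ q = ((d : fixF hF) : F) ∧ act t D.e = c • D.e ∧
      act t D.f = (c ^ q)⁻¹ • D.f ∧ act t w = w := by
  obtain ⟨c, hc0, hc⟩ := exists_norm_eq_ne hF (c := ((d : fixF hF) : F)) (fix_pow _) (by
    simp)
  obtain ⟨t, h1, h2, -, h4⟩ := ClassicalGeometry.PSUAutTorus.exists_torus_unit hF D.fr hz hzz hc0
  exact ⟨t, c, hc0, hc, h1, h2, h4 w hw hwz⟩

theorem sc' {g : SU n F q} {c : F} (hg : act g D.e = c • D.e) {d : fixF hF} (hd : c * c ^ q = d) :
    Sc D.z (pr n F q g) d := by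
  have := D.sc hg
  rwa [show (⟨c * c ^ q, norm_pow_q hF c⟩ : fixF hF) = d from Subtype.ext hd] at this

/-- The torus acts through all scalars on the root group. -/
theorem wit_one (hn : 3 ≤ n) : Wit D.z 1 1 1 := by
  intro d
  obtain ⟨t, c, -, hc, hte, -⟩ := D.exists_t (unit_mem hn) (unit_one hF _) (Submodule.zero_mem _) (herm_zero_left _) d
  refine ⟨pr n F q t, ?_, ?_⟩
  · rw [zpow_one]; exact D.sc' hte hc
  · rw [zpow_one, inv_one, one_mul, mul_one]; exact D.sc' hte hc

theorem wit_x (hn : 3 ≤ n) {x : SU n F q} (hxe : act x D.e = D.f) : Wit D.z (pr n F q x) 1 (-1) := by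
  intro d
  obtain ⟨t, c, hc0, hc, hte, htf, -⟩ :=
    D.exists_t (unit_mem hn) (unit_one hF _) (Submodule.zero_mem _) (herm_zero_left _) d
  refine ⟨pr n F q t, ?_, ?_⟩
  · rw [zpow_one]; exact D.sc' hte hc
  · have h1 : act (x⁻¹ * t * x) D.e = (c ^ q)⁻¹ • D.e := by
      rw [act_mul, act_mul, hxe, htf, act_smul, ← hxe, act_inv_act]
    rw [← map_inv, ← map_mul, ← map_mul]
    refine D.sc' h1 ?_
    rw [inv_pow, pow_q_pow_q hF, zpow_neg_one, ← mul_inv, mul_comm (c ^ q), hc]
    simp

theorem wit_w {x : SU n F q} (hw : act x D.e ∈ coordSub F n (n - 2)) {z : Fin n → F}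
    (hz : z ∈ coordSub F n (n - 2)) (hzz : hermForm n F q z z = 1) (hwz : hermForm n F q (act x D.e) z = 0) :
    Wit D.z (pr n F q x) 1 0 := by
  intro d
  obtain ⟨t, c, hc0, hc, hte, -, htw⟩ := D.exists_t hz hzz hw hwz d
  refine ⟨pr n F q t, ?_, ?_⟩
  · rw [zpow_one]; exact D.sc' hte hc
  · have h1 : act (x⁻¹ * t * x) D.e = (1 : F) • D.e := by
      rw [act_mul, act_mul, htw, act_inv_act, one_smul]
    rw [← map_inv, ← map_mul, ← map_mul]
    refine D.sc' h1 ?_
    rw [zpow_zero]
    simp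

/-- The representatives of the double cosets. -/
def NN (x : SU n F q) : Set (PSU n F q) := {y | y = 1 ∨ y = pr n F q x ∨ ∃ g : SU n F q, y = pr n F q g ∧
  act g D.e ∈ coordSub F n (n - 2) ∧ ∃ z ∈ coordSub F n (n - 2), hermForm n F q z z = 1 ∧
    hermForm n F q (act g D.e) z = 0}

theorem exists_NN (hn : 3 ≤ n) (h4 : n ≠ 4) {x : SU n F q} (hxe : act x D.e = D.f) (y : PSU n F q) :
    ∃ a b : PSU n F q, Nrm D.z a ∧ Nrm D.z b ∧ a * y * b ∈ D.NN x := by
  obtain ⟨g, rfl⟩ := pr_surjective (n := n) (F := F) (q := q) y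
  have hww : hermForm n F q (act g D.e) (act g D.e) = 0 := by rw [herm_act, D.fr.ee]
  by_cases h0 : hermForm n F q (act g D.e) D.e = 0
  · by_cases hpr : ∃ c : F, act g D.e = c • D.e
    · obtain ⟨c, hc⟩ := hpr
      have hc0 : c ≠ 0 := by
        rintro rfl
        rw [zero_smul] at hc
        exact D.e0 (by rw [← act_inv_act g D.e, hc, act_zero])
      refine ⟨(pr n F q g)⁻¹, 1, ?_, ?_, Or.inl (by group)⟩
      · have h1 : act g⁻¹ D.e = c⁻¹ • D.e := by
          have h2 := congrArg (act g⁻¹) hc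
          rw [act_inv_act, act_smul] at h2
          conv_rhs => rw [h2]
          rw [smul_smul, inv_mul_cancel₀ hc0, one_smul]
        rw [← map_inv]
        exact D.nrm h1
      · rw [← map_one (pr n F q)]
        exact D.nrm (c := 1) (by rw [act_one, one_smul])
    · have hn5 : 5 ≤ n := by
        by_contra hlt
        have h3 : n = 3 := by omega
        apply hpr
        refine ⟨hermForm n F q (act g D.e) D.f, ?_⟩
        set w := act g D.e with hw
        set v := w - hermForm n F q w D.f • D.e with hv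
        have hvm : v ∈ coordSub F n (n - 2) := by
          rw [D.fr.mem]
          constructor
          · rw [hv, herm_sub_left, herm_smul_left, h0, D.fr.ee]; ring
          · rw [hv, herm_sub_left, herm_smul_left, D.fr.ef]; ring
        have hvs : v = v ⟨0, by omega⟩ • (Pi.single ⟨0, by omega⟩ 1 : Fin n → F) := by
          funext i
          by_cases hi : i = ⟨0, by omega⟩
          · subst hi; simp
          · have : v i = 0 := hvm i (by
              have : i.val ≠ 0 := fun h => hi (Fin.ext h)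
              omega)
            rw [this, Pi.smul_apply, Pi.single_eq_of_ne hi, smul_zero]
        have hvv : hermForm n F q v v = 0 := by
          have hew : hermForm n F q D.e w = 0 := herm_eq_zero_swap hF h0
          rw [hv, herm_sub_left, herm_sub_right hF, herm_sub_right hF, herm_smul_left, herm_smul_right,
            herm_smul_left, herm_smul_right, hww, h0, hew, D.fr.ee]; ring
        rw [hvs, herm_smul_left, herm_smul_right, unit_one hF, mul_one, norm_eq_zero hF] at hvv
        rw [hvv, zero_smul] at hvs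
        rw [← sub_eq_zero, ← hv, hvs]
      obtain ⟨p, p', a, b, ha, hp, hp', hpp, hpp', hpp''⟩ :=
        exists_hyp_pair (F := F) (q := q) hF (i := (⟨0, by omega⟩ : Fin n)) (j := ⟨1, by omega⟩) (by simp)
      have hpm : p ∈ coordSub F n (n - 2) := by
        rw [hp]
        exact Submodule.add_mem _ (single_mem_coordSub (by simp; omega) 1)
          (Submodule.smul_mem _ _ (single_mem_coordSub (by simp; omega) 1))
      have hzm : (Pi.single ⟨2, by omega⟩ 1 : Fin n → F) ∈ coordSub F n (n - 2) :=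
        single_mem_coordSub (by simp; omega) 1
      have hpz : hermForm n F q p (Pi.single ⟨2, by omega⟩ 1) = 0 := by
        rw [herm_single_right hF, hp]
        simp [Fin.ext_iff]
      have hpe := (D.fr.mem p).1 hpm
      have hze := (D.fr.mem _).1 hzm
      have hp0 : p ≠ 0 := by
        intro h
        rw [h, herm_zero_left] at hpp''
        exact zero_ne_one hpp''
      have hli1 : LinearIndependent F ![D.e, act g D.e] := by
        rw [LinearIndependent.pair_iff]
        intro s t hst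
        have ht : t = 0 := by
          by_contra ht
          apply hpr
          refine ⟨t⁻¹ * (-s), ?_⟩
          rw [mul_smul, neg_smul, ← eq_neg_of_add_eq_zero_right hst, smul_smul, inv_mul_cancel₀ ht, one_smul]
        subst ht
        rw [zero_smul, add_zero, smul_eq_zero] at hst
        exact ⟨hst.resolve_right D.e0, rfl⟩
      have hli2 : LinearIndependent F ![D.e, p] := by
        rw [LinearIndependent.pair_iff]
        intro s t hst
        have h1 := congrArg (fun x => hermForm n F q x D.f) hst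
        simp only [herm_add_left, herm_smul_left, herm_zero_left, D.fr.ef, hpe.2, mul_zero, mul_one, add_zero] at h1
        subst h1
        rw [zero_smul, zero_add, smul_eq_zero] at hst
        exact ⟨rfl, hst.resolve_right hp0⟩
      have hew : hermForm n F q D.e (act g D.e) = 0 := herm_eq_zero_swap hF h0
      have hep : hermForm n F q D.e p = 0 := herm_eq_zero_swap hF hpe.1
      obtain ⟨s, hs⟩ := H77.Witt.exists_su_ext hF ![D.e, act g D.e] ![D.e, p] hli1 hli2 (by
        intro i j
        fin_cases i <;> fin_cases j <;> simp [D.fr.ee, h0, hew, hep, hpe.1, hww, hpp])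
        (z := Pi.single ⟨2, by omega⟩ 1) (by
          rw [unit_one hF]; exact one_ne_zero) (by
          intro i
          fin_cases i
          · exact hze.1
          · exact herm_eq_zero_swap hF hpz)
      have hs0 : act s D.e = D.e := hs 0
      have hs1 : act s (act g D.e) = p := hs 1
      refine ⟨pr n F q s, 1, D.nrm (c := 1) (by rw [hs0, one_smul]), ?_, Or.inr (Or.inr ⟨s * g, ?_, ?_, _, hzm, ?_, ?_⟩)⟩
      · rw [← map_one (pr n F q)]
        exact D.nrm (c := 1) (by rw [act_one, one_smul])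
      · rw [mul_one, map_mul]
      · rw [act_mul, hs1]; exact hpm
      · exact unit_one hF _
      · rw [act_mul, hs1]; exact hpz
  · set c := hermForm n F q (act g D.e) D.e with hc
    have hew : hermForm n F q D.e (act g D.e) = c ^ q := herm_swap hF _ _
    set w := c⁻¹ • act g D.e with hw
    have hwe : hermForm n F q w D.e = 1 := by rw [hw, herm_smul_left, ← hc, inv_mul_cancel₀ h0]
    have hew' : hermForm n F q D.e w = 1 := by rw [herm_swap hF, hwe, one_pow]
    have hww' : hermForm n F q w w = 0 := by rw [hw, herm_smul_left, herm_smul_right, hww]; ring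
    have hz1 := (D.fr.mem _).1 (unit_mem (F := F) hn)
    obtain ⟨s, hs⟩ := H77.Witt.exists_su_ext hF ![D.e, w] ![D.e, D.f] (li_hyp hF D.fr.ee hww' hew')
      (li_hyp hF D.fr.ee D.fr.ff D.fr.ef) (by
        intro i j
        fin_cases i <;> fin_cases j <;> simp [D.fr.ee, D.fr.ff, D.fr.ef, D.fe, hwe, hew', hww'])
        (z := Pi.single ⟨0, by omega⟩ 1) (by
          rw [unit_one hF]; exact one_ne_zero) (by
          intro i
          fin_cases i
          · exact hz1.1
          · exact hz1.2)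
    have hs0 : act s D.e = D.e := hs 0
    have hs1 : act s w = D.f := hs 1
    have hge : act g D.e = c • w := by rw [hw, smul_smul, mul_inv_cancel₀ h0, one_smul]
    have hb : act (g⁻¹ * s⁻¹ * x) D.e = c⁻¹ • D.e := by
      rw [act_mul, act_mul, hxe, ← hs1, act_inv_act]
      have h1 : w = c⁻¹ • act g D.e := hw
      rw [h1, act_smul, act_inv_act]
    refine ⟨pr n F q s, pr n F q (g⁻¹ * s⁻¹ * x), D.nrm (c := 1) (by rw [hs0, one_smul]), D.nrm hb,
      Or.inr (Or.inl ?_)⟩
    rw [← map_mul, ← map_mul]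
    congr 1
    group

theorem mem_RR_iff {x : PSU n F q} : x ∈ RR hF D.e D.fr.ee ↔ ∃ a, x = D.z a := by
  rw [mem_RR]
  constructor
  · rintro ⟨μ, hμ, rfl⟩
    have h1 : (D.k⁻¹ * μ) ^ q = D.k⁻¹ * μ := by
      have h2 : μ ^ q = -μ := by linear_combination hμ
      rw [mul_pow, inv_pow, h2, D.kq', inv_neg, neg_mul_neg]
    refine ⟨⟨D.k⁻¹ * μ, h1⟩, ?_⟩
    unfold z tv
    congr 1
    refine siegel_congr hF _ _ rfl rfl ?_
    show μ = D.k * (D.k⁻¹ * μ)
    rw [mul_inv_cancel_left₀ D.k0]
  · rintro ⟨a, rfl⟩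
    exact ⟨_, D.tr a, rfl⟩

theorem hcan (hn : 3 ≤ n) (φ : MulAut (PSU n F q)) : ∃ s : PSU n F q, ∀ a, ∃ b, s * φ (D.z a) * s⁻¹ = D.z b := by
  obtain ⟨u, hu0, hu, h1⟩ := exists_map_RR hF hn φ D.e0 D.fr.ee
  obtain ⟨g, -, hg⟩ := exists_map_iso hF hn le_rfl (mem_coordSub_top D.e) (mem_coordSub_top u) D.e0 hu0 D.fr.ee hu
  refine ⟨(pr n F q g)⁻¹, fun a => ?_⟩
  have h2 : φ (D.z a) ∈ RR hF u hu := by
    rw [← h1]
    exact ⟨D.z a, D.mem_RR_iff.2 ⟨a, rfl⟩, rfl⟩
  have hgu : hermForm n F q (act g D.e) (act g D.e) = 0 := by rw [hg]; exact hu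
  rw [RR_congr hF hu hgu hg.symm, RR_conj hF D.fr.ee g hgu] at h2
  obtain ⟨b, hb⟩ := D.mem_RR_iff.1 h2
  exact ⟨b, by rw [inv_inv]; exact hb⟩

theorem hidx (hn : 3 ≤ n) (p : ℕ) [Fact p.Prime] [CharP F p] :
    ∃ U : Sylow p (PSU n F q), ∀ u ∈ (U : Subgroup (PSU n F q)), Nrm D.z u := by
  obtain ⟨S⟩ : Nonempty (Sylow p (SU n F q)) := inferInstance
  obtain ⟨u₁, hu₁0, hu₁, hfix₁⟩ := exists_fixed p hF (by omega) S.isPGroup'
  obtain ⟨g, -, hg⟩ := exists_map_iso hF hn le_rfl (mem_coordSub_top u₁) (mem_coordSub_top D.e)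
    hu₁0 D.e0 hu₁ D.fr.ee
  have hfix : ∀ x ∈ g • S, act x D.e = D.e := by
    intro x hx
    have hx' : x ∈ ((g • S : Sylow p (SU n F q)) : Subgroup (SU n F q)) := hx
    rw [Sylow.coe_subgroup_smul] at hx'
    obtain ⟨s, hs, rfl⟩ := hx'
    have h1 : act g⁻¹ D.e = u₁ := ((act_eq_iff g).1 hg).symm
    change act (g * s * g⁻¹) D.e = D.e
    rw [act_mul, act_mul, h1, hfix₁ s hs, hg]
  refine ⟨(g • S).mapSurjective pr_surjective, ?_⟩
  rintro _ ⟨x, hx, rfl⟩
  exact D.nrm (c := 1) (by rw [one_smul]; exact hfix x hx)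

theorem act_x_inv {x : SU n F q} (hxf : act x D.f = D.e) : act x⁻¹ D.e = D.f := ((act_eq_iff x).1 hxf).symm

theorem x2 (hn : 3 ≤ n) {x : SU n F q} (hxe : act x D.e = D.f) (hxf : act x D.f = D.e) (a : fixF hF)
    (h : Nrm D.z (pr n F q x * D.z a * (pr n F q x)⁻¹)) : a = 0 := by
  unfold z at h
  rw [← map_inv, ← map_mul, ← map_mul] at h
  obtain ⟨c, hc⟩ := D.of_nrm hn h
  rw [act_mul, act_mul, D.act_x_inv hxf, act_tv, D.fe, mul_one, act_add, act_smul, hxe, hxf] at hc
  have h1 := congrArg (fun v => hermForm n F q v D.e) hc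
  simp only [herm_add_left, herm_smul_left, D.fr.ee, D.fe, mul_one, mul_zero, zero_add] at h1
  exact Subtype.ext ((mul_eq_zero.1 h1).resolve_left D.k0)

theorem x3 {x : SU n F q} (hxe : act x D.e = D.f) (hxf : act x D.f = D.e) (a : fixF hF) (ha : a ≠ 0) :
    ∃ b, Nrm D.z ((pr n F q x)⁻¹ * D.z b * pr n F q x * D.z a * (pr n F q x)⁻¹) := by
  have ha' : (a : F) ≠ 0 := fun h => ha (Subtype.ext h)
  obtain ⟨b, hb⟩ : ∃ b : fixF hF, (b : F) = -(D.k * D.k * a)⁻¹ := by
    refine ⟨⟨-(D.k * D.k * a)⁻¹, ?_⟩, rfl⟩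
    rw [mem_fixF, neg_pow_q hF, inv_pow, mul_pow, mul_pow, fix_pow, D.kq', neg_mul_neg]
  refine ⟨b, ?_⟩
  unfold z
  rw [← map_inv, ← map_mul, ← map_mul, ← map_mul, ← map_mul]
  refine D.nrm (c := D.k * a) ?_
  have hxe' : act x⁻¹ D.f = D.e := ((act_eq_iff x).1 hxe).symm
  have hk0 := D.k0
  have h0 : act (D.tv a) D.f = D.f + (D.k * a) • D.e := by rw [act_tv, D.fe, mul_one]
  have h1 : D.k * b * (D.k * a) = -1 := by
    rw [hb]
    field_simp
  rw [act_mul, act_mul, act_mul, act_mul, D.act_x_inv hxf, h0, act_add, act_smul, hxf, hxe, act_tv,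
    herm_add_left, herm_smul_left, D.fr.ee, D.fe, zero_add, mul_one, h1, neg_one_smul]
  rw [show D.e + (D.k * (a : F)) • D.f + -D.e = (D.k * (a : F)) • D.f by abel, act_smul, hxe']

end Dat

/-- **S4834 for `PSU_n(q)`, `p ∣ q`, `n ≠ 4`.** -/
theorem good_psu {p : ℕ} [Fact p.Prime] (hp : 3 < p) {F : Type u} [Field F] [Fintype F] [CharP F p] {q n : ℕ}
    (hF : Fintype.card F = q ^ 2) (hn : 3 ≤ n) (h4 : n ≠ 4) : Good p (PSU n F q) := by
  have hpq : p ∣ q := prime_dvd_q p hF
  have hq : q ≠ 2 := by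
    rintro rfl
    have := Nat.le_of_dvd (by norm_num) hpq
    omega
  have : IsSimpleGroup (PSU n F q) := LieClassical.HermSimple.isSimpleGroup_of_perfect hF hn
    (LieClassical.HermPerfect.commutator_SU_eq_top hF hn (by omega))
  obtain ⟨D⟩ := exists_dat (n := n) hF (by omega)
  obtain ⟨x, hxe, hxf⟩ := D.exists_x hn
  have : CharP (fixF hF) p := inferInstance
  refine theta_good D.z_add (D.z_inj hn) hp ?_ (D.hcan hn) (D.hidx hn p) (D.NN x)
    (D.exists_NN hn h4 hxe) (pr n F q x) ⟨1, odd_one, D.wit_one hn⟩ ?_ ?_ ?_ (D.x2 hn hxe hxf) (D.x3 hxe hxf)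
  · refine ⟨pr n F q x, D.z 1, fun h => ?_⟩
    have h1 : pr n F q x * D.z 1 * (pr n F q x)⁻¹ = D.z 1 := by rw [h]; group
    have h2 : Nrm D.z (D.z 1) := fun a => ⟨a, by
      rw [← D.z_add, add_comm, D.z_add, mul_inv_cancel_right]⟩
    exact one_ne_zero (D.x2 hn hxe hxf 1 (by rw [h1]; exact h2))
  · rintro y (rfl | rfl | ⟨g, rfl, hg, z, hz, hzz, hgz⟩)
    · left
      rw [← map_one (pr n F q)]
      exact D.nrm (c := 1) (by rw [act_one, one_smul])
    · right; left
      rw [inv_mul_cancel, ← map_one (pr n F q)]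
      exact D.nrm (c := 1) (by rw [act_one, one_smul])
    · right; right
      exact ⟨1, 0, D.wit_w hg hz hzz hgz, by norm_num⟩
  · rintro y (rfl | rfl | ⟨g, rfl, hg, z, hz, hzz, hgz⟩)
    · left
      rw [← map_one (pr n F q)]
      exact D.nrm (c := 1) (by rw [act_one, one_smul])
    · right
      refine ⟨1, -1, D.wit_x hn hxe, fun h => ?_⟩
      have := Int.le_of_dvd (by norm_num) h
      omega
    · right
      refine ⟨1, 0, D.wit_w hg hz hzz hgz, fun h => ?_⟩
      have := Int.le_of_dvd (by norm_num) h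
      omega
  · rw [← map_mul]
    exact D.nrm (c := 1) (by rw [act_mul, hxe, hxf, one_smul])

end Cfsg.Agent.H594.GoodPSU
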