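import Cfsg.Agent.H50.HerRel

/-!
# Hering's theorem: the arithmetic of the row `PSL_n(q)`, `n ≥ 3` (helper594)
-/

set_option autoImplicit false

namespace Cfsg.Agent.H594.HerPsl

open Cfsg.Agent.H50.Her Finset

/-- `|PGL_n(q)|` -/
def pg (n q : ℕ) : ℕ := q ^ (n * (n - 1) / 2) * ∏ i ∈ range (n - 1), (q ^ (i + 2) - 1)

theorem prime_dvd_pg {r n q : ℕ} (hr : r.Prime) (h : r ∣ pg n q) : r ∣ q ∨ ∃ i < n - 1, r ∣ q ^ (i + 2) - 1 := by
  unfold pg at h
  rcases hr.dvd_mul.1 h with h | h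
  · exact Or.inl (hr.dvd_of_dvd_pow h)
  · obtain ⟨i, hi, hi2⟩ := (Prime.dvd_finsetProd_iff hr.prime _).1 h
    exact Or.inr ⟨i, mem_range.1 hi, hi2⟩

/-- `q ^ j - 1 = (q - 1) s` -/
theorem le_of_dvd_sub {r q j : ℕ} (hr : r.Prime) (hq : 2 ≤ q) (hj : 0 < j) (h : r ∣ q ^ j - 1) :
    r ∣ q - 1 ∨ (q - 1) * r ≤ q ^ j - 1 := by
  have h1 : q - 1 ∣ q ^ j - 1 := by
    have := Nat.sub_dvd_pow_sub_pow q 1 j
    rwa [one_pow] at this
  obtain ⟨s, hs⟩ := h1
  rw [hs] at h ⊢
  rcases hr.dvd_mul.1 h with h | h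
  · exact Or.inl h
  · right
    have h2 : 0 < q ^ j - 1 := by
      have := Nat.one_lt_pow hj.ne' (show 1 < q by omega)
      omega
    have h3 : 0 < s := by
      rcases Nat.eq_zero_or_pos s with h0 | h0
      · rw [h0, mul_zero] at hs; omega
      · exact h0
    exact Nat.mul_le_mul_left _ (Nat.le_of_dvd h3 h)

/-- primes dividing the order -/
theorem prime_le {r n q : ℕ} (hr : r.Prime) (hq : 2 ≤ q) (hn : 3 ≤ n) (h : r ∣ pg n q) :
    r ≤ q ∨ (¬ r ∣ q ∧ (q - 1) * r ≤ q ^ n - 1 ∧ ∃ i < n - 1, r ∣ q ^ (i + 2) - 1) := by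
  rcases prime_dvd_pg hr h with h | ⟨i, hi, h⟩
  · exact Or.inl (Nat.le_of_dvd (by omega) h)
  · rcases le_of_dvd_sub hr hq (by omega) h with h1 | h1
    · left
      have := Nat.le_of_dvd (by omega) h1
      omega
    · right
      refine ⟨?_, h1.trans ?_, i, hi, h⟩
      · intro hrq
        have h2 : r ∣ q ^ (i + 2) := hrq.trans (dvd_pow_self q (by omega))
        have h3 : 1 ≤ q ^ (i + 2) := Nat.one_le_pow _ _ (by omega)
        have h4 : r ∣ q ^ (i + 2) - (q ^ (i + 2) - 1) := Nat.dvd_sub h2 h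
        rw [Nat.sub_sub_self h3] at h4
        exact hr.one_lt.ne' (Nat.dvd_one.1 h4)
      · exact Nat.sub_le_sub_right (Nat.pow_le_pow_right (by omega) (by omega)) 1

theorem prod_lt (q : ℕ) (hq : 2 ≤ q) : ∀ n : ℕ, ∏ i ∈ range n, (q ^ (i + 2) - 1) ≤ q ^ (n * (n + 3) / 2)
  | 0 => by simp
  | n + 1 => by
    rw [prod_range_succ]
    have h1 := prod_lt q hq n
    have h2 : q ^ ((n + 1) * (n + 1 + 3) / 2) = q ^ (n * (n + 3) / 2) * q ^ (n + 2) := by
      rw [← pow_add]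
      congr 1
      have : (n + 1) * (n + 1 + 3) = n * (n + 3) + (n + 2) * 2 := by ring
      rw [this, Nat.add_mul_div_right _ _ (by norm_num)]
    rw [h2]
    exact Nat.mul_le_mul h1 (Nat.sub_le _ _)

theorem pg_le {n q : ℕ} (hn : 1 ≤ n) (hq : 2 ≤ q) : pg n q ≤ q ^ (n ^ 2 - 1) := by
  unfold pg
  refine (Nat.mul_le_mul_left _ (prod_lt q hq (n - 1))).trans ?_
  rw [← pow_add]
  refine Nat.pow_le_pow_right (by omega) ?_
  obtain ⟨m, rfl⟩ : ∃ m, n = m + 1 := ⟨n - 1, by omega⟩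
  rw [Nat.add_sub_cancel]
  have h1 : (m + 1) * m + m * (m + 3) = ((m + 1) ^ 2 - 1) * 2 := by
    have : (m + 1) ^ 2 - 1 = m * (m + 2) := by
      rw [show (m + 1) ^ 2 = m * (m + 2) + 1 by ring, Nat.add_sub_cancel]
    rw [this]; ring
  have h2 : (m + 1) * m % 2 = 0 := by
    have := Nat.even_mul_succ_self m
    rw [mul_comm] at this
    exact Nat.even_iff.1 this
  omega

/-- the numbers: large prime -/
theorem num_large {r n q d : ℕ} (hr : r.Prime) (hq : 2 ≤ q) (hn : 3 ≤ n) (h : r ∣ pg n q)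
    (hD : q ^ (n - 1) - 1 ≤ d) (hrd : 2 * d + 1 ≤ r) : q = 2 ∧ d = 2 ^ (n - 1) - 1 := by
  obtain ⟨m, rfl⟩ : ∃ m, n = m + 1 := ⟨n - 1, by omega⟩
  rw [Nat.add_sub_cancel] at hD ⊢
  have h1 : q ^ 2 ≤ q ^ m := Nat.pow_le_pow_right (by omega) (by omega)
  rcases prime_le hr hq hn h with h2 | ⟨-, h2, -⟩
  · exfalso
    have : q * 2 ≤ q ^ 2 := by nlinarith
    omega
  · rw [pow_succ] at h2
    set X := q ^ m with hX
    have h4 : 4 ≤ X := by nlinarith
    have h5 : 2 * X - 1 ≤ r := by omega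
    have h6 : (q - 1) * (2 * X - 1) ≤ X * q - 1 := (Nat.mul_le_mul_left _ h5).trans h2
    have h7 : q = 2 := by
      by_contra h8
      obtain ⟨a, rfl⟩ : ∃ a, q = a + 3 := ⟨q - 3, by omega⟩
      have h9 : (a + 3 - 1) * (2 * X - 1) = (a + 2) * (2 * X - 1) := by congr 1
      rw [h9] at h6
      obtain ⟨Y, hY⟩ : ∃ Y, X = Y + 1 := ⟨X - 1, by omega⟩
      rw [hY] at h6
      have h10 : 2 * (Y + 1) - 1 = 2 * Y + 1 := by omega
      rw [h10] at h6
      have h11 : (Y + 1) * (a + 3) - 1 = Y * (a + 3) + (a + 2) := by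
        have : (Y + 1) * (a + 3) = Y * (a + 3) + (a + 2) + 1 := by ring
        omega
      rw [h11] at h6
      nlinarith
    refine ⟨h7, ?_⟩
    subst h7
    omega

/-- the numbers: `r = d + 1`, `r ^ 2` -/
theorem num_sq {r n q d f : ℕ} (hr : r.Prime) (hq : 2 ≤ q) (hn : 3 ≤ n) (hf : 1 ≤ f) (hfq : f < q)
    (hD : q ^ (n - 1) - 1 ≤ d) (hrd : r = d + 1) (h : r ∣ pg n q) (h2 : r ^ 2 ∣ 2 * f * pg n q) : False := by
  obtain ⟨m, rfl⟩ : ∃ m, n = m + 2 := ⟨n - 2, by omega⟩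
  have e1 : m + 2 - 1 = m + 1 := by omega
  rw [e1] at hD
  have h1 : q ^ 2 ≤ q ^ (m + 1) := Nat.pow_le_pow_right (by omega) (by omega)
  have h3 : q * 2 ≤ q ^ 2 := by nlinarith
  have h4 : q ^ (m + 1) ≤ r := by omega
  have hrq : ¬ r ∣ q := fun h5 => by have := Nat.le_of_dvd (by omega) h5; omega
  have hr2 : ¬ r ∣ 2 := fun h5 => by have := Nat.le_of_dvd (by omega) h5; omega
  have hrf : ¬ r ∣ f := fun h5 => by have := Nat.le_of_dvd (by omega) h5; omega
  have hc : ∀ {x y : ℕ}, ¬ r ∣ x → r ^ 2 ∣ x * y → r ^ 2 ∣ y := fun {x y} hx hxy =>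
    (Nat.Coprime.pow_left 2 ((Nat.Prime.coprime_iff_not_dvd hr).2 hx)).dvd_of_dvd_mul_left hxy
  rw [mul_assoc] at h2
  have h5 := hc hrf (hc hr2 h2)
  unfold pg at h5
  have h6 := hc (fun h7 => hrq (hr.dvd_of_dvd_pow h7)) h5
  rw [e1, prod_range_succ] at h6
  have h8 := hc (x := ∏ i ∈ range m, (q ^ (i + 2) - 1)) (fun h7 => by
    obtain ⟨i, hi, hi2⟩ := (Prime.dvd_finsetProd_iff hr.prime _).1 h7
    rw [mem_range] at hi
    have h9 : 1 < q ^ (i + 2) := Nat.one_lt_pow (by omega) (by omega)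
    have h10 := Nat.le_of_dvd (by omega) hi2
    have h11 : q ^ (i + 2) ≤ q ^ (m + 1) := Nat.pow_le_pow_right (by omega) (by omega)
    omega) h6
  have h9 : 1 < q ^ (m + 2) := Nat.one_lt_pow (by omega) (by omega)
  have h10 := Nat.le_of_dvd (by omega) h8
  have h11 : (q ^ (m + 1)) ^ 2 ≤ r ^ 2 := Nat.pow_le_pow_left h4 2
  have h12 : q ^ (m + 2) ≤ (q ^ (m + 1)) ^ 2 := by
    rw [← pow_mul]
    exact Nat.pow_le_pow_right (by omega) (by omega)
  omega

theorem pow_three_gt : ∀ n : ℕ, 2 ^ ((n + 6) ^ 2) < 3 ^ (2 ^ (n + 5) - 2) := by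
  have key : ∀ n : ℕ, (n + 6) ^ 2 < 3 * (2 ^ (n + 4) - 1) := by
    intro n
    induction n with
    | zero => norm_num
    | succ n ih =>
      have h1 : 16 ≤ 2 ^ (n + 4) := by
        calc 16 = 2 ^ 4 := by norm_num
          _ ≤ 2 ^ (n + 4) := Nat.pow_le_pow_right (by norm_num) (by omega)
      have h2 : 2 ^ (n + 1 + 4) = 2 * 2 ^ (n + 4) := by rw [show n + 1 + 4 = (n + 4) + 1 by ring, pow_succ]; ring
      rw [h2]
      have h3 : (n + 1 + 6) ^ 2 = (n + 6) ^ 2 + 2 * n + 13 := by ring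
      have h4 : n < 2 ^ n := Nat.lt_two_pow_self
      have h5 : 2 ^ (n + 4) = 16 * 2 ^ n := by rw [pow_add]; ring
      omega
  intro n
  have h1 : 1 ≤ 2 ^ (n + 4) := Nat.one_le_pow _ _ (by norm_num)
  have h2 : 2 ^ (n + 5) - 2 = 2 * (2 ^ (n + 4) - 1) := by
    rw [show n + 5 = (n + 4) + 1 by ring, pow_succ]; omega
  rw [h2, pow_mul]
  calc 2 ^ ((n + 6) ^ 2) < 2 ^ (3 * (2 ^ (n + 4) - 1)) := Nat.pow_lt_pow_right (by norm_num) (key n)
    _ = 8 ^ (2 ^ (n + 4) - 1) := by rw [pow_mul]; norm_num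
    _ ≤ (3 ^ 2) ^ (2 ^ (n + 4) - 1) := Nat.pow_le_pow_left (by norm_num) _

/-- the numbers: `q = 2`, `n ≥ 5` -/
theorem num_two {p n d : ℕ} (hp : p.Prime) (hp2 : p ≠ 2) (hn : 5 ≤ n) (hd : d = 2 ^ (n - 1) - 1)
    (h : p ^ d - 1 ∣ (p - 1) * (2 * 1 * pg n 2)) : False := by
  have hp3 : 3 ≤ p := by have := hp.two_le; omega
  have hpg : 0 < pg n 2 := by
    unfold pg
    refine Nat.mul_pos (by positivity) (prod_pos fun i _ => ?_)
    have : 1 < 2 ^ (i + 2) := Nat.one_lt_pow (by omega) (by norm_num)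
    omega
  have hd16 : 16 ≤ 2 ^ (n - 1) := by
    calc 16 = 2 ^ 4 := by norm_num
      _ ≤ 2 ^ (n - 1) := Nat.pow_le_pow_right (by norm_num) (by omega)
  -- `p ^ (d - 1) ≤ 2 pg`
  have h1 : p ^ (d - 1) ≤ 2 * pg n 2 := by
    have h2 := Nat.le_of_dvd (Nat.mul_pos (by omega) (by omega)) h
    obtain ⟨c, hc⟩ : ∃ c, d = c + 1 := ⟨d - 1, by omega⟩
    rw [hc, pow_succ] at h2
    rw [hc, Nat.add_sub_cancel]
    have h3 : 1 ≤ p ^ c := Nat.one_le_pow _ _ (by omega)
    obtain ⟨a, rfl⟩ : ∃ a, p = a + 1 := ⟨p - 1, by omega⟩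
    rw [Nat.add_sub_cancel] at h2
    have h4 : a * (a + 1) ^ c ≤ a * (2 * 1 * pg n 2) := by
      refine le_trans ?_ h2
      rw [mul_add, mul_one, mul_comm]
      omega
    have := Nat.le_of_mul_le_mul_left h4 (by omega)
    omega
  rcases hn.eq_or_lt with rfl | hn6
  · have h2 : pg 5 2 = 9999360 := by decide
    rw [h2] at h1 h
    have h3 : d = 15 := by rw [hd]; norm_num
    rw [h3] at h h1
    have h4 : p < 5 := by
      by_contra h5
      have := Nat.pow_le_pow_left (Nat.le_of_not_lt h5) (15 - 1)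
      norm_num at this h1
      omega
    have h5 : p = 3 := by
      interval_cases p
      · rfl
      · exact absurd hp (by norm_num)
    subst h5
    revert h
    norm_num
  · obtain ⟨m, rfl⟩ : ∃ m, n = m + 6 := ⟨n - 6, by omega⟩
    have h2 := pg_le (n := m + 6) (q := 2) (by omega) le_rfl
    have h3 := pow_three_gt m
    have h4 : d - 1 = 2 ^ (m + 5) - 2 := by
      rw [hd, show m + 6 - 1 = m + 5 by omega]; omega
    rw [h4] at h1
    have h5 : 3 ^ (2 ^ (m + 5) - 2) ≤ p ^ (2 ^ (m + 5) - 2) := Nat.pow_le_pow_left hp3 _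
    have h6 : 2 * 2 ^ ((m + 6) ^ 2 - 1) = 2 ^ ((m + 6) ^ 2) := by
      rw [← pow_succ', Nat.sub_add_cancel (Nat.one_le_pow _ _ (by omega))]
    omega

/-- **The numbers**, non-exceptional multiplier. -/
theorem num {p d b r R n q f m : ℕ} (hp : p.Prime) (hq : 2 ≤ q) (hn : 3 ≤ n) (hf : 1 ≤ f) (hfq : f < q)
    (hf1 : q = 2 ∨ q = 3 → f = 1) (hpq : p = 2 → q % 2 = 1)
    (hR : Rel p d r R) (h : r ∣ pg n q) (hRm : Large p d r R → R ∣ 2 * f * pg n q) (hb : 0 < b)
    (hD : (q ^ (n - 1) - 1) * b ≤ d) (hm : m = 2 * f * pg n q) (hnum : p ^ d - 1 ∣ (p ^ b - 1) * m)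
    (hexc : q = 2 → 5 ≤ n) : False := by
  have hq1 : 1 ≤ q ^ (n - 1) - 1 := by
    have : 1 < q ^ (n - 1) := Nat.one_lt_pow (by omega) (by omega)
    omega
  have hD1 : q ^ (n - 1) - 1 ≤ d := le_trans (Nat.le_mul_of_pos_right _ hb) hD
  rcases hR with hL | ⟨hr, -, he⟩
  · rcases hL.large with ⟨-, h1⟩ | ⟨h1, h2⟩
    · obtain ⟨h2, h3⟩ := num_large hL.prime hq hn h hD1 h1
      subst h2
      have hb1 : b = 1 := by
        by_contra hb1
        have : (2 ^ (n - 1) - 1) * 2 ≤ (2 ^ (n - 1) - 1) * b := Nat.mul_le_mul_left _ (by omega)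
        omega
      rw [hb1, pow_one, hm, hf1 (Or.inl rfl)] at hnum
      exact num_two hp (fun h4 => by have := hpq h4; omega) (hexc rfl) h3 hnum
    · have h3 := hRm hL
      rw [h1] at h3
      exact num_sq hL.prime hq hn hf hfq hD1 h2 h h3
  · -- the exceptional pairs
    have hq2 : q ^ 2 ≤ q ^ (n - 1) := Nat.pow_le_pow_right (by omega) (by omega)
    have hcase : q = 3 ∧ n = 3 ∧ p = 2 := by
      rcases he with ⟨rfl, h1⟩ | ⟨h1, h2⟩
      · have h3 := hpq rfl
        have h4 : q < 5 := by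
          by_contra h5
          have : 5 ^ 2 ≤ q ^ 2 := Nat.pow_le_pow_left (Nat.le_of_not_lt h5) 2
          omega
        have h5 : q = 3 := by omega
        subst h5
        refine ⟨rfl, ?_, rfl⟩
        by_contra h6
        have : 3 ^ 3 ≤ 3 ^ (n - 1) := Nat.pow_le_pow_right (by norm_num) (by omega)
        omega
      · exfalso
        have h4 : q < 3 := by
          by_contra h5
          have : 3 ^ 2 ≤ q ^ 2 := Nat.pow_le_pow_left (Nat.le_of_not_lt h5) 2
          omega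
        have h5 : q = 2 := by omega
        subst h5
        have := hexc rfl
        have : 2 ^ 4 ≤ 2 ^ (n - 1) := Nat.pow_le_pow_right (by norm_num) (by omega)
        omega
    obtain ⟨rfl, rfl, rfl⟩ := hcase
    have hpg : pg 3 3 = 5616 := by decide
    rw [hpg] at h hm
    rw [hf1 (Or.inr rfl)] at hm
    subst hm
    rcases he with ⟨-, h1⟩ | ⟨h1, h2⟩
    · rcases h1 with rfl | rfl | rfl
      · rw [hr] at h; revert h; norm_num
      · have hb1 : b = 1 := by
          norm_num at hD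
          omega
        subst hb1
        revert hnum
        norm_num
      · rw [hr] at h; revert h; norm_num
    · omega

/-! ### The exceptional multipliers -/

theorem dvd_pred {p d r R : ℕ} (hd : 3 ≤ d) (hL : Large p d r R) : d ∣ r - 1 := by
  have hrp : ¬ r ∣ p := by
    intro hta
    have := Fact.mk hL.prime
    have h0 : (p : ZMod r) = 0 := (ZMod.natCast_eq_zero_iff p r).2 hta
    have h3 : (p : ZMod r) ^ d = 1 := by rw [← hL.ord]; exact pow_orderOf_eq_one _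
    rw [h0, zero_pow (by omega)] at h3
    exact zero_ne_one h3
  have := Cfsg.Agent.Lib.Zsigmondy.orderOf_dvd_pred hL.prime hrp
  rwa [hL.ord] at this

/-- **The numbers**, exceptional multipliers: `|Aut S|` divides `241920`. -/
theorem num_exc {p d b r R m : ℕ} (hp : p.Prime) (hp2 : p ≠ 2) (hd : 3 ≤ d) (hR : Rel p d r R) (hr : r ∣ m)
    (hm : m ∣ 241920) (hRm : Large p d r R → R ∣ m) (hb : 0 < b) (hbd : b ∣ d) (hlt : b < d)
    (hnum : p ^ d - 1 ∣ (p ^ b - 1) * m) (h3 : p ≠ 7 → 3 * b ≤ d) : False := by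
  have hp3 : 3 ≤ p := by have := hp.two_le; omega
  rcases hR with hL | ⟨hr', -, he⟩
  · have h1 : r ∈ Nat.primeFactors 241920 := Nat.mem_primeFactors.2 ⟨hL.prime, hr.trans hm, by norm_num⟩
    have h2 : r = 2 ∨ r = 3 ∨ r = 5 ∨ r = 7 := by
      have h4 : r ∣ 2 ^ 8 * 3 ^ 3 * 5 * 7 := by
        have := hr.trans hm
        rwa [show 241920 = 2 ^ 8 * 3 ^ 3 * 5 * 7 by norm_num] at this
      rcases hL.prime.dvd_mul.1 h4 with h4 | h4
      · rcases hL.prime.dvd_mul.1 h4 with h4 | h4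
        · rcases hL.prime.dvd_mul.1 h4 with h4 | h4
          · exact Or.inl ((Nat.prime_dvd_prime_iff_eq hL.prime Nat.prime_two).1 (hL.prime.dvd_of_dvd_pow h4))
          · exact Or.inr (Or.inl ((Nat.prime_dvd_prime_iff_eq hL.prime Nat.prime_three).1
              (hL.prime.dvd_of_dvd_pow h4)))
        · exact Or.inr (Or.inr (Or.inl ((Nat.prime_dvd_prime_iff_eq hL.prime (by norm_num)).1 h4)))
      · exact Or.inr (Or.inr (Or.inr ((Nat.prime_dvd_prime_iff_eq hL.prime (by norm_num)).1 h4)))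
    have h4 := dvd_pred hd hL
    have h5 := (hRm hL).trans hm
    rcases h2 with rfl | rfl | rfl | rfl
    · have := Nat.le_of_dvd (by norm_num) h4; omega
    · have := Nat.le_of_dvd (by norm_num) h4; omega
    · have h6 := Nat.le_of_dvd (by norm_num) h4
      rcases hL.large with ⟨-, h7⟩ | ⟨h7, h8⟩
      · omega
      · rw [h7] at h5; revert h5; norm_num
    · have h6 := Nat.le_of_dvd (by norm_num) h4
      rcases hL.large with ⟨-, h7⟩ | ⟨h7, h8⟩
      · have h8 : d = 3 := by omega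
        subst h8
        have h9 : b = 1 := by
          have h10 : b = 1 ∨ b = 2 := by omega
          rcases h10 with h10 | h10
          · exact h10
          · rw [h10] at hbd; revert hbd; norm_num
        subst h9
        rw [pow_one] at hnum
        have h10 : p ^ 3 - 1 = (p - 1) * (p ^ 2 + p + 1) := by
          obtain ⟨a, rfl⟩ : ∃ a, p = a + 1 := ⟨p - 1, by omega⟩
          rw [Nat.add_sub_cancel]
          have : (a + 1) ^ 3 = a * ((a + 1) ^ 2 + (a + 1) + 1) + 1 := by ring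
          rw [this, Nat.add_sub_cancel]
        rw [h10] at hnum
        have h11 : p ^ 2 + p + 1 ∣ 2 ^ 8 * 945 :=
          (Nat.dvd_of_mul_dvd_mul_left (by omega) hnum).trans (hm.trans (by norm_num))
        have h12 : (p ^ 2 + p + 1).Coprime (2 ^ 8) := by
          apply Nat.Coprime.pow_right
          rw [Nat.coprime_two_right]
          have h13 : p ^ 2 + p + 1 = p * (p + 1) + 1 := by ring
          rw [h13]
          exact (Nat.even_mul_succ_self p).add_one
        have h13 : p ^ 2 + p + 1 ∣ 945 := h12.dvd_of_dvd_mul_left h11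
        have h14 : p < 31 := by
          by_contra h15
          have h16 := Nat.le_of_dvd (by norm_num) h13
          have h17 : 31 ^ 2 ≤ p ^ 2 := Nat.pow_le_pow_left (Nat.le_of_not_lt h15) 2
          omega
        clear hnum h10 h11 h12 h4 h5 h6 h7 h1 hRm hL hr h3
        interval_cases p <;> first | (exfalso; revert hp; norm_num; done) | (revert h13; norm_num; done)
      · rw [h7] at h5; revert h5; norm_num
  · rcases he with ⟨h1, -⟩ | ⟨rfl, h1⟩
    · exact hp2 h1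
    · have h2 : b = 1 ∨ b = 2 := by
        have := h3 (by rcases h1 with rfl | rfl <;> norm_num)
        omega
      have h4 := hnum.trans (Nat.mul_dvd_mul_left _ hm)
      rcases h1 with rfl | rfl <;> rcases h2 with rfl | rfl <;> revert h4 <;> norm_num

end Cfsg.Agent.H594.HerPsl
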