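import Cfsg.Agent.H880.UElem

/-!
Generation of unitary transvections from pure tensors, abstract part (helper594).

`V` a space with a Hermitian form `B`, `M` a group of isometries, `HasT B M v`: all transvections centred at `v` lie
in `M`. `E` a nondegenerate Hermitian space; `Fin k → E` is `F^k ⊗ E`.
-/

set_option autoImplicit false
set_option linter.unusedSectionVars false

namespace Cfsg.Agent.H594.TensGen

open Module Cfsg.Agent.ClassicalGeometry Matrix Cfsg.Agent.H880

section Forms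

variable {F : Type*} [Field F] {σ : F →+* F} {E : Type*} [AddCommGroup E] [Module F E]

/-- The form `∑ b (X j) (Y j)` on `F^k ⊗ E`. -/
def bF (b : E →ₛₗ[σ] E →ₗ[F] F) {k : ℕ} (X Y : Fin k → E) : F := ∑ j, b (X j) (Y j)

/-- The pure tensor. -/
def tp {k : ℕ} (v : Fin k → F) (y : E) : Fin k → E := fun j => v j • y

/-- The contraction with `v`. -/
def cn (σ : F →+* F) {k : ℕ} (v : Fin k → F) (X : Fin k → E) : E := ∑ j, σ (v j) • X j

theorem bF_tp (hσ2 : ∀ x : F, σ (σ x) = x) (b : E →ₛₗ[σ] E →ₗ[F] F) {k : ℕ} (X : Fin k → E) (v : Fin k → F) (y : E) :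
    bF b X (tp v y) = b (cn σ v X) y := by
  unfold bF tp cn
  rw [map_sum, LinearMap.sum_apply]
  refine Finset.sum_congr rfl fun j _ => ?_
  rw [map_smul, LinearMap.map_smulₛₗ₂, hσ2]

theorem bF_tp_left (b : E →ₛₗ[σ] E →ₗ[F] F) {k : ℕ} (X : Fin k → E) (v : Fin k → F) (y : E) :
    bF b (tp v y) X = b y (cn σ v X) := by
  unfold bF tp cn
  rw [map_sum]
  refine Finset.sum_congr rfl fun j _ => ?_
  rw [LinearMap.map_smulₛₗ₂, map_smul]

theorem cn_tp {k : ℕ} (v w : Fin k → F) (y : E) : cn σ v (tp w y) = stB σ k v w • y := by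
  unfold cn tp
  rw [stB_apply, Finset.sum_smul]
  refine Finset.sum_congr rfl fun j _ => ?_
  rw [smul_smul]

theorem cn_add {k : ℕ} (v : Fin k → F) (X Y : Fin k → E) : cn σ v (X + Y) = cn σ v X + cn σ v Y := by
  unfold cn
  rw [← Finset.sum_add_distrib]
  refine Finset.sum_congr rfl fun j _ => ?_
  rw [Pi.add_apply, smul_add]

theorem cn_sub {k : ℕ} (v : Fin k → F) (X Y : Fin k → E) : cn σ v (X - Y) = cn σ v X - cn σ v Y := by
  unfold cn
  rw [← Finset.sum_sub_distrib]
  refine Finset.sum_congr rfl fun j _ => ?_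
  rw [Pi.sub_apply, smul_sub]

theorem tp_add_left {k : ℕ} (v w : Fin k → F) (y : E) : tp (v + w) y = tp v y + tp w y := by
  funext j; show (v j + w j) • y = v j • y + w j • y; rw [add_smul]

theorem tp_add_right {k : ℕ} (v : Fin k → F) (x y : E) : tp v (x + y) = tp v x + tp v y := by
  funext j; show v j • (x + y) = v j • x + v j • y; rw [smul_add]

theorem tp_sub_right {k : ℕ} (v : Fin k → F) (x y : E) : tp v (x - y) = tp v x - tp v y := by
  funext j; show v j • (x - y) = v j • x - v j • y; rw [smul_sub]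

theorem tp_smul_left {k : ℕ} (c : F) (v : Fin k → F) (y : E) : tp (c • v) y = c • tp v y := by
  funext j; show (c * v j) • y = c • v j • y; rw [mul_smul]

theorem tp_smul_right {k : ℕ} (c : F) (v : Fin k → F) (y : E) : tp v (c • y) = c • tp v y := by
  funext j; show v j • c • y = c • v j • y; rw [smul_comm]

theorem tp_zero_right {k : ℕ} (v : Fin k → F) : tp v (0 : E) = 0 := by
  funext j; show v j • (0 : E) = 0; rw [smul_zero]

theorem tp_zero_left {k : ℕ} (y : E) : tp (0 : Fin k → F) y = 0 := by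
  funext j; show (0 : F) • y = 0; rw [zero_smul]

theorem bF_symm {b : E →ₛₗ[σ] E →ₗ[F] F} (hS : b.IsSymm) {k : ℕ} (X Y : Fin k → E) : σ (bF b X Y) = bF b Y X := by
  unfold bF
  rw [map_sum]
  exact Finset.sum_congr rfl fun j _ => hS.eq _ _

/-- Prescribed products with two independent vectors. -/
theorem exists_two_val (hσ2 : ∀ x : F, σ (σ x) = x) {b : E →ₛₗ[σ] E →ₗ[F] F} (hB : b.SeparatingLeft) {x y : E}
    (hxy : LinearIndependent F ![x, y]) : ∃ u, b x u = 1 ∧ b y u = 0 := by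
  have hy0 : y ≠ 0 := hxy.ne_zero 1
  obtain ⟨z, hz⟩ : ∃ z, b y z ≠ 0 := by
    by_contra h
    push Not at h
    exact hy0 (hB y h)
  obtain ⟨z', hz'⟩ : ∃ z', b y z' = 1 := ⟨(b y z)⁻¹ • z, by rw [map_smul, smul_eq_mul, inv_mul_cancel₀ hz]⟩
  -- some vector is orthogonal to `y` but not to `x`
  obtain ⟨u, hu1, hu2⟩ : ∃ u, b y u = 0 ∧ b x u ≠ 0 := by
    by_contra h
    push Not at h
    have h1 : x - (σ (b x z')) • y = 0 := by
      apply hB
      intro w
      have h2 := h (w - b y w • z') (by rw [map_sub, map_smul, hz', smul_eq_mul, mul_one, sub_self])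
      rw [map_sub, map_smul, smul_eq_mul] at h2
      rw [map_sub, LinearMap.sub_apply, LinearMap.map_smulₛₗ₂, hσ2, smul_eq_mul]
      linear_combination h2
    have h2 := (LinearIndependent.pair_iff.1 hxy) 1 (-(σ (b x z'))) (by rw [one_smul, neg_smul, ← sub_eq_add_neg, h1])
    exact one_ne_zero h2.1
  exact ⟨(b x u)⁻¹ • u, by rw [map_smul, smul_eq_mul, inv_mul_cancel₀ hu2], by rw [map_smul, hu1, smul_zero]⟩

end Forms

section Gen

variable {F : Type*} [Field F] {σ : F →+* F} [Finite F] {V : Type*} [AddCommGroup V] [Module F V]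
  {B : V →ₛₗ[σ] V →ₗ[F] F} {M : Subgroup (V ≃ₗ[F] V)} {E : Type*} [AddCommGroup E] [Module F E]

theorem hasT_zero : HasT B M 0 :=
  ⟨map_zero _, fun l _ => ⟨1, M.one_mem, fun x => by rw [smul_zero, add_zero]; rfl⟩⟩

/-- Dual isotropic embeddings of `F^k ⊗ E`. -/
structure Du {k : ℕ} (B : V →ₛₗ[σ] V →ₗ[F] F) (b : E →ₛₗ[σ] E →ₗ[F] F) (P P' : (Fin k → E) →ₗ[F] V) : Prop where
  pp : ∀ X Y, B (P X) (P Y) = 0
  qq : ∀ X Y, B (P' X) (P' Y) = 0
  pq : ∀ X Y, B (P X) (P' Y) = bF b X Y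

theorem Du.swap {k : ℕ} {b : E →ₛₗ[σ] E →ₗ[F] F} (hS : B.IsSymm) (hSb : b.IsSymm) {P P' : (Fin k → E) →ₗ[F] V}
    (h : Du B b P P') : Du B b P' P :=
  ⟨h.qq, h.pp, fun X Y => by rw [← hS.eq, h.pq, bF_symm hSb]⟩

/-- One half of the rule. -/
theorem rule_half (hσ : σ ≠ RingHom.id F) (hσ2 : ∀ x : F, σ (σ x) = x) (hS : B.IsSymm)
    (hM : ∀ g ∈ M, ∀ x y, B (g x) (g y) = B x y) {b : E →ₛₗ[σ] E →ₗ[F] F} (hB : b.SeparatingLeft)
    {k : ℕ} {P P' : (Fin k → E) →ₗ[F] V} (hP : Du B b P P') {v : Fin k → F}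
    (hv : ∀ y : E, HasT B M (P' (tp v y))) {Y₁ Y₃ : Fin k → E} (h1 : HasT B M (P Y₁)) (h3 : HasT B M (P Y₃))
    (hind : LinearIndependent F ![cn σ v Y₁, cn σ v Y₃]) : HasT B M (P (Y₁ - Y₃)) := by
  obtain ⟨l, hl0, hl⟩ := exists_skew hσ hσ2
  have hσl : σ l = -l := by linear_combination hl
  obtain ⟨u, hu1, hu3⟩ := exists_two_val hσ2 hB hind
  obtain ⟨w, hw3, hw1⟩ := exists_two_val hσ2 hB (LinearIndependent.pair_symm_iff.1 hind)
  have hval : ∀ X y, B (P X) (P' (tp v y)) = b (cn σ v X) y := fun X y => by rw [hP.pq, bF_tp hσ2]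
  have hval' : ∀ X y, B (P' (tp v y)) (P X) = σ (b (cn σ v X) y) := fun X y => by rw [← hS.eq, hval]
  -- `P Y + P' (v ⊗ y)`, with `b (cn Y) y = l`
  have hbase : ∀ Y y, HasT B M (P Y) → b (cn σ v Y) y = l → HasT B M (P Y + P' (tp v y)) := by
    intro Y y hY hy
    refine HasT.add hS hM hY (hv y) ?_ ?_
    · rw [hval', hy, hσl]; exact neg_ne_zero.mpr hl0
    · simp only [map_add, LinearMap.add_apply, hP.pp, hP.qq, hval, hval', hy, hσl]
      ring
  have e1 := hbase Y₁ (l • u) h1 (by rw [map_smul, hu1, smul_eq_mul, mul_one])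
  have e3 : HasT B M (P Y₃ + P' (tp v (l • u))) := by
    have e2 := hbase Y₃ (l • w) h3 (by rw [map_smul, hw3, smul_eq_mul, mul_one])
    have e4 := HasT.add hS hM e2 (hv (l • u - l • w)) (by
      rw [map_add, hval', hP.qq, add_zero, map_sub, map_smul, map_smul, hw3, hu3, smul_zero, smul_eq_mul, mul_one,
        zero_sub, map_neg, hσl, neg_neg]
      exact hl0) (by
      have e : P Y₃ + P' (tp v (l • w)) + P' (tp v (l • u - l • w)) = P Y₃ + P' (tp v (l • u)) := by
        rw [add_assoc, ← map_add, ← tp_add_right, add_sub_cancel]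
      rw [e]
      simp only [map_add, LinearMap.add_apply, hP.pp, hP.qq, hval, hval']
      rw [map_smul, hu3, smul_zero, map_zero]
      ring)
    have e : P Y₃ + P' (tp v (l • w)) + P' (tp v (l • u - l • w)) = P Y₃ + P' (tp v (l • u)) := by
      rw [add_assoc, ← map_add, ← tp_add_right, add_sub_cancel]
    rwa [e] at e4
  have e : P Y₁ + P' (tp v (l • u)) + (-1 : F) • (P Y₃ + P' (tp v (l • u))) = P (Y₁ - Y₃) := by
    rw [map_sub]
    module
  have ev1 : b (cn σ v Y₁) (l • u) = l := by rw [map_smul, hu1, smul_eq_mul, mul_one]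
  have ev3 : b (cn σ v Y₃) (l • u) = 0 := by rw [map_smul, hu3, smul_zero]
  have hBv : B (P Y₃ + P' (tp v (l • u))) (P Y₁ + P' (tp v (l • u))) = -l := by
    simp only [map_add, LinearMap.add_apply, hP.pp, hP.qq, hval, hval', ev1, ev3, hσl]
    ring
  have e5 := HasT.add hS hM e1 (e3.smul hσ2 (-1)) (by
    rw [LinearMap.map_smulₛₗ₂, hBv, map_neg, map_one, smul_eq_mul]
    intro h
    exact hl0 (by linear_combination h)) (by rw [e]; exact hP.pp _ _)
  rwa [e] at e5

/-- The rule. -/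
theorem rule (hσ : σ ≠ RingHom.id F) (hσ2 : ∀ x : F, σ (σ x) = x) (hS : B.IsSymm)
    (hM : ∀ g ∈ M, ∀ x y, B (g x) (g y) = B x y) {b : E →ₛₗ[σ] E →ₗ[F] F} (hSb : b.IsSymm) (hB : b.SeparatingLeft)
    {k : ℕ} {P P' : (Fin k → E) →ₗ[F] V} (hP : Du B b P P') {v : Fin k → F}
    (hv : ∀ y : E, HasT B M (P (tp v y)) ∧ HasT B M (P' (tp v y))) {Y₁ Y₃ : Fin k → E}
    (h1 : HasT B M (P Y₁) ∧ HasT B M (P' Y₁)) (h3 : HasT B M (P Y₃) ∧ HasT B M (P' Y₃))
    (hind : LinearIndependent F ![cn σ v Y₁, cn σ v Y₃]) : HasT B M (P (Y₁ - Y₃)) ∧ HasT B M (P' (Y₁ - Y₃)) :=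
  ⟨rule_half hσ hσ2 hS hM hB hP (fun y => (hv y).2) h1.1 h3.1 hind,
    rule_half hσ hσ2 hS hM hB (hP.swap hS hSb) (fun y => (hv y).1) h1.2 h3.2 hind⟩

/-- All pure tensors. -/
theorem pure_all (hσ : σ ≠ RingHom.id F) (hσ2 : ∀ x : F, σ (σ x) = x) (hS : B.IsSymm)
    (hM : ∀ g ∈ M, ∀ x y, B (g x) (g y) = B x y) {b : E →ₛₗ[σ] E →ₗ[F] F} (hSb : b.IsSymm) (hB : b.SeparatingLeft)
    (h2 : ∀ y : E, y ≠ 0 → ∃ y', LinearIndependent F ![y, y'])
    {k : ℕ} (hk : 3 ≤ k) {P P' : (Fin k → E) →ₗ[F] V} (hP : Du B b P P')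
    (h : ∀ (y : E) (v : Fin k → F), stB σ k v v = 0 → HasT B M (P (tp v y)) ∧ HasT B M (P' (tp v y)))
    (w : Fin k → F) (y : E) : HasT B M (P (tp w y)) ∧ HasT B M (P' (tp w y)) := by
  have hSk := stB_symm hσ2 k
  by_cases hw : stB σ k w w = 0
  · exact h y w hw
  by_cases hy : y = 0
  · subst hy
    rw [tp_zero_right, map_zero, map_zero]
    exact ⟨hasT_zero, hasT_zero⟩
  have hw0 : w ≠ 0 := by
    rintro rfl
    exact hw (by simp)
  obtain ⟨α, hα⟩ := HermWitt.trace_surj σ hσ hσ2 (stB σ k w w) (hSk.eq _ _)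
  obtain ⟨v₁, hwv, hv₁⟩ := exists_vec (B := stB σ k) hσ hσ2 hSk (stB_sepLeft k) (by rw [finrank_fin_fun]; exact hk)
    hw0 α 0 (map_zero σ)
  have hv₁w : stB σ k v₁ w = σ α := by rw [← hSk.eq, hwv]
  obtain ⟨v₂, hv₂d⟩ : ∃ v₂, v₂ = w - v₁ := ⟨_, rfl⟩
  have hwd : w = v₁ + v₂ := by rw [hv₂d]; abel
  have hv₂ : stB σ k v₂ v₂ = 0 := by
    rw [hv₂d]
    simp only [map_sub, LinearMap.sub_apply, hwv, hv₁w, hv₁]
    linear_combination -hα
  have hv₁₂ : stB σ k v₁ v₂ = σ α := by
    rw [hv₂d, map_sub, hv₁, hv₁w, sub_zero]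
  have hv₂₁ : stB σ k v₂ v₁ = α := by rw [← hSk.eq, hv₁₂, hσ2]
  have hα0 : α ≠ 0 := by
    rintro rfl
    rw [map_zero, add_zero] at hα
    exact hw hα.symm
  have hσα0 : σ α ≠ 0 := by simpa using hα0
  obtain ⟨y', hyy'⟩ := h2 y hy
  obtain ⟨l, hl0, hl⟩ := exists_skew hσ hσ2
  -- `y' ⊗ v₁ - y ⊗ v₂`
  have hc1 : l / σ α * σ α = l := div_mul_cancel₀ _ hσα0
  have hc2 : σ l / α * α = σ l := div_mul_cancel₀ _ hα0
  have s1 : HasT B M (P (tp v₁ y' - tp v₂ y)) ∧ HasT B M (P' (tp v₁ y' - tp v₂ y)) := by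
    have hviso : stB σ k (v₁ + (l / σ α) • v₂) (v₁ + (l / σ α) • v₂) = 0 := by
      simp only [map_add, LinearMap.add_apply, LinearMap.map_smulₛₗ₂, map_smul, smul_eq_mul, hv₁, hv₂, hv₁₂, hv₂₁,
        map_div₀, hσ2]
      linear_combination hl + hc1 + hc2
    refine rule hσ hσ2 hS hM hSb hB hP (v := v₁ + (l / σ α) • v₂) (fun y => h y _ hviso) (h _ _ hv₁) (h _ _ hv₂) ?_
    rw [cn_tp, cn_tp]
    have e1 : stB σ k (v₁ + (l / σ α) • v₂) v₁ = σ l := by
      simp only [map_add, LinearMap.add_apply, LinearMap.map_smulₛₗ₂, smul_eq_mul, hv₁, hv₂₁, map_div₀, hσ2]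
      linear_combination hc2
    have e2 : stB σ k (v₁ + (l / σ α) • v₂) v₂ = σ α := by
      simp only [map_add, LinearMap.add_apply, LinearMap.map_smulₛₗ₂, smul_eq_mul, hv₂, hv₁₂]
      ring
    rw [e1, e2]
    have hσl0 : σ l ≠ 0 := by simpa using hl0
    rw [LinearIndependent.pair_iff] at hyy' ⊢
    intro s t hst
    rw [smul_smul, smul_smul, add_comm] at hst
    obtain ⟨h3, h4⟩ := hyy' _ _ hst
    exact ⟨(mul_eq_zero.1 h4).resolve_right hσl0, (mul_eq_zero.1 h3).resolve_right hσα0⟩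
  have s2 := h (y + y') v₁ hv₁
  have s3 := rule hσ hσ2 hS hM hSb hB hP (v := v₂) (fun y => h y _ hv₂) s2 s1 (by
    rw [cn_sub, cn_tp, cn_tp, cn_tp, hv₂₁, hv₂, zero_smul, sub_zero]
    rw [LinearIndependent.pair_iff] at hyy' ⊢
    intro s t hst
    have h5 : (s * α) • y + ((s + t) * α) • y' = 0 := by
      rw [← hst]; module
    obtain ⟨h3, h4⟩ := hyy' _ _ h5
    have hs := (mul_eq_zero.1 h3).resolve_right hα0
    have ht := (mul_eq_zero.1 h4).resolve_right hα0
    rw [hs, zero_add] at ht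
    exact ⟨hs, ht⟩)
  have e : tp v₁ (y + y') - (tp v₁ y' - tp v₂ y) = tp w y := by
    rw [hwd, tp_add_right, tp_add_left]; abel
  rwa [e] at s3

/-- **Lemma B.** All tensors. -/
theorem all_of_iso (hσ : σ ≠ RingHom.id F) (hσ2 : ∀ x : F, σ (σ x) = x) (hS : B.IsSymm)
    (hM : ∀ g ∈ M, ∀ x y, B (g x) (g y) = B x y) {b : E →ₛₗ[σ] E →ₗ[F] F} (hSb : b.IsSymm) (hB : b.SeparatingLeft)
    (h2 : ∀ y : E, y ≠ 0 → ∃ y', LinearIndependent F ![y, y'])
    {k : ℕ} (hk : 3 ≤ k) {P P' : (Fin k → E) →ₗ[F] V} (hP : Du B b P P')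
    (h : ∀ (y : E) (v : Fin k → F), stB σ k v v = 0 → HasT B M (P (tp v y)) ∧ HasT B M (P' (tp v y)))
    (X : Fin k → E) : HasT B M (P X) ∧ HasT B M (P' X) := by
  classical
  have hpure := pure_all hσ hσ2 hS hM hSb hB h2 hk hP h
  induction hN : (Finset.univ.filter fun i => X i ≠ 0).card using Nat.strong_induction_on generalizing X with
  | _ N ih =>
    by_cases hX : ∃ i, X i ≠ 0
    · obtain ⟨i, hi⟩ := hX
      by_cases hj : ∃ j, X j ∉ Submodule.span F {X i}
      · obtain ⟨j, hj⟩ := hj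
        have hij : j ≠ i := by
          rintro rfl
          exact hj (Submodule.mem_span_singleton_self _)
        have hind : LinearIndependent F ![X i, X j] := by
          rw [LinearIndependent.pair_iff]
          intro s t hst
          have ht : t = 0 := by
            by_contra ht
            apply hj
            rw [Submodule.mem_span_singleton]
            refine ⟨-(s / t), ?_⟩
            have : X j = t⁻¹ • (t • X j) := by rw [smul_smul, inv_mul_cancel₀ ht, one_smul]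
            rw [this, eq_neg_of_add_eq_zero_right hst, smul_neg, smul_smul, neg_smul, div_eq_inv_mul]
          rw [ht, zero_smul, add_zero] at hst
          exact ⟨(smul_eq_zero.1 hst).resolve_right hi, ht⟩
        let Y₁ : Fin k → E := Function.update X i 0
        have hY₁i : Y₁ i = 0 := Function.update_self _ _ _
        have hY₁ : ∀ m, m ≠ i → Y₁ m = X m := fun m hm => Function.update_of_ne hm _ _
        have h1 := ih _ (by
          rw [← hN]
          apply Finset.card_lt_card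
          rw [Finset.ssubset_iff_of_subset]
          · exact ⟨i, Finset.mem_filter.mpr ⟨Finset.mem_univ i, hi⟩, fun h => (Finset.mem_filter.mp h).2 hY₁i⟩
          · intro m hm
            have hm0 := (Finset.mem_filter.mp hm).2
            refine Finset.mem_filter.mpr ⟨Finset.mem_univ m, fun h => hm0 ?_⟩
            by_cases hmi : m = i
            · rw [hmi]; exact hY₁i
            · rw [hY₁ m hmi]; exact h) Y₁ rfl
        have h3 := hpure (-(Pi.single i 1)) (X i)
        have h4 := rule hσ hσ2 hS hM hSb hB hP (v := Pi.single i 1 + Pi.single j 1) (fun y => hpure _ y) h1 h3 (by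
          have e1 : cn σ ((Pi.single i 1 : Fin k → F) + Pi.single j 1) Y₁ = X j := by
            unfold cn
            rw [Finset.sum_eq_single j]
            · rw [Pi.add_apply, Pi.single_eq_of_ne hij, Pi.single_eq_same, zero_add, map_one, one_smul, hY₁ j hij]
            · intro m _ hm
              by_cases hmi : m = i
              · rw [hmi, hY₁i, smul_zero]
              · rw [Pi.add_apply, Pi.single_eq_of_ne hmi, Pi.single_eq_of_ne hm, add_zero, map_zero, zero_smul]
            · intro h; exact absurd (Finset.mem_univ _) h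
          have e2 : cn σ ((Pi.single i 1 : Fin k → F) + Pi.single j 1) (tp (-(Pi.single i 1 : Fin k → F)) (X i)) =
              -(X i) := by
            rw [cn_tp, map_neg, map_add, LinearMap.add_apply, stB_single_left, stB_single_left, Pi.single_eq_same,
              Pi.single_eq_of_ne hij, add_zero, neg_smul, one_smul]
          rw [e1, e2]
          rw [LinearIndependent.pair_iff] at hind ⊢
          intro s t hst
          have h5 : (-t) • X i + s • X j = 0 := by rw [← hst]; module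
          obtain ⟨h6, h7⟩ := hind _ _ h5
          exact ⟨h7, neg_eq_zero.1 h6⟩)
        have e : Y₁ - tp (-(Pi.single i 1 : Fin k → F)) (X i) = X := by
          funext m
          show Y₁ m - (-(Pi.single i (1 : F) : Fin k → F)) m • X i = X m
          by_cases hmi : m = i
          · rw [hmi, hY₁i, Pi.neg_apply, Pi.single_eq_same, neg_smul, one_smul, zero_sub, neg_neg]
          · rw [hY₁ m hmi, Pi.neg_apply, Pi.single_eq_of_ne hmi, neg_zero, zero_smul, sub_zero]
        rwa [e] at h4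
      · push Not at hj
        choose c hc using fun j => Submodule.mem_span_singleton.1 (hj j)
        have e : X = tp c (X i) := by
          funext j
          exact (hc j).symm
        rw [e]
        exact hpure _ _
    · push Not at hX
      have e : X = 0 := funext hX
      rw [e, map_zero, map_zero]
      exact ⟨hasT_zero, hasT_zero⟩

end Gen

end Cfsg.Agent.H594.TensGen
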