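import Cfsg.Agent.H594.TensGenA

/-!
All isotropic vectors from the tensors `u ⊗ w`, `u` isotropic (helper594; after `H880.UGen`).
-/

set_option autoImplicit false
set_option linter.unusedSectionVars false

namespace Cfsg.Agent.H594.TensGen

open Module Cfsg.Agent.ClassicalGeometry Matrix Cfsg.Agent.H880

variable {F : Type*} [Field F] {σ : F →+* F} [Finite F] {V : Type*} [AddCommGroup V] [Module F V]
  {B : V →ₛₗ[σ] V →ₗ[F] F} {M : Subgroup (V ≃ₗ[F] V)} {E : Type*} [AddCommGroup E] [Module F E]
  [FiniteDimensional F E] {a : ℕ}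

theorem bF_add_left (b : E →ₛₗ[σ] E →ₗ[F] F) (X Y Z : Fin a → E) : bF b (X + Y) Z = bF b X Z + bF b Y Z := by
  unfold bF
  rw [← Finset.sum_add_distrib]
  refine Finset.sum_congr rfl fun j _ => ?_
  rw [Pi.add_apply, map_add, LinearMap.add_apply]

theorem bF_add_right (b : E →ₛₗ[σ] E →ₗ[F] F) (X Y Z : Fin a → E) : bF b X (Y + Z) = bF b X Y + bF b X Z := by
  unfold bF
  rw [← Finset.sum_add_distrib]
  refine Finset.sum_congr rfl fun j _ => ?_
  rw [Pi.add_apply, map_add]

theorem bF_pure (b : E →ₛₗ[σ] E →ₗ[F] F) (u u' : Fin a → F) (w w' : E) :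
    bF b (tp u w) (tp u' w') = stB σ a u u' * b w w' := by
  rw [bF_tp_left, cn_tp, map_smul, smul_eq_mul]

/-- All isotropic vectors of `⟨u, u'⟩ ⊗ W` are centres, `(u, u')` a hyperbolic pair. -/
theorem gen_two (hσ : σ ≠ RingHom.id F) (hσ2 : ∀ x : F, σ (σ x) = x) (hS : B.IsSymm)
    (hM : ∀ g ∈ M, ∀ x y, B (g x) (g y) = B x y) {b : E →ₛₗ[σ] E →ₗ[F] F} (hSb : b.IsSymm) (hB : b.SeparatingLeft)
    {Φ : (Fin a → E) →ₗ[F] V} (hΦ : ∀ X Y, B (Φ X) (Φ Y) = bF b X Y)
    (h0 : ∀ u w, stB σ a u u = 0 → HasT B M (Φ (tp u w)))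
    {u u' : Fin a → F} (hu : stB σ a u u = 0) (hu' : stB σ a u' u' = 0) (huu' : stB σ a u u' = 1)
    (w w' : E) (hww : b w w' + b w' w = 0) :
    HasT B M (Φ (tp u w + tp u' w')) := by
  have hSa := stB_symm hσ2 a
  have hu'u : stB σ a u' u = 1 := by rw [← hSa.eq, huu', map_one]
  have hval : ∀ x x' y y' : E, B (Φ (tp u x + tp u' x')) (Φ (tp u y + tp u' y'))
      = b x y' + b x' y := by
    intro x x' y y'
    rw [hΦ]
    simp only [bF_add_left, bF_add_right, bF_pure, hu, hu', huu', hu'u]
    ring
  have hsum : ∀ x x', b x x' ≠ 0 → b x x' + b x' x = 0 →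
      HasT B M (Φ (tp u x + tp u' x')) := by
    intro x x' hne hxx'
    rw [map_add]
    refine HasT.add hS hM (h0 u x hu) (h0 u' x' hu') ?_ ?_
    · rw [hΦ, bF_pure, hu'u, one_mul]
      intro h
      exact hne (symm_zero hSb h)
    · rw [← map_add, hval]; exact hxx'
  by_cases hw0 : w = 0
  · subst hw0
    rw [tp_zero_right, zero_add]; exact h0 u' w' hu'
  by_cases hne : b w w' = 0
  · have hne' := symm_zero hSb hne
    obtain ⟨z, hz⟩ : ∃ z, b w z ≠ 0 := by
      by_contra h
      push Not at h
      exact hw0 (hB w h)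
    obtain ⟨l, hl0, hl⟩ := exists_skew hσ hσ2
    have hσl : σ l = -l := by linear_combination hl
    obtain ⟨w₁, hw₁⟩ : ∃ w₁, b w w₁ = l :=
      ⟨(l / b w z) • z, by rw [map_smul, smul_eq_mul, div_mul_cancel₀ _ hz]⟩
    have hw₁' : b w₁ w = -l := by rw [← hSb.eq, hw₁, hσl]
    have h1 := hsum w w₁ (by rw [hw₁]; exact hl0) (by rw [hw₁, hw₁']; ring)
    have h2 := h0 u' (w' - w₁) hu'
    have e : Φ (tp u w + tp u' w₁) + Φ (tp u' (w' - w₁)) = Φ (tp u w + tp u' w') := by
      rw [← map_add, tp_sub_right]
      congr 1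
      abel
    have h3 := HasT.add hS hM h1 h2 (by
      have e2 : tp u' (w' - w₁) = tp u 0 + tp u' (w' - w₁) := by
        rw [tp_zero_right, zero_add]
      rw [e2, hval, map_zero, LinearMap.zero_apply, zero_add, map_sub, LinearMap.sub_apply, hne', hw₁']
      intro h
      exact hl0 (by linear_combination h)) (by
      rw [e, hval]; exact hww)
    rw [e] at h3
    exact h3
  · exact hsum w w' hne hww

/-- All isotropic vectors supported on two rows are centres. -/
theorem gen_rows_two (hσ : σ ≠ RingHom.id F) (hσ2 : ∀ x : F, σ (σ x) = x) (hS : B.IsSymm)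
    (hM : ∀ g ∈ M, ∀ x y, B (g x) (g y) = B x y) {b : E →ₛₗ[σ] E →ₗ[F] F} (hSb : b.IsSymm) (hB : b.SeparatingLeft)
    {Φ : (Fin a → E) →ₗ[F] V} (hΦ : ∀ X Y, B (Φ X) (Φ Y) = bF b X Y)
    (h0 : ∀ u w, stB σ a u u = 0 → HasT B M (Φ (tp u w)))
    {i j : Fin a} (hij : i ≠ j) (x x' : E)
    (hxx : b x x + b x' x' = 0) :
    HasT B M (Φ (tp (Pi.single i (1 : F)) x + tp (Pi.single j (1 : F)) x')) := by
  obtain ⟨c, ζ, hc, hζ, hζ1⟩ := exists_norm_neg_one hσ hσ2
  have hc0 : c ≠ 0 := by
    rintro rfl
    rw [mul_zero] at hc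
    exact one_ne_zero (neg_eq_zero.mp hc.symm)
  have hii : stB σ a (Pi.single i 1) (Pi.single i 1) = 1 := by rw [stB_single_left, Pi.single_eq_same]
  have hjj : stB σ a (Pi.single j 1) (Pi.single j 1) = 1 := by rw [stB_single_left, Pi.single_eq_same]
  have eij : stB σ a (Pi.single i 1) (Pi.single j 1) = 0 := by
    rw [stB_single_left, Pi.single_eq_of_ne hij]
  have eji : stB σ a (Pi.single j 1) (Pi.single i 1) = 0 := by
    rw [stB_single_left, Pi.single_eq_of_ne (Ne.symm hij)]
  have h1ζ : 1 - ζ ≠ 0 := fun h => hζ1 (by linear_combination -h)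
  set α := (1 - ζ)⁻¹ with hα
  set u : Fin a → F := Pi.single i 1 + c • Pi.single j 1 with hu_def
  set u' : Fin a → F := α • (Pi.single i 1 + (c * ζ) • Pi.single j 1) with hu'_def
  have hu : stB σ a u u = 0 := by
    rw [hu_def]
    simp only [map_add, LinearMap.add_apply, LinearMap.map_smulₛₗ₂, map_smul, smul_eq_mul, hii, hjj, eij, eji]
    linear_combination hc
  have hu' : stB σ a u' u' = 0 := by
    rw [hu'_def]
    simp only [map_add, LinearMap.add_apply, LinearMap.map_smulₛₗ₂, map_smul, smul_eq_mul, hii, hjj, eij, eji, map_mul]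
    have h1 : σ c * σ ζ * (c * ζ) = -1 := by
      have : σ c * σ ζ * (c * ζ) = (σ c * c) * (σ ζ * ζ) := by ring
      rw [this, hc, hζ, mul_one]
    linear_combination (α * σ α) * h1
  have huu' : stB σ a u u' = 1 := by
    rw [hu_def, hu'_def]
    simp only [map_add, LinearMap.add_apply, LinearMap.map_smulₛₗ₂, map_smul, smul_eq_mul, hii, hjj, eij, eji]
    have h1 : α * (1 - ζ) = 1 := inv_mul_cancel₀ h1ζ
    linear_combination h1 + α * ζ * hc
  -- coordinates
  set w' := (1 / (c * (ζ - 1) * α)) • (x' - c • x) with hw'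
  set w := x - α • w' with hw
  have hden : c * (ζ - 1) * α ≠ 0 :=
    mul_ne_zero (mul_ne_zero hc0 (fun h => hζ1 (by linear_combination h))) (inv_ne_zero h1ζ)
  have e : tp u w + tp u' w' = tp (Pi.single i (1 : F)) x + tp (Pi.single j (1 : F)) x' := by
    rw [hu_def, hu'_def]
    have e1 : w + α • w' = x := by rw [hw]; abel
    have e2 : c • w + (α * (c * ζ)) • w' = x' := by
      rw [hw, smul_sub, smul_smul]
      have h3 : (c * (ζ - 1) * α) • w' = x' - c • x := by
        rw [hw', smul_smul, mul_one_div, div_self hden, one_smul]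
      have h4 : (α * (c * ζ)) = c * (ζ - 1) * α + c * α := by ring
      rw [h4, add_smul, h3]
      abel
    rw [← e1, ← e2]
    simp only [tp_add_left, tp_smul_left, tp_add_right, tp_smul_right, smul_smul,
      smul_add]
    rw [← add_assoc, ← add_assoc]
    congr 1
    abel
  rw [← e]
  apply gen_two hσ hσ2 hS hM hSb hB hΦ h0 hu hu' huu'
  have h5 : bF b (tp (Pi.single i (1 : F)) x + tp (Pi.single j (1 : F)) x')
      (tp (Pi.single i (1 : F)) x + tp (Pi.single j (1 : F)) x') = 0 := by
    simp only [bF_add_left, bF_add_right, bF_pure, hii, hjj, eij, eji]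
    linear_combination hxx
  have hu'u : stB σ a u' u = 1 := by rw [← (stB_symm hσ2 a).eq, huu', map_one]
  rw [← e] at h5
  simp only [bF_add_left, bF_add_right, bF_pure, hu, hu', huu', hu'u] at h5
  linear_combination h5

/-- **Lemma D.** All isotropic vectors are centres. -/
theorem gen_all (hσ : σ ≠ RingHom.id F) (hσ2 : ∀ x : F, σ (σ x) = x) (hS : B.IsSymm)
    (hM : ∀ g ∈ M, ∀ x y, B (g x) (g y) = B x y) {b : E →ₛₗ[σ] E →ₗ[F] F} (hSb : b.IsSymm) (hB : b.SeparatingLeft)
    {Φ : (Fin a → E) →ₗ[F] V} (hΦ : ∀ X Y, B (Φ X) (Φ Y) = bF b X Y)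
    (h0 : ∀ u w, stB σ a u u = 0 → HasT B M (Φ (tp u w))) (ha : 2 ≤ a) (hE : 3 ≤ finrank F E)
    (X : Fin a → E) (hX : bF b X X = 0) : HasT B M (Φ X) := by
  classical
  -- induction on the number of non-zero rows
  induction hN : (Finset.univ.filter fun i => X i ≠ 0).card using Nat.strong_induction_on generalizing X with
  | _ N ih =>
    by_cases hN2 : N ≤ 2
    · -- at most two rows
      obtain ⟨S, hS', hSc⟩ := Finset.exists_superset_card_eq (s := Finset.univ.filter fun i => X i ≠ 0) (n := 2)
        (by omega) (by simpa using ha)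
      obtain ⟨i, j, hij, rfl⟩ := Finset.card_eq_two.mp hSc
      have hz : ∀ k, k ≠ i → k ≠ j → X k = 0 := by
        intro k hki hkj
        by_contra h
        have := hS' (Finset.mem_filter.mpr ⟨Finset.mem_univ k, h⟩)
        rw [Finset.mem_insert, Finset.mem_singleton] at this
        rcases this with h | h
        · exact hki h
        · exact hkj h
      have e : X = tp (Pi.single i (1 : F)) (X i) + tp (Pi.single j (1 : F)) (X j) := by
        funext k
        show X k = (Pi.single i (1 : F) : Fin a → F) k • X i + (Pi.single j (1 : F) : Fin a → F) k • X j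
        by_cases hki : k = i
        · subst hki
          rw [Pi.single_eq_same, Pi.single_eq_of_ne hij, one_smul, zero_smul, add_zero]
        · by_cases hkj : k = j
          · subst hkj
            rw [Pi.single_eq_same, Pi.single_eq_of_ne hki, one_smul, zero_smul, zero_add]
          · rw [hz k hki hkj, Pi.single_eq_of_ne hki, Pi.single_eq_of_ne hkj, zero_smul, zero_smul, add_zero]
      rw [e]
      apply gen_rows_two hσ hσ2 hS hM hSb hB hΦ h0 hij
      unfold bF at hX
      rw [← Finset.sum_subset (Finset.subset_univ {i, j})] at hX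
      · rw [Finset.sum_pair hij] at hX
        exact hX
      · intro k _ hk
        rw [Finset.mem_insert, Finset.mem_singleton, not_or] at hk
        rw [hz k hk.1 hk.2, map_zero]
    · -- at least three rows
      obtain ⟨k, hk, j, hj, hkj⟩ := Finset.one_lt_card.mp (show 1 < (Finset.univ.filter fun i => X i ≠ 0).card by omega)
      have hk0 : X k ≠ 0 := (Finset.mem_filter.mp hk).2
      have hj0 : X j ≠ 0 := (Finset.mem_filter.mp hj).2
      set s := ∑ i ∈ (Finset.univ.erase k).erase j, b (X i) (X i) with hs
      have hσs : σ s = s := by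
        rw [hs, map_sum]
        exact Finset.sum_congr rfl fun i _ => hSb.eq _ _
      obtain ⟨l, hl0, hl⟩ := exists_skew hσ hσ2
      have hσl : σ l = -l := by linear_combination hl
      obtain ⟨x, hx1, hx2⟩ := exists_vec (B := b) hσ hσ2 hSb hB hE
        hk0 (l - s) (-s) (by rw [map_neg, hσs])
      have hx1' : b x (X k) = -l - s := by rw [← hSb.eq, hx1, map_sub, hσl, hσs]
      have hsplit : ∀ f : Fin a → F, ∑ i, f i = f k + (f j + ∑ i ∈ (Finset.univ.erase k).erase j, f i) := by
        intro f
        rw [← Finset.add_sum_erase _ f (Finset.mem_univ k),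
          ← Finset.add_sum_erase (Finset.univ.erase k) f (Finset.mem_erase.mpr ⟨Ne.symm hkj, Finset.mem_univ j⟩)]
      have hXs : b (X k) (X k) + (b (X j) (X j) + s) = 0 := by
        rw [← hX]
        unfold bF
        rw [hsplit]
      let X' : Fin a → E := fun i => if i = k then x else if i = j then 0 else X i
      let X'' : Fin a → E := fun i => if i = k then X k - x else if i = j then X j else 0
      have e : X' + X'' = X := by
        funext i
        show X' i + X'' i = X i
        by_cases hik : i = k
        · subst hik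
          simp only [X', X'', if_true, add_sub_cancel]
        · by_cases hij : i = j
          · subst hij
            simp only [X', X'', if_neg hik, if_true, zero_add]
          · simp only [X', X'', if_neg hik, if_neg hij, add_zero]
      have eX'k : X' k = x := if_pos rfl
      have eX'j : X' j = 0 := by simp only [X', if_neg (Ne.symm hkj), if_true]
      have eX''k : X'' k = X k - x := if_pos rfl
      have eX''j : X'' j = X j := by simp only [X'', if_neg (Ne.symm hkj), if_true]
      have hmem : ∀ i ∈ (Finset.univ.erase k).erase j, i ≠ j ∧ i ≠ k := by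
        intro i hi
        rw [Finset.mem_erase, Finset.mem_erase] at hi
        exact ⟨hi.1, hi.2.1⟩
      have eX'i : ∀ i ∈ (Finset.univ.erase k).erase j, X' i = X i := by
        intro i hi
        obtain ⟨h1, h2⟩ := hmem i hi
        simp only [X', if_neg h1, if_neg h2]
      have eX''i : ∀ i ∈ (Finset.univ.erase k).erase j, X'' i = 0 := by
        intro i hi
        obtain ⟨h1, h2⟩ := hmem i hi
        simp only [X'', if_neg h1, if_neg h2]
      have hX'0 : bF b X' X' = 0 := by
        unfold bF
        rw [hsplit, eX'k, eX'j, Finset.sum_congr rfl fun i hi => by rw [eX'i i hi], map_zero, hx2, ← hs]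
        ring
      have hX''0 : bF b X'' X'' = 0 := by
        unfold bF
        rw [hsplit, eX''k, eX''j, Finset.sum_congr rfl fun i hi => by rw [eX''i i hi, map_zero],
          Finset.sum_const_zero]
        simp only [map_sub, LinearMap.sub_apply, hx1, hx1', hx2]
        linear_combination hXs
      have hX'' : B (Φ X'') (Φ X') ≠ 0 := by
        rw [hΦ]
        unfold bF
        rw [hsplit, eX''k, eX''j, eX'k, eX'j, Finset.sum_congr rfl fun i hi => by
          rw [eX''i i hi, map_zero, LinearMap.zero_apply], Finset.sum_const_zero]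
        simp only [map_sub, LinearMap.sub_apply, hx1, hx2, map_zero]
        intro h
        exact hl0 (by linear_combination h)
      have c1 : (Finset.univ.filter fun i => X' i ≠ 0).card < N := by
        rw [← hN]
        apply Finset.card_lt_card
        rw [Finset.ssubset_iff_of_subset]
        · refine ⟨j, hj, fun h => (Finset.mem_filter.mp h).2 eX'j⟩
        · intro i hi
          have hi0 := (Finset.mem_filter.mp hi).2
          refine Finset.mem_filter.mpr ⟨Finset.mem_univ i, fun h => ?_⟩
          by_cases hik : i = k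
          · exact hk0 (hik ▸ h)
          · by_cases hij : i = j
            · exact hj0 (hij ▸ h)
            · apply hi0
              simp only [X', if_neg hik, if_neg hij, h]
      have c2 : (Finset.univ.filter fun i => X'' i ≠ 0).card < N := by
        have h3 : (Finset.univ.filter fun i => X'' i ≠ 0).card ≤ ({k, j} : Finset (Fin a)).card := by
          apply Finset.card_le_card
          intro i hi
          have hi0 := (Finset.mem_filter.mp hi).2
          rw [Finset.mem_insert, Finset.mem_singleton]
          by_contra h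
          rw [not_or] at h
          apply hi0
          simp only [X'', if_neg h.1, if_neg h.2]
        have h4 : ({k, j} : Finset (Fin a)).card ≤ 2 := Finset.card_le_two
        omega
      have r1 := ih _ c1 X' hX'0 (by congr)
      have r2 := ih _ c2 X'' hX''0 (by congr)
      have r3 := HasT.add hS hM r1 r2 hX'' (by rw [← map_add, e, hΦ]; exact hX)
      rw [← map_add, e] at r3
      exact r3

end Cfsg.Agent.H594.TensGen
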