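import Cfsg.Agent.H594.TensGenA

/-!
The last slot: from isotropic vectors to all vectors by means of `SU_k` (helper594; after `H880.UGen`).
-/

set_option autoImplicit false
set_option linter.unusedSectionVars false

namespace Cfsg.Agent.H594.TensGen

open Module Cfsg.Agent.ClassicalGeometry Matrix Cfsg.Agent.H880

variable {F : Type*} [Field F] {σ : F →+* F} [Finite F]

/-- A hyperbolic pair and an orthogonal unit vector. -/
theorem exists_pair_unit (hσ : σ ≠ RingHom.id F) (hσ2 : ∀ x : F, σ (σ x) = x) {k : ℕ} (hk : 3 ≤ k) :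
    ∃ g h e : Fin k → F, stB σ k g g = 0 ∧ stB σ k h h = 0 ∧ stB σ k g h = 1 ∧ stB σ k h g = 1 ∧
      stB σ k e e = 1 ∧ stB σ k g e = 0 ∧ stB σ k h e = 0 ∧ stB σ k e g = 0 ∧ stB σ k e h = 0 := by
  obtain ⟨c, ζ, hc, hζ, hζ1⟩ := exists_norm_neg_one hσ hσ2
  have hSa := stB_symm hσ2 k
  let i : Fin k := ⟨0, by omega⟩
  let j : Fin k := ⟨1, by omega⟩
  let m : Fin k := ⟨2, by omega⟩
  have hij : i ≠ j := fun h => by simpa [i, j] using congrArg Fin.val h
  have him : i ≠ m := fun h => by simpa [i, m] using congrArg Fin.val h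
  have hjm : j ≠ m := fun h => by simpa [j, m] using congrArg Fin.val h
  have hii : stB σ k (Pi.single i 1) (Pi.single i 1) = 1 := by rw [stB_single_left, Pi.single_eq_same]
  have hjj : stB σ k (Pi.single j 1) (Pi.single j 1) = 1 := by rw [stB_single_left, Pi.single_eq_same]
  have hmm : stB σ k (Pi.single m 1) (Pi.single m 1) = 1 := by rw [stB_single_left, Pi.single_eq_same]
  have eij : stB σ k (Pi.single i 1) (Pi.single j 1) = 0 := by
    rw [stB_single_left, Pi.single_eq_of_ne hij]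
  have eji : stB σ k (Pi.single j 1) (Pi.single i 1) = 0 := by
    rw [stB_single_left, Pi.single_eq_of_ne (Ne.symm hij)]
  have eim : stB σ k (Pi.single i 1) (Pi.single m 1) = 0 := by
    rw [stB_single_left, Pi.single_eq_of_ne him]
  have ejm : stB σ k (Pi.single j 1) (Pi.single m 1) = 0 := by
    rw [stB_single_left, Pi.single_eq_of_ne hjm]
  have emi : stB σ k (Pi.single m 1) (Pi.single i 1) = 0 := by
    rw [stB_single_left, Pi.single_eq_of_ne (Ne.symm him)]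
  have emj : stB σ k (Pi.single m 1) (Pi.single j 1) = 0 := by
    rw [stB_single_left, Pi.single_eq_of_ne (Ne.symm hjm)]
  have h1ζ : 1 - ζ ≠ 0 := fun h => hζ1 (by linear_combination -h)
  set α := (1 - ζ)⁻¹ with hα
  set u : Fin k → F := Pi.single i 1 + c • Pi.single j 1 with hu_def
  set u' : Fin k → F := α • (Pi.single i 1 + (c * ζ) • Pi.single j 1) with hu'_def
  have hu : stB σ k u u = 0 := by
    rw [hu_def]
    simp only [map_add, LinearMap.add_apply, LinearMap.map_smulₛₗ₂, map_smul, smul_eq_mul, hii, hjj, eij, eji]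
    linear_combination hc
  have hu' : stB σ k u' u' = 0 := by
    rw [hu'_def]
    simp only [map_add, LinearMap.add_apply, LinearMap.map_smulₛₗ₂, map_smul, smul_eq_mul, hii, hjj, eij, eji, map_mul]
    have h1 : σ c * σ ζ * (c * ζ) = -1 := by
      have : σ c * σ ζ * (c * ζ) = (σ c * c) * (σ ζ * ζ) := by ring
      rw [this, hc, hζ, mul_one]
    linear_combination (α * σ α) * h1
  have huu' : stB σ k u u' = 1 := by
    rw [hu_def, hu'_def]
    simp only [map_add, LinearMap.add_apply, LinearMap.map_smulₛₗ₂, map_smul, smul_eq_mul, hii, hjj, eij, eji]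
    have h1 : α * (1 - ζ) = 1 := inv_mul_cancel₀ h1ζ
    linear_combination h1 + α * ζ * hc
  refine ⟨u, u', Pi.single m 1, hu, hu', huu', by rw [← hSa.eq, huu', map_one], hmm, ?_, ?_, ?_, ?_⟩
  · rw [hu_def, map_add, LinearMap.add_apply, LinearMap.map_smulₛₗ₂, eim, ejm, smul_zero, add_zero]
  · rw [hu'_def, LinearMap.map_smulₛₗ₂, map_add, LinearMap.add_apply, LinearMap.map_smulₛₗ₂, eim, ejm, smul_zero, add_zero,
      smul_zero]
  · rw [hu_def, map_add, map_smul, emi, emj, smul_zero, add_zero]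
  · rw [hu'_def, map_smul, map_add, map_smul, emi, emj, smul_zero, add_zero, smul_zero]

variable {V : Type*} [AddCommGroup V] [Module F V]
  {B : V →ₛₗ[σ] V →ₗ[F] F} {M : Subgroup (V ≃ₗ[F] V)} {k : ℕ}

/-- The case `q ≥ 3`. -/
theorem slot_small (hσ : σ ≠ RingHom.id F) (hσ2 : ∀ x : F, σ (σ x) = x) (hS : B.IsSymm)
    (hM : ∀ g ∈ M, ∀ x y, B (g x) (g y) = B x y) (hk : 3 ≤ k) (hq : ∃ c : F, c ≠ 0 ∧ σ c * c ≠ 1)
    {P P' : (Fin k → F) →ₗ[F] V} (pp : ∀ x y, B (P x) (P y) = 0) (qq : ∀ x y, B (P' x) (P' y) = 0)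
    (pq : ∀ x y, B (P x) (P' y) = stB σ k x y)
    (h0 : ∀ v, stB σ k v v = 0 → HasT B M (P v) ∧ HasT B M (P' v))
    {w : Fin k → F} (hw : stB σ k w w ≠ 0) :
    ∃ v, v ≠ 0 ∧ stB σ k v v = stB σ k w w ∧ HasT B M (P v) := by
  have hSk := stB_symm hσ2 k
  obtain ⟨g, h, e, gg, hh, gh, hg, ee, ge, he, eg, eh⟩ := exists_pair_unit hσ hσ2 hk
  obtain ⟨c, hc0, hc1⟩ := hq
  obtain ⟨l, hl0, hl⟩ := exists_skew hσ hσ2
  have hσl : σ l = -l := by linear_combination hl
  set N := stB σ k w w with hN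
  have hNσ : σ N = N := hSk.eq _ _
  set ρ := σ c * c with hρ
  have hρ0 : ρ ≠ 0 := mul_ne_zero (by simpa using hc0) hc0
  have hρσ : σ ρ = ρ := by rw [hρ, map_mul, hσ2, mul_comm]
  have hρl : ρ * l ≠ 0 := mul_ne_zero hρ0 hl0
  obtain ⟨t, ht⟩ := HermWitt.trace_surj σ hσ hσ2 N hNσ
  obtain ⟨y, hy0, hy⟩ := HermWitt.norm_surj σ hσ hσ2 (ρ⁻¹ * N) (by rw [map_mul, map_inv₀, hρσ, hNσ])
    (mul_ne_zero (inv_ne_zero hρ0) hw)
  set x := t / (ρ * l) with hx
  have hxt : x * (ρ * l) = t := div_mul_cancel₀ _ hρl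
  have hσxt : σ x * (ρ * l) = -σ t := by
    have := congrArg σ hxt
    rw [map_mul, map_mul, hρσ, hσl] at this
    linear_combination -this
  -- the three vectors
  set Y₁ : Fin k → F := l • g + x • h + y • e with hY₁
  set Y₃ : Fin k → F := (ρ * l) • g with hY₃
  have n1 : stB σ k Y₁ Y₁ = 0 := by
    rw [hY₁]
    simp only [map_add, LinearMap.add_apply, LinearMap.map_smulₛₗ₂, map_smul, smul_eq_mul, gg, hh, gh, hg, ee, ge, he,
      eg, eh, hσl]
    have e1 : ρ * (-l * x + σ x * l + y * σ y) = 0 := by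
      rw [hy]
      have e2 : ρ * (ρ⁻¹ * N) = N := by rw [← mul_assoc, mul_inv_cancel₀ hρ0, one_mul]
      linear_combination -hxt + hσxt + e2 - ht
    have e3 := (mul_eq_zero.1 e1).resolve_left hρ0
    linear_combination e3
  have n3 : stB σ k Y₃ Y₃ = 0 := by
    rw [hY₃, LinearMap.map_smulₛₗ₂, map_smul, gg, smul_zero, smul_zero]
  have a1 : stB σ k h Y₁ = l := by
    rw [hY₁]
    simp only [map_add, map_smul, smul_eq_mul, hh, hg, he]
    ring
  have a3 : stB σ k h Y₃ = ρ * l := by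
    rw [hY₃, map_smul, hg, smul_eq_mul, mul_one]
  have b1 : stB σ k Y₁ h = -l := by rw [← hSk.eq, a1, hσl]
  have b3 : stB σ k Y₃ h = -(ρ * l) := by rw [← hSk.eq, a3, map_mul, hρσ, hσl, mul_neg]
  have qp : ∀ x y, B (P' x) (P y) = stB σ k x y := fun x y => by rw [← hS.eq, pq, hSk.eq]
  have hsum : ∀ Y, stB σ k Y Y = 0 → stB σ k h Y ≠ 0 → stB σ k Y h + stB σ k h Y = 0 → HasT B M (P Y + P' h) := by
    intro Y hY hne hY2
    refine HasT.add hS hM (h0 Y hY).1 (h0 h hh).2 (by rw [qp]; exact hne) ?_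
    simp only [map_add, LinearMap.add_apply, pp, qq, pq, qp]
    linear_combination hY2
  have t1 := hsum Y₁ n1 (by rw [a1]; exact hl0) (by rw [a1, b1]; ring)
  have t3 := hsum Y₃ n3 (by rw [a3]; exact hρl) (by rw [a3, b3]; ring)
  have e0 : P Y₁ + P' h + (-1 : F) • (P Y₃ + P' h) = P (Y₁ - Y₃) := by
    rw [map_sub]; module
  have hB : B (P Y₃ + P' h) (P Y₁ + P' h) = l - ρ * l := by
    simp only [map_add, LinearMap.add_apply, pp, qq, pq, qp, a1, b3]
    ring
  have t4 := HasT.add hS hM t1 (t3.smul hσ2 (-1)) (by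
    rw [LinearMap.map_smulₛₗ₂, hB, map_neg, map_one, smul_eq_mul]
    intro h5
    apply hc1
    have h6 : (ρ - 1) * l = 0 := by linear_combination h5
    exact sub_eq_zero.1 ((mul_eq_zero.1 h6).resolve_right hl0)) (by rw [e0]; exact pp _ _)
  rw [e0] at t4
  have hnorm : stB σ k (Y₁ - Y₃) (Y₁ - Y₃) = N := by
    have e5 : stB σ k Y₁ Y₃ = -(ρ * l) * -(σ x) := by
      rw [hY₁, hY₃]
      simp only [map_add, LinearMap.add_apply, LinearMap.map_smulₛₗ₂, map_smul, smul_eq_mul, gg, hg, eg]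
      ring
    have e6 : stB σ k Y₃ Y₁ = -(ρ * l) * x := by
      rw [hY₁, hY₃]
      simp only [map_add, LinearMap.map_smulₛₗ₂, map_smul, smul_eq_mul, gg, gh, ge, map_mul, hρσ, hσl]
      ring
    simp only [map_sub, LinearMap.sub_apply, n1, n3, e5, e6]
    linear_combination hxt - hσxt + ht
  refine ⟨Y₁ - Y₃, ?_, hnorm, t4⟩
  intro h7
  rw [h7, map_zero] at hnorm
  exact hw hnorm.symm

/-- The case `k ≥ 4`. -/
theorem slot_big (hσ : σ ≠ RingHom.id F) (hσ2 : ∀ x : F, σ (σ x) = x) (hS : B.IsSymm)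
    (hM : ∀ g ∈ M, ∀ x y, B (g x) (g y) = B x y) (hk : 4 ≤ k)
    {P P' : (Fin k → F) →ₗ[F] V} (pp : ∀ x y, B (P x) (P y) = 0) (qq : ∀ x y, B (P' x) (P' y) = 0)
    (pq : ∀ x y, B (P x) (P' y) = stB σ k x y)
    (h0 : ∀ v, stB σ k v v = 0 → HasT B M (P v) ∧ HasT B M (P' v))
    {w : Fin k → F} (hw : stB σ k w w ≠ 0) :
    ∃ v, v ≠ 0 ∧ stB σ k v v = stB σ k w w ∧ HasT B M (P v) := by
  have hSb := stB_symm hσ2 k
  obtain ⟨g₁, h₁, g₂, h₂, eg1, eh1, eg2, eh2, eg1h1, eg2h2, eg1g2, eg1h2, eh1g2, eh1h2⟩ :=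
    exists_two_pairs (σ := σ) (n := k) hσ hσ2 hk
  have eh1g1 : stB σ k h₁ g₁ = 1 := by rw [← hSb.eq, eg1h1, map_one]
  have eh2g2 : stB σ k h₂ g₂ = 1 := by rw [← hSb.eq, eg2h2, map_one]
  have eg2g1 := symm_zero hSb eg1g2
  have eh2g1 := symm_zero hSb eg1h2
  have eg2h1 := symm_zero hSb eh1g2
  have eh2h1 := symm_zero hSb eh1h2
  obtain ⟨l, hl0, hl⟩ := exists_skew hσ hσ2
  obtain ⟨p, hp, hpl⟩ : ∃ p : F, σ p ≠ p ∧ l + p ≠ 0 := by
    obtain ⟨p, hp⟩ := exists_fix_ne hσ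
    by_cases hpl : l + p = 0
    · refine ⟨p + 1, ?_, ?_⟩
      · rw [map_add, map_one]; intro h; exact hp (add_right_cancel h)
      · rw [← add_assoc, hpl, zero_add]; exact one_ne_zero
    · exact ⟨p, hp, hpl⟩
  have hσl : σ l = -l := by linear_combination hl
  obtain ⟨n, hn⟩ := HermWitt.trace_surj σ hσ hσ2 (-(stB σ k w w)) (by rw [map_neg, hSb.eq])
  have qp : ∀ x y, B (P' x) (P y) = stB σ k x y := fun x y => by rw [← hS.eq, pq, hSb.eq]
  -- form values
  have hval : ∀ x x' y y' : Fin k → F, B (P x + P' x') (P y + P' y')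
      = stB σ k x y' + stB σ k x' y := by
    intro x x' y y'
    rw [map_add B, LinearMap.add_apply, map_add (B (P x)), map_add (B (P' x')), pp, qq, pq, qp]
    ring
  -- sums
  have hsum : ∀ x x', stB σ k x x = 0 → stB σ k x' x' = 0 → stB σ k x x' ≠ 0 → stB σ k x x' + stB σ k x' x = 0 →
      HasT B M (P x + P' x') := by
    intro x x' hx hx' hne hxx'
    refine HasT.add hS hM (h0 x hx).1 (h0 x' hx').2 ?_ ?_
    · rw [qp]
      intro h
      exact hne (symm_zero hSb h)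
    · rw [hval]; exact hxx'
  set ζ := σ p / l with hζ
  set β := p ^ 2 / l - l with hβ
  have hσζ : σ ζ = -(p / l) := by rw [hζ, map_div₀, hσ2, hσl, div_neg]
  -- first vector
  have hv : HasT B M (P g₁ + P' (l • h₁)) := by
    apply hsum _ _ eg1
    · simp only [LinearMap.map_smulₛₗ₂, map_smul, eh1, smul_zero]
    · rw [map_smul, eg1h1, smul_eq_mul, mul_one]; exact hl0
    · rw [map_smul, LinearMap.map_smulₛₗ₂, eg1h1, eh1g1, smul_eq_mul, smul_eq_mul, mul_one, mul_one]; exact hl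
  -- second vector
  have hx : HasT B M (P (ζ • g₁ + g₂) + P' (p • h₁ + β • h₂)) := by
    have hB : stB σ k (ζ • g₁ + g₂) (p • h₁ + β • h₂) = -l := by
      simp only [map_add, LinearMap.add_apply, LinearMap.map_smulₛₗ₂, map_smul, smul_eq_mul, eg1h1, eg1h2, eg2h1,
        eg2h2, hσζ, hβ]
      field_simp
      ring
    apply hsum
    · simp only [map_add, LinearMap.add_apply, LinearMap.map_smulₛₗ₂, map_smul, smul_eq_mul, eg1, eg1g2, eg2g1,
        eg2]
      ring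
    · simp only [map_add, LinearMap.add_apply, LinearMap.map_smulₛₗ₂, map_smul, smul_eq_mul, eh1, eh1h2, eh2h1,
        eh2]
      ring
    · rw [hB]; exact neg_ne_zero.mpr hl0
    · rw [← hSb.eq (ζ • g₁ + g₂), hB, map_neg, hσl]; ring
  -- the sum
  have hvx : HasT B M (P ((1 + ζ) • g₁ + g₂) + P' ((l + p) • h₁ + β • h₂)) := by
    have hB : B (P g₁ + P' (l • h₁)) (P (ζ • g₁ + g₂) + P' (p • h₁ + β • h₂)) = p - σ p := by
      rw [hval]
      simp only [map_add, LinearMap.map_smulₛₗ₂, map_smul, smul_eq_mul, eg1h1, eg1h2, eh1g1, eh1g2, hσl, hζ]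
      field_simp
      ring
    have h1 := HasT.add hS hM hv hx (by
        rw [← hS.eq, hB, map_sub, hσ2]
        exact sub_ne_zero.mpr hp) (by
        rw [map_add B, LinearMap.add_apply, map_add (B (P g₁ + P' (l • h₁))),
          map_add (B (P (ζ • g₁ + g₂) + P' (p • h₁ + β • h₂))), hv.1, hx.1, hB,
          ← hS.eq (P g₁ + P' (l • h₁)), hB, map_sub, hσ2]
        ring)
    have e : P g₁ + P' (l • h₁) + (P (ζ • g₁ + g₂) + P' (p • h₁ + β • h₂))
        = P ((1 + ζ) • g₁ + g₂) + P' ((l + p) • h₁ + β • h₂) := by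
      simp only [map_add, map_smul]
      module
    rw [e] at h1
    exact h1
  -- the third vector
  set s := σ ((l + l * σ n * β) / (l + p)) with hs
  have hσs : σ s = (l + l * σ n * β) / (l + p) := by rw [hs, hσ2]
  have hy1 : stB σ k (s • g₁ + (l * n) • g₂ + n • h₂) (s • g₁ + (l * n) • g₂ + n • h₂) = 0 := by
    simp only [map_add, LinearMap.add_apply, LinearMap.map_smulₛₗ₂, map_smul, smul_eq_mul, eg1, eg1g2, eg1h2, eg2g1,
      eg2, eg2h2, eh2g1, eh2g2, eh2, map_mul, hσl]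
    ring
  have hy' : stB σ k ((l + p) • h₁ + β • h₂) ((l + p) • h₁ + β • h₂) = 0 := by
    simp only [map_add, LinearMap.add_apply, LinearMap.map_smulₛₗ₂, map_smul, smul_eq_mul, eh1, eh1h2, eh2h1, eh2]
    ring
  have hyy' : stB σ k (s • g₁ + (l * n) • g₂ + n • h₂) ((l + p) • h₁ + β • h₂) = l := by
    simp only [map_add, LinearMap.add_apply, LinearMap.map_smulₛₗ₂, map_smul, smul_eq_mul, eg1h1, eg1h2, eg2h1, eg2h2,
      eh2h1, eh2, map_mul, hσl, hσs]
    field_simp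
    ring
  have hv1 : HasT B M (P (s • g₁ + (l * n) • g₂ + n • h₂) + P' ((l + p) • h₁ + β • h₂)) := by
    apply hsum _ _ hy1 hy'
    · rw [hyy']; exact hl0
    · rw [← hSb.eq (s • g₁ + (l * n) • g₂ + n • h₂), hyy']; exact hl
  have hyy0 : stB σ k ((1 + ζ) • g₁ + g₂) ((l + p) • h₁ + β • h₂) = 0 := by
    simp only [map_add, LinearMap.add_apply, LinearMap.map_smulₛₗ₂, map_smul, smul_eq_mul, eg1h1, eg1h2, eg2h1,
      eg2h2, hσζ, hβ, map_one]
    field_simp
    ring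
  -- the difference
  have e : P (s • g₁ + (l * n) • g₂ + n • h₂) + P' ((l + p) • h₁ + β • h₂) +
      (-1 : F) • (P ((1 + ζ) • g₁ + g₂) + P' ((l + p) • h₁ + β • h₂)) =
      P ((s • g₁ + (l * n) • g₂ + n • h₂) - ((1 + ζ) • g₁ + g₂)) := by
    rw [map_sub]
    module
  have hd := HasT.add hS hM hv1 (hvx.smul hσ2 (-1)) (by
      rw [LinearMap.map_smulₛₗ₂, hval, hyy0, zero_add, ← hSb.eq (s • g₁ + (l * n) • g₂ + n • h₂), hyy', map_neg,
        map_one, smul_eq_mul, hσl]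
      intro h
      exact hl0 (by linear_combination h)) (by
      rw [e]; exact pp _ _)
  rw [e] at hd
  set wn := (s • g₁ + (l * n) • g₂ + n • h₂) - ((1 + ζ) • g₁ + g₂) with hwn
  have hnorm : stB σ k wn wn = stB σ k w w := by
    rw [hwn]
    simp only [map_add, map_sub, LinearMap.add_apply, LinearMap.sub_apply, LinearMap.map_smulₛₗ₂, map_smul,
      smul_eq_mul, eg1, eg1g2, eg1h2, eg2g1, eg2, eg2h2, eh2g1, eh2g2, eh2, map_mul, hσl]
    linear_combination -hn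
  refine ⟨wn, ?_, hnorm, hd⟩
  intro h
  rw [h, map_zero] at hnorm
  exact hw hnorm.symm

/-- **Lemma A.** All vectors of the last slot. -/
theorem slot_all (hσ : σ ≠ RingHom.id F) (hσ2 : ∀ x : F, σ (σ x) = x) (hS : B.IsSymm)
    (hM : ∀ g ∈ M, ∀ x y, B (g x) (g y) = B x y) (hk : 3 ≤ k) (hq : 4 ≤ k ∨ ∃ c : F, c ≠ 0 ∧ σ c * c ≠ 1)
    {P P' : (Fin k → F) →ₗ[F] V} (pp : ∀ x y, B (P x) (P y) = 0) (qq : ∀ x y, B (P' x) (P' y) = 0)
    (pq : ∀ x y, B (P x) (P' y) = stB σ k x y)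
    (h0 : ∀ v, stB σ k v v = 0 → HasT B M (P v) ∧ HasT B M (P' v))
    (hg : ∀ z : (Fin k → F) ≃ₗ[F] (Fin k → F), (∀ x y, stB σ k (z x) (z y) = stB σ k x y) →
      LinearMap.det (z : (Fin k → F) →ₗ[F] (Fin k → F)) = 1 → ∃ g ∈ M, ∀ x, g (P x) = P (z x))
    (w : Fin k → F) : HasT B M (P w) := by
  by_cases hw : stB σ k w w = 0
  · exact (h0 w hw).1
  obtain ⟨v, hv0, hvw, hv⟩ : ∃ v, v ≠ 0 ∧ stB σ k v v = stB σ k w w ∧ HasT B M (P v) := by
    rcases hq with hq | hq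
    · exact slot_big hσ hσ2 hS hM hq pp qq pq h0 hw
    · exact slot_small hσ hσ2 hS hM hk hq pp qq pq h0 hw
  have hw0 : w ≠ 0 := by
    rintro rfl
    exact hw (by simp)
  obtain ⟨z, hz, hzd, hzw⟩ := exists_su hσ hσ2 hk hv0 hw0 hvw
  obtain ⟨g, hgM, hgP⟩ := hg z hz hzd
  have h2 := hv.map hgM (hM g hgM)
  rwa [hgP, hzw] at h2

end Cfsg.Agent.H594.TensGen
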