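import Cfsg.Agent.H594.TensGenD
import Cfsg.Agent.H594.TensGenL
import Cfsg.Agent.H881.SlotD

/-!
**Generation**: an isometry group of `(F^k)^{⊗ t}`, `t ≥ 2`, containing `SU_k` in each slot and the transvections
centred at pure tensors of isotropic vectors contains all unitary transvections (helper594).
-/

set_option autoImplicit false
set_option linter.unusedSectionVars false

namespace Cfsg.Agent.H594.TensGen

open Module Cfsg.Agent.ClassicalGeometry Matrix Cfsg.Agent.H880 Cfsg.Agent.H881 Cfsg.Agent.H919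

section Forms

variable {F : Type*} [Field F] (σ : F →+* F)

/-- The standard hermitian form. -/
def stF (ι : Type*) [Fintype ι] : (ι → F) →ₛₗ[σ] (ι → F) →ₗ[F] F :=
  LinearMap.mk₂'ₛₗ σ (RingHom.id F) (fun x y => ∑ i, σ (x i) * y i)
    (fun x x' y => by simp [add_mul, Finset.sum_add_distrib])
    (fun c x y => by simp [Finset.mul_sum, mul_assoc])
    (fun x y y' => by simp [mul_add, Finset.sum_add_distrib])
    (fun c x y => by
      simp only [Pi.smul_apply, smul_eq_mul, RingHom.id_apply, Finset.mul_sum]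
      exact Finset.sum_congr rfl fun i _ => by ring)

variable {σ}

theorem stF_apply {ι : Type*} [Fintype ι] (x y : ι → F) : stF σ ι x y = ∑ i, σ (x i) * y i := rfl

theorem stF_symm (hσ2 : ∀ x : F, σ (σ x) = x) (ι : Type*) [Fintype ι] : (stF σ ι).IsSymm := by
  refine ⟨fun x y => ?_⟩
  rw [stF_apply, stF_apply, map_sum]
  refine Finset.sum_congr rfl fun i _ => ?_
  rw [map_mul, hσ2, mul_comm]

theorem stF_sepLeft (ι : Type*) [Fintype ι] : (stF σ ι).SeparatingLeft := by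
  classical
  intro x hx
  funext i
  have h := hx (Pi.single i 1)
  rw [stF_apply, Finset.sum_eq_single i] at h
  · rw [Pi.single_eq_same, mul_one] at h
    exact (map_eq_zero σ).mp h
  · intro j _ hj; rw [Pi.single_eq_of_ne hj, mul_zero]
  · intro h; exact absurd (Finset.mem_univ i) h

theorem stF_fin (n : ℕ) : stF σ (Fin n) = stB σ n := rfl

/-- Product formula. -/
theorem stF_pvec {k t : ℕ} (u v : Fin t → Fin k → F) :
    stF σ (Fin t → Fin k) (pvec u) (pvec v) = ∏ i, stB σ k (u i) (v i) := by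
  rw [stF_apply]
  simp only [stB_apply]
  rw [Finset.prod_univ_sum, Fintype.piFinset_univ]
  refine Finset.sum_congr rfl fun f _ => ?_
  unfold pvec
  rw [map_prod, Finset.prod_mul_distrib]

end Forms

section Cons

variable {F : Type*} [Field F] {σ : F →+* F} {k n : ℕ}

/-- Splitting off the slot `0`. -/
def cE (F : Type*) [Field F] (k n : ℕ) : ((Fin (n + 1) → Fin k) → F) ≃ₗ[F] (Fin k → ((Fin n → Fin k) → F)) where
  toFun Z := fun j f => Z (Fin.cons j f)
  map_add' _ _ := rfl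
  map_smul' _ _ := rfl
  invFun X := fun f => X (f 0) (Fin.tail f)
  left_inv Z := by
    funext f
    show Z (Fin.cons (f 0) (Fin.tail f)) = Z f
    rw [Fin.cons_self_tail]
  right_inv X := by
    funext j f
    rfl

theorem stF_cE (Z W : (Fin (n + 1) → Fin k) → F) :
    stF σ _ Z W = bF (stF σ (Fin n → Fin k)) (cE F k n Z) (cE F k n W) := by
  unfold bF
  simp only [stF_apply]
  rw [← (Fin.consEquiv (fun _ : Fin (n + 1) => Fin k)).sum_comp, Fintype.sum_prod_type]
  rfl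

theorem bF_cE_symm (X Y : Fin k → ((Fin n → Fin k) → F)) :
    stF σ _ ((cE F k n).symm X) ((cE F k n).symm Y) = bF (stF σ (Fin n → Fin k)) X Y := by
  rw [stF_cE, LinearEquiv.apply_symm_apply, LinearEquiv.apply_symm_apply]

theorem pvec_cons (v : Fin k → F) (u : Fin n → Fin k → F) :
    pvec (Fin.cons v u : Fin (n + 1) → Fin k → F) = (cE F k n).symm (tp v (pvec u)) := by
  funext f
  show ∏ i, (Fin.cons v u : Fin (n + 1) → Fin k → F) i (f i) = v (f 0) * ∏ i, u i (f i.succ)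
  rw [Fin.prod_univ_succ, Fin.cons_zero]
  rfl

/-- `y ↦ v ⊗ y`. -/
def tpL {E : Type*} [AddCommGroup E] [Module F E] (v : Fin k → F) : E →ₗ[F] (Fin k → E) where
  toFun y := tp v y
  map_add' := tp_add_right v
  map_smul' c y := tp_smul_right c v y

theorem tpL_apply {E : Type*} [AddCommGroup E] [Module F E] (v : Fin k → F) (y : E) : tpL v y = tp v y := rfl

theorem tp_cE_form (v v' : Fin k → F) (y y' : (Fin n → Fin k) → F) :
    stF σ _ ((cE F k n).symm (tp v y)) ((cE F k n).symm (tp v' y')) = stB σ k v v' * stF σ (Fin n → Fin k) y y' := by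
  rw [bF_cE_symm, bF_tp_left, cn_tp, map_smul, smul_eq_mul]

end Cons

section Rec

variable {F : Type*} [Field F] {σ : F →+* F} [Finite F] {V : Type*} [AddCommGroup V] [Module F V]
  {B : V →ₛₗ[σ] V →ₗ[F] F} {M : Subgroup (V ≃ₗ[F] V)} {k : ℕ}

/-- **Lemma C.** -/
theorem rec_all (hσ : σ ≠ RingHom.id F) (hσ2 : ∀ x : F, σ (σ x) = x) (hS : B.IsSymm)
    (hM : ∀ g ∈ M, ∀ x y, B (g x) (g y) = B x y) (hk : 3 ≤ k) (r : ℕ) :
    ∀ P P' : ((Fin (r + 1) → Fin k) → F) →ₗ[F] V, (∀ X Y, B (P X) (P Y) = 0) → (∀ X Y, B (P' X) (P' Y) = 0) →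
      (∀ X Y, B (P X) (P' Y) = stF σ _ X Y) →
      (∀ u : Fin (r + 1) → Fin k → F, (∀ i, i ≠ Fin.last r → stB σ k (u i) (u i) = 0) →
        HasT B M (P (pvec u)) ∧ HasT B M (P' (pvec u))) →
      ∀ X, HasT B M (P X) ∧ HasT B M (P' X) := by
  induction r with
  | zero =>
    intro P P' _ _ _ h X
    have : Subsingleton (Fin (0 + 1)) := inferInstanceAs (Subsingleton (Fin 1))
    have e : X = pvec (fun (_ : Fin 1) (j : Fin k) => X (fun _ => j)) := by
      funext f
      show X f = ∏ i : Fin 1, X (fun _ => f i)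
      rw [Fin.prod_univ_one]
      congr 1
      funext i
      rw [Subsingleton.elim i 0]
    rw [e]
    exact h _ fun i hi => absurd (Subsingleton.elim i _) hi
  | succ r ih =>
    intro P P' pp qq pq h X
    set b := stF σ (Fin (r + 1) → Fin k) with hb
    have hSb : b.IsSymm := stF_symm hσ2 _
    have hB : b.SeparatingLeft := stF_sepLeft _
    let Q : (Fin k → ((Fin (r + 1) → Fin k) → F)) →ₗ[F] V := P ∘ₗ ((cE F k (r + 1)).symm : _ →ₗ[F] _)
    let Q' : (Fin k → ((Fin (r + 1) → Fin k) → F)) →ₗ[F] V := P' ∘ₗ ((cE F k (r + 1)).symm : _ →ₗ[F] _)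
    have hQ : ∀ X, Q X = P ((cE F k (r + 1)).symm X) := fun X => rfl
    have hQ' : ∀ X, Q' X = P' ((cE F k (r + 1)).symm X) := fun X => rfl
    have hDu : Du B b Q Q' := ⟨fun X Y => pp _ _, fun X Y => qq _ _, fun X Y => by
      rw [hQ, hQ', pq, bF_cE_symm]⟩
    -- one hyperbolic pair
    have hpair : ∀ v v' : Fin k → F, stB σ k v v = 0 → stB σ k v' v' = 0 → stB σ k v v' = 1 →
        ∀ y, HasT B M (Q (tp v y)) ∧ HasT B M (Q' (tp v' y)) := by
      intro v v' hv hv' hvv'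
      refine ih (Q ∘ₗ tpL v) (Q' ∘ₗ tpL v') (fun X Y => pp _ _) (fun X Y => qq _ _) (fun X Y => ?_) (fun u hu => ?_)
      · show B (P ((cE F k (r + 1)).symm (tp v X))) (P' ((cE F k (r + 1)).symm (tp v' Y))) = _
        rw [pq, tp_cE_form, hvv', one_mul]
      · show HasT B M (P ((cE F k (r + 1)).symm (tp v (pvec u)))) ∧ HasT B M (P' ((cE F k (r + 1)).symm (tp v' (pvec u))))
        rw [← pvec_cons, ← pvec_cons]
        have hw : ∀ w : Fin k → F, stB σ k w w = 0 → ∀ i, i ≠ Fin.last (r + 1) →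
            stB σ k ((Fin.cons w u : Fin (r + 2) → Fin k → F) i) ((Fin.cons w u : Fin (r + 2) → Fin k → F) i) = 0 := by
          intro w hw i hi
          refine Fin.cases ?_ (fun j => ?_) i (motive := fun i => i ≠ Fin.last (r + 1) →
            stB σ k ((Fin.cons w u : Fin (r + 2) → Fin k → F) i) ((Fin.cons w u : Fin (r + 2) → Fin k → F) i) = 0) hi
          · intro _
            rw [Fin.cons_zero]; exact hw
          · intro hj
            rw [Fin.cons_succ]
            exact hu j fun h => hj (by rw [h, Fin.succ_last])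
        exact ⟨(h _ (hw v hv)).1, (h _ (hw v' hv')).2⟩
    have hiso : ∀ (y : (Fin (r + 1) → Fin k) → F) (v : Fin k → F), stB σ k v v = 0 →
        HasT B M (Q (tp v y)) ∧ HasT B M (Q' (tp v y)) := by
      intro y v hv
      by_cases hv0 : v = 0
      · subst hv0
        rw [tp_zero_left, map_zero, map_zero]
        exact ⟨hasT_zero, hasT_zero⟩
      · obtain ⟨v', hvv', hv'⟩ := exists_partner_std hσ hσ2 hv0 hv
        have hv'v : stB σ k v' v = 1 := by rw [← (stB_symm hσ2 k).eq, hvv', map_one]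
        exact ⟨(hpair v v' hv hv' hvv' y).1, (hpair v' v hv' hv hv'v y).2⟩
    have hdim : 1 < finrank F ((Fin (r + 1) → Fin k) → F) := by
      rw [Module.finrank_fintype_fun_eq_card, Fintype.card_fun, Fintype.card_fin, Fintype.card_fin]
      exact Nat.one_lt_pow (by omega) (by omega)
    have hall := all_of_iso hσ hσ2 hS hM hSb hB
      (fun y hy => exists_linearIndependent_pair_of_one_lt_finrank hdim hy) hk hDu hiso (cE F k (r + 1) X)
    rw [hQ, hQ', LinearEquiv.symm_apply_apply] at hall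
    exact hall

end Rec

section Final

variable {F : Type*} [Field F] {σ : F →+* F} {k : ℕ}

/-- `x ↦ pvec (update u i x)`. -/
def pvL {s : ℕ} (u : Fin (s + 1) → Fin k → F) (i : Fin (s + 1)) : (Fin k → F) →ₗ[F] ((Fin (s + 1) → Fin k) → F) where
  toFun x := pvec (Function.update u i x)
  map_add' x y := by
    funext f
    show ∏ j, Function.update u i (x + y) j (f j) =
      ∏ j, Function.update u i x j (f j) + ∏ j, Function.update u i y j (f j)
    rw [Fin.prod_univ_succAbove _ i, Fin.prod_univ_succAbove _ i, Fin.prod_univ_succAbove _ i]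
    simp only [Function.update_self, Function.update_of_ne (Fin.succAbove_ne i _), Pi.add_apply, add_mul]
  map_smul' c x := by
    funext f
    show ∏ j, Function.update u i (c • x) j (f j) = c * ∏ j, Function.update u i x j (f j)
    rw [Fin.prod_univ_succAbove _ i, Fin.prod_univ_succAbove _ i]
    simp only [Function.update_self, Function.update_of_ne (Fin.succAbove_ne i _), Pi.smul_apply, smul_eq_mul, mul_assoc]

theorem pvL_apply {s : ℕ} (u : Fin (s + 1) → Fin k → F) (i : Fin (s + 1)) (x : Fin k → F) :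
    pvL u i x = pvec (Function.update u i x) := rfl

theorem pvL_form {s : ℕ} (u v : Fin (s + 1) → Fin k → F) (i : Fin (s + 1)) (x y : Fin k → F) :
    stF σ _ (pvL u i x) (pvL v i y) = stB σ k x y * ∏ j, stB σ k (u (i.succAbove j)) (v (i.succAbove j)) := by
  rw [pvL_apply, pvL_apply, stF_pvec, Fin.prod_univ_succAbove _ i]
  simp only [Function.update_self, Function.update_of_ne (Fin.succAbove_ne i _)]

theorem slotMat_pvec {t : ℕ} (i : Fin t) (A : Matrix (Fin k) (Fin k) F) (u : Fin t → Fin k → F) :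
    slotMat i A *ᵥ pvec u = pvec (Function.update u i (A *ᵥ u i)) := by
  have h1 : ∀ x : Fin t → Matrix (Fin k) (Fin k) F, pureMat x *ᵥ pvec u = pvec (fun j => x j *ᵥ u j) := by
    intro x
    funext f
    show ∑ g : Fin t → Fin k, (∏ j, x j (f j) (g j)) * ∏ j, u j (g j) = ∏ j, ∑ c, x j (f j) c * u j c
    rw [Finset.prod_univ_sum, Fintype.piFinset_univ]
    refine Finset.sum_congr rfl fun g _ => ?_
    rw [Finset.prod_mul_distrib]
  rw [slotMat, h1]
  congr 1
  funext j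
  by_cases hj : j = i
  · subst hj
    rw [Function.update_self, Function.update_self]
  · rw [Function.update_of_ne hj, Function.update_of_ne hj, Matrix.one_mulVec]

/-- `M` as a group of linear equivalences. -/
def mL {t : ℕ} (M : Subgroup (Matrix.GeneralLinearGroup (Fin t → Fin k) F)) :
    Subgroup (((Fin t → Fin k) → F) ≃ₗ[F] ((Fin t → Fin k) → F)) :=
  M.comap (ofMat (LinearEquiv.refl F _))

theorem ofMat_refl_mulVec {t : ℕ} (g : ((Fin t → Fin k) → F) ≃ₗ[F] ((Fin t → Fin k) → F)) (x : (Fin t → Fin k) → F) :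
    ((ofMat (LinearEquiv.refl F _) g : Matrix.GeneralLinearGroup (Fin t → Fin k) F) :
      Matrix (Fin t → Fin k) (Fin t → Fin k) F) *ᵥ x = g x :=
  ofMat_mulVec (LinearEquiv.refl F _) g x

theorem mL_iso {t : ℕ} {M : Subgroup (Matrix.GeneralLinearGroup (Fin t → Fin k) F)}
    (hM : ∀ g ∈ M, ((g : Matrix (Fin t → Fin k) (Fin t → Fin k) F).map σ)ᵀ *
      (g : Matrix (Fin t → Fin k) (Fin t → Fin k) F) = 1) :
    ∀ g ∈ mL M, ∀ x y, stF σ _ (g x) (g y) = stF σ _ x y := by
  intro g hg x y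
  have h1 := unit_iso (hM _ hg) x y
  rw [ofMat_refl_mulVec g x, ofMat_refl_mulVec g y] at h1
  exact h1

theorem exists_mL {t : ℕ} {M : Subgroup (Matrix.GeneralLinearGroup (Fin t → Fin k) F)}
    {G : Matrix.GeneralLinearGroup (Fin t → Fin k) F} (hG : G ∈ M) :
    ∃ g ∈ mL M, ∀ x, g x = (G : Matrix (Fin t → Fin k) (Fin t → Fin k) F) *ᵥ x := by
  obtain ⟨g, hg⟩ := ofMat_surjective (LinearEquiv.refl F _) G
  refine ⟨g, by show ofMat _ g ∈ M; rw [hg]; exact hG, fun x => ?_⟩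
  rw [← hg, ofMat_refl_mulVec]

theorem tv_mulVec {t : ℕ} (l : F) (w x : (Fin t → Fin k) → F) :
    (1 + l • vecMulVec w (σ ∘ w) : Matrix (Fin t → Fin k) (Fin t → Fin k) F) *ᵥ x =
      x + (l * stF σ _ w x) • w := by
  rw [Matrix.add_mulVec, Matrix.one_mulVec, Matrix.smul_mulVec, Matrix.vecMulVec_mulVec, mul_smul]
  congr 1
  congr 1
  funext f
  show w f * _ = _ * w f
  rw [mul_comm]
  rfl

section Main

variable [Finite F] {r : ℕ} {M : Subgroup (Matrix.GeneralLinearGroup (Fin (r + 2) → Fin k) F)}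

theorem pure_hasT (h : PureT σ M) (u : Fin (r + 2) → Fin k → F) (hu : ∀ i, stB σ k (u i) (u i) = 0) :
    HasT (stF σ (Fin (r + 2) → Fin k)) (mL M) (pvec u) := by
  refine ⟨?_, fun l hl => ?_⟩
  · rw [stF_pvec]
    exact Finset.prod_eq_zero (Finset.mem_univ 0) (hu 0)
  · obtain ⟨G, hG, hGe⟩ := h u hu l hl
    obtain ⟨g, hg, hgx⟩ := exists_mL hG
    refine ⟨g, hg, fun x => ?_⟩
    rw [hgx, hGe, tv_mulVec]

/-- The element `1 ⊗ ... ⊗ 1 ⊗ z`. -/
theorem exists_slot (hM : OverT σ M) (u : Fin (r + 2) → Fin k → F) (i : Fin (r + 2))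
    (z : (Fin k → F) ≃ₗ[F] (Fin k → F)) (hz : ∀ x y, stB σ k (z x) (z y) = stB σ k x y)
    (hzd : LinearMap.det (z : (Fin k → F) →ₗ[F] (Fin k → F)) = 1) :
    ∃ g ∈ mL M, ∀ x, g (pvL u i x) = pvL u i (z x) := by
  have hA : ∀ x, LinearMap.toMatrix' (z : (Fin k → F) →ₗ[F] (Fin k → F)) *ᵥ x = z x := by
    intro x
    rw [← Matrix.toLin'_apply, Matrix.toLin'_toMatrix']
    rfl
  obtain ⟨G, hG, hGe⟩ := hM.slot i (LinearMap.toMatrix' (z : (Fin k → F) →ₗ[F] (Fin k → F)))
    (iso_unit (fun x y => by rw [hA, hA, hz])) (by rw [LinearMap.det_toMatrix', hzd])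
  obtain ⟨g, hg, hgx⟩ := exists_mL hG
  refine ⟨g, hg, fun x => ?_⟩
  rw [hgx, hGe, pvL_apply, slotMat_pvec, Function.update_self, Function.update_idem, hA, pvL_apply]

theorem upd_iso (w : Fin (r + 2) → Fin k → F) (v : Fin k → F) (hw : ∀ i, i ≠ Fin.last (r + 1) → stB σ k (w i) (w i) = 0)
    (hv : stB σ k v v = 0) (i : Fin (r + 2)) : stB σ k (Function.update w (Fin.last (r + 1)) v i)
      (Function.update w (Fin.last (r + 1)) v i) = 0 := by
  by_cases hi : i = Fin.last (r + 1)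
  · subst hi
    rw [Function.update_self]; exact hv
  · rw [Function.update_of_ne hi]; exact hw i hi

theorem last_hasT (hs : σ ≠ RingHom.id F) (hs2 : ∀ x, σ (σ x) = x) (hk : 3 ≤ k)
    (hq : 4 ≤ k ∨ ∃ c : F, c ≠ 0 ∧ σ c * c ≠ 1) (hM : OverT σ M) (h : PureT σ M)
    (u : Fin (r + 2) → Fin k → F) (hu : ∀ i, i ≠ Fin.last (r + 1) → stB σ k (u i) (u i) = 0) :
    HasT (stF σ (Fin (r + 2) → Fin k)) (mL M) (pvec u) := by
  by_cases hu0 : ∃ i, u i = 0
  · obtain ⟨i, hi⟩ := hu0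
    have e : pvec u = 0 := by
      funext f
      show ∏ j, u j (f j) = 0
      exact Finset.prod_eq_zero (Finset.mem_univ i) (by rw [hi]; rfl)
    rw [e]
    exact hasT_zero
  push Not at hu0
  have hpart : ∀ i, ∃ u', i ≠ Fin.last (r + 1) → stB σ k (u i) u' = 1 ∧ stB σ k u' u' = 0 := by
    intro i
    by_cases hi : i = Fin.last (r + 1)
    · exact ⟨0, fun h => absurd hi h⟩
    · obtain ⟨u', h1, h2⟩ := exists_partner_std hs hs2 (hu0 i) (hu i hi)
      exact ⟨u', fun _ => ⟨h1, h2⟩⟩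
  choose u' hu' using hpart
  have hne : ∀ j, (Fin.last (r + 1)).succAbove j ≠ Fin.last (r + 1) := fun j => Fin.succAbove_ne _ j
  have key := slot_all hs hs2 (stF_symm hs2 (Fin (r + 2) → Fin k)) (mL_iso (M := M) hM.iso) hk hq
    (P := pvL u (Fin.last (r + 1))) (P' := pvL u' (Fin.last (r + 1)))
    (fun x y => by
      rw [pvL_form, Finset.prod_eq_zero (Finset.mem_univ 0) (hu _ (hne 0)), mul_zero])
    (fun x y => by
      rw [pvL_form, Finset.prod_eq_zero (Finset.mem_univ 0) (hu' _ (hne 0)).2, mul_zero])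
    (fun x y => by
      rw [pvL_form, Finset.prod_congr rfl (fun j _ => (hu' _ (hne j)).1), Finset.prod_const_one, mul_one])
    (fun v hv => ⟨pure_hasT h _ (upd_iso u v hu hv), pure_hasT h _ (upd_iso u' v (fun i hi => (hu' i hi).2) hv)⟩)
    (fun z hz hzd => exists_slot hM u _ z hz hzd)
    (u (Fin.last (r + 1)))
  rw [pvL_apply, Function.update_eq_self] at key
  exact key

theorem cons_iso (u : Fin (r + 1) → Fin k → F) (hu : ∀ i, i ≠ Fin.last r → stB σ k (u i) (u i) = 0)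
    (w : Fin k → F) (hw : stB σ k w w = 0) (i : Fin (r + 2)) (hi : i ≠ Fin.last (r + 1)) :
    stB σ k ((Fin.cons w u : Fin (r + 2) → Fin k → F) i) ((Fin.cons w u : Fin (r + 2) → Fin k → F) i) = 0 := by
  refine Fin.cases ?_ (fun j => ?_) i (motive := fun i => i ≠ Fin.last (r + 1) →
    stB σ k ((Fin.cons w u : Fin (r + 2) → Fin k → F) i) ((Fin.cons w u : Fin (r + 2) → Fin k → F) i) = 0) hi
  · intro _
    rw [Fin.cons_zero]; exact hw
  · intro hj
    rw [Fin.cons_succ]
    exact hu j fun h => hj (by rw [h, Fin.succ_last])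

theorem zero_hasT (hs : σ ≠ RingHom.id F) (hs2 : ∀ x, σ (σ x) = x) (hk : 3 ≤ k)
    (hq : 4 ≤ k ∨ ∃ c : F, c ≠ 0 ∧ σ c * c ≠ 1) (hM : OverT σ M) (h : PureT σ M)
    (v : Fin k → F) (Y : (Fin (r + 1) → Fin k) → F) (hv : stB σ k v v = 0) :
      HasT (stF σ (Fin (r + 2) → Fin k)) (mL M) ((cE F k (r + 1)).symm (tp v Y)) := by
  by_cases hv0 : v = 0
  · subst hv0
    rw [tp_zero_left, map_zero]
    exact hasT_zero
  obtain ⟨v', hvv', hv'⟩ := exists_partner_std hs hs2 hv0 hv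
  refine (rec_all hs hs2 (stF_symm hs2 (Fin (r + 2) → Fin k)) (mL_iso (M := M) hM.iso) hk r
    (((cE F k (r + 1)).symm : (Fin k → ((Fin (r + 1) → Fin k) → F)) →ₗ[F] ((Fin (r + 2) → Fin k) → F)) ∘ₗ tpL v)
    (((cE F k (r + 1)).symm : (Fin k → ((Fin (r + 1) → Fin k) → F)) →ₗ[F] ((Fin (r + 2) → Fin k) → F)) ∘ₗ tpL v')
    (fun X Y => ?_) (fun X Y => ?_) (fun X Y => ?_) (fun u hu => ?_) Y).1
  · show stF σ _ ((cE F k (r + 1)).symm (tp v X)) ((cE F k (r + 1)).symm (tp v Y)) = 0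
    rw [tp_cE_form, hv, zero_mul]
  · show stF σ _ ((cE F k (r + 1)).symm (tp v' X)) ((cE F k (r + 1)).symm (tp v' Y)) = 0
    rw [tp_cE_form, hv', zero_mul]
  · show stF σ _ ((cE F k (r + 1)).symm (tp v X)) ((cE F k (r + 1)).symm (tp v' Y)) = _
    rw [tp_cE_form, hvv', one_mul]
  · show HasT (stF σ (Fin (r + 2) → Fin k)) (mL M) ((cE F k (r + 1)).symm (tp v (pvec u))) ∧
      HasT (stF σ (Fin (r + 2) → Fin k)) (mL M) ((cE F k (r + 1)).symm (tp v' (pvec u)))
    rw [← pvec_cons, ← pvec_cons]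
    exact ⟨last_hasT hs hs2 hk hq hM h _ (cons_iso u hu v hv), last_hasT hs hs2 hk hq hM h _ (cons_iso u hu v' hv')⟩

theorem all_hasT (hs : σ ≠ RingHom.id F) (hs2 : ∀ x, σ (σ x) = x) (hk : 3 ≤ k)
    (hq : 4 ≤ k ∨ ∃ c : F, c ≠ 0 ∧ σ c * c ≠ 1) (hM : OverT σ M) (h : PureT σ M)
    (w : (Fin (r + 2) → Fin k) → F) (hw : stF σ _ w w = 0) :
      HasT (stF σ (Fin (r + 2) → Fin k)) (mL M) w := by
  have hdim : 3 ≤ finrank F ((Fin (r + 1) → Fin k) → F) := by
    rw [Module.finrank_fintype_fun_eq_card, Fintype.card_fun, Fintype.card_fin, Fintype.card_fin]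
    calc 3 ≤ k := hk
      _ = k ^ 1 := (pow_one k).symm
      _ ≤ k ^ (r + 1) := Nat.pow_le_pow_right (by omega) (by omega)
  have h1 := gen_all hs hs2 (stF_symm hs2 (Fin (r + 2) → Fin k)) (mL_iso (M := M) hM.iso)
    (stF_symm hs2 (Fin (r + 1) → Fin k)) (stF_sepLeft _)
    (Φ := ((cE F k (r + 1)).symm : (Fin k → ((Fin (r + 1) → Fin k) → F)) →ₗ[F] ((Fin (r + 2) → Fin k) → F)))
    (fun X Y => bF_cE_symm X Y) (fun u w hu => zero_hasT hs hs2 hk hq hM h u w hu)
    (by omega : 2 ≤ k) hdim (cE F k (r + 1) w) (by rw [← stF_cE]; exact hw)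
  have e : ((cE F k (r + 1)).symm : (Fin k → ((Fin (r + 1) → Fin k) → F)) →ₗ[F] ((Fin (r + 2) → Fin k) → F))
    (cE F k (r + 1) w) = w := (cE F k (r + 1)).symm_apply_apply w
  rw [e] at h1
  exact h1

end Main

/-- **Main theorem.** -/
theorem transvT_of_pureT {F : Type*} [Field F] [Finite F] {sigma : F →+* F} {k s : Nat}
    (hs : sigma ≠ RingHom.id F) (hs2 : ∀ x, sigma (sigma x) = x) (hk : 3 ≤ k) (hs1 : 1 ≤ s)
    (hq : 4 ≤ k ∨ ∃ c : F, c ≠ 0 ∧ sigma c * c ≠ 1)
    {M : Subgroup (Matrix.GeneralLinearGroup (Fin (s+1) → Fin k) F)} (hM : OverT sigma M) (h : PureT sigma M) :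
    TransvT sigma M := by
  obtain ⟨r, rfl⟩ : ∃ r, s = r + 1 := ⟨s - 1, by omega⟩
  intro w hw l hl
  obtain ⟨g, hg, hgx⟩ := (all_hasT hs hs2 hk hq hM h w hw).2 l hl
  refine ⟨ofMat (LinearEquiv.refl F _) g, hg, ?_⟩
  apply Matrix.mulVec_injective
  funext x
  rw [tv_mulVec, ← hgx x, ofMat_refl_mulVec]

end Final

end Cfsg.Agent.H594.TensGen
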