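import Cfsg.Agent.H594.VzCen
import Cfsg.Agent.H226.FrBase

/-!
# The radical of the line stabiliser of `PΩ₈⁺(q)` (helper594)

`Fr Q e f` a hyperbolic basis of the 8-dimensional space `V`, `L = ⟨e 0, e 1⟩`, `P` the Sylow subgroup of `E Q` given by
`OrthAutSylow.exists_sylow`, `P1` its image in `PE Q`.

* `cen_eq` : `Z(P1)` is the root group `Xb Q (e 0) (e 1)`;
* `pr_mem_nor` : the stabiliser of `L` is contained in `N(Z(P1))`;
* `rad_fix` : the elements of `rad P1` come from elements fixing `L` pointwise and acting trivially on `L^⊥ / L`.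
-/

set_option autoImplicit false
set_option linter.unusedSectionVars false

namespace Cfsg.Agent.H594.VzEight

open QuadraticMap Cfsg.Agent.LieClassical.OrthCore Cfsg.Agent.LieClassical.OrthTrans
  Cfsg.Agent.LieClassical.OrthSimple Cfsg.Agent.ClassicalGeometry.OrthAutBasic
  Cfsg.Agent.ClassicalGeometry.OrthAutRoot Cfsg.Agent.ClassicalGeometry.OrthAutSylow
open Cfsg.Agent.H226.FrBase Cfsg.Agent.H594.VzCen

variable {F V : Type*} [Field F] [AddCommGroup V] [Module F V] {Q : QuadraticForm F V}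

/-- the projection to `PE Q` -/
abbrev pj (Q : QuadraticForm F V) : ↥(E Q) →* PE Q := QuotientGroup.mk' _

theorem pj_surj : Function.Surjective (pj Q) := QuotientGroup.mk'_surjective _

/-- the data of the Sylow subgroup -/
structure Syl (Q : QuadraticForm F V) (x u : V) (p : ℕ) (P : Sylow p ↥(E Q)) : Prop where
  ln : Ln Q x u
  fx : ∀ g ∈ P, (g : V ≃ₗ[F] V) x = x
  fu : ∀ g ∈ P, ∃ c : F, (g : V ≃ₗ[F] V) u = u + c • x
  rx : ∀ w, polar Q x w = 0 → (⟨T Q x w, T_mem_E x w⟩ : ↥(E Q)) ∈ P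
  ru : ∀ z, polar Q x z = 0 → polar Q u z = 0 → (⟨T Q u z, T_mem_E u z⟩ : ↥(E Q)) ∈ P

section cen

variable {x u : V} {p : ℕ} [hp : Fact p.Prime] [Finite ↥(E Q)] {P : Sylow p ↥(E Q)}

/-- the image in `PE Q` -/
noncomputable def im (P : Sylow p ↥(E Q)) : Sylow p (PE Q) := P.mapSurjective (pj_surj (Q := Q))

theorem mem_im {γ : PE Q} : γ ∈ im P ↔ ∃ g ∈ P, pj Q g = γ := Iff.rfl

/-- the centre of the Sylow subgroup is the root group -/
theorem cen_eq [Finite F] (hB : Big Q) (h : Syl Q x u p P) :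
    ∀ γ, γ ∈ Xb Q x u ↔ γ ∈ cen (im P : Subgroup (PE Q)) := by
  intro γ
  rw [mem_cen]
  constructor
  · rintro ⟨c, rfl⟩
    have hcu : polar Q x (c • u) = 0 := by rw [polar_smul_right, h.ln.perp, smul_zero]
    refine ⟨⟨_, h.rx (c • u) hcu, rfl⟩, ?_⟩
    intro δ hδ
    obtain ⟨⟨g, hgE⟩, hg, rfl⟩ := mem_im.1 hδ
    have hgx : g x = x := h.fx _ hg
    obtain ⟨d, hd⟩ := h.fu _ hg
    have hgu : g u = u + d • x := hd
    have h1 : T Q (g x) (g (c • u)) = T Q x (c • u) := by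
      rw [map_smul, hgu, hgx, smul_add, smul_smul, T_add_smul h.ln.qu hcu]
    exact (comm_of_T_eq hgE h1).symm
  · rintro ⟨hγ, hc⟩
    obtain ⟨⟨g, hgE⟩, hg, rfl⟩ := mem_im.1 hγ
    have hgx : g x = x := h.fx _ hg
    obtain ⟨w0, hw0, eg⟩ := eq_T_of_comm_rad hB (E_le_O hgE) h.ln.qu h.ln.ne hgx (by
      intro w hw
      apply T_eq_of_comm hB hgE
      exact hc _ (mem_im.2 ⟨_, h.rx w hw, rfl⟩))
    have hw0L : w0 ∈ L F x u := by
      apply mem_L_of_comm hB h.ln hw0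
      intro z' hz1' hz2'
      have e1 : T Q u z' x = x := T_fix h.ln.perp' (by rw [polar_comm]; exact hz1')
      have e2 := hc _ (mem_im.2 ⟨_, h.ru z' hz1' hz2', rfl⟩)
      have e3 : pr (T Q u z') (T_mem_E u z') * tau Q x w0 =
          tau Q x w0 * pr (T Q u z') (T_mem_E u z') := by
        have e4 : pj Q ⟨g, hgE⟩ = tau Q x w0 := by
          show pr g hgE = pr (T Q x w0) _
          exact pr_congr _ eg
        rw [← e4]
        exact e2.symm
      have := T_eq_of_comm hB (T_mem_E u z') e3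
      rwa [e1] at this
    obtain ⟨a, c, e⟩ := mem_L.1 hw0L
    have hcu : polar Q x (c • u) = 0 := by rw [polar_smul_right, h.ln.perp, smul_zero]
    refine ⟨c, ?_⟩
    show pr g hgE = pr (T Q x (c • u)) _
    apply pr_congr
    rw [eg, ← e, add_comm, T_add_smul h.ln.qu hcu]

/-- the stabiliser of the line -/
theorem pr_mem_nor [Finite F] (hB : Big Q) (h : Syl Q x u p P) {s : V ≃ₗ[F] V} (hs : s ∈ E Q)
    (hL : L F (s x) (s u) = L F x u) : pr s hs ∈ nor (im P : Subgroup (PE Q)) := by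
  rw [mem_nor]
  have hX : Xb Q (s x) (s u) = Xb Q x u := Xb_eq_of_L_eq h.ln (h.ln.map (E_le_O hs)) hL
  intro γ
  rw [← cen_eq hB h, ← cen_eq hB h]
  have hXg : γ ∈ Xb Q x u ↔ pr s hs * γ * (pr s hs)⁻¹ ∈ Xb Q (s x) (s u) := by
    rw [mem_Xb, mem_Xb]
    refine exists_congr fun c => ?_
    rw [← map_smul, ← tau_conj hs]
    constructor
    · rintro rfl
      rfl
    · intro e
      have := congrArg (fun t => (pr s hs)⁻¹ * t * pr s hs) e
      simpa [mul_assoc] using this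
  rw [hXg, hX]

/-- conjugates of lifts lie in `P` -/
theorem conj_mem [Finite F] [CharP F p] (hB : Big Q) (h : Syl Q x u p P) {g k : V ≃ₗ[F] V} (hg : g ∈ E Q)
    (hgP : (⟨g, hg⟩ : ↥(E Q)) ∈ P) (hk : k ∈ E Q) (hm : (pr k hk)⁻¹ * pr g hg * pr k hk ∈ im P) :
    (⟨k⁻¹ * g * k, E_mul (E_mul ((E Q).inv_mem hk) hg) hk⟩ : ↥(E Q)) ∈ P := by
  obtain ⟨⟨g', hg'⟩, hg'P, e⟩ := mem_im.1 hm
  have hmem : k⁻¹ * g * k ∈ E Q := E_mul (E_mul ((E Q).inv_mem hk) hg) hk
  have e' : pr (k⁻¹ * g * k) hmem = pr g' hg' := by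
    rw [pr_mul (E_mul ((E Q).inv_mem hk) hg) hk, pr_mul ((E Q).inv_mem hk) hg, pr_inv hk]
    exact e.symm
  obtain ⟨c, hc, hv⟩ := (pr_eq_iff hB _ _).1 e'
  -- orders
  obtain ⟨i, hi⟩ := P.2 ⟨_, hgP⟩
  obtain ⟨j, hj⟩ := P.2 ⟨_, hg'P⟩
  have hi' : g ^ p ^ i = 1 := by
    have := congrArg (fun t : (P : Subgroup ↥(E Q)) => ((t : ↥(E Q)) : V ≃ₗ[F] V)) hi
    exact this
  have hj' : g' ^ p ^ j = 1 := by
    have := congrArg (fun t : (P : Subgroup ↥(E Q)) => ((t : ↥(E Q)) : V ≃ₗ[F] V)) hj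
    exact this
  have hgn : g ^ p ^ (i + j) = 1 := by rw [pow_add, pow_mul, hi', one_pow]
  have hgn' : g' ^ p ^ (i + j) = 1 := by rw [add_comm, pow_add, pow_mul, hj', one_pow]
  have hpow : ∀ n : ℕ, ∀ v, ((k⁻¹ * g * k) ^ n) v = c ^ n • (g' ^ n) v := by
    intro n
    induction n with
    | zero => intro v; simp
    | succ n ih =>
      intro v
      rw [pow_succ, pow_succ g', pow_succ]
      change ((k⁻¹ * g * k) ^ n) ((k⁻¹ * g * k) v) = (c ^ n * c) • (g' ^ n) (g' v)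
      rw [hv v, map_smul, ih, smul_smul, mul_comm c]
  have hconj : (k⁻¹ * g * k) ^ p ^ (i + j) = 1 := by
    have : k⁻¹ * g * k = k⁻¹ * g * k⁻¹⁻¹ := by rw [inv_inv]
    rw [this, conj_pow, hgn, mul_one, mul_inv_cancel]
  have h1 := hpow (p ^ (i + j)) x
  rw [hconj, hgn'] at h1
  have h2 : x = c ^ p ^ (i + j) • x := h1
  have h3 : c ^ p ^ (i + j) = 1 := by
    have h4 : (c ^ p ^ (i + j) - 1) • x = 0 := by rw [sub_smul, ← h2, one_smul, sub_self]
    rcases smul_eq_zero.1 h4 with h5 | h5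
    · exact sub_eq_zero.1 h5
    · exact absurd h5 h.ln.ne
  have h4 : c = 1 := by
    have h5 : (c - 1) ^ p ^ (i + j) = 0 := by
      rw [sub_pow_char_pow, h3, one_pow, sub_self]
    exact sub_eq_zero.1 (pow_eq_zero_iff (pow_pos hp.out.pos _).ne' |>.1 h5)
  have h5 : k⁻¹ * g * k = g' := by
    ext v
    rw [hv v, h4, one_smul]
  have h6 : (⟨k⁻¹ * g * k, E_mul (E_mul ((E Q).inv_mem hk) hg) hk⟩ : ↥(E Q)) = ⟨g', hg'⟩ := Subtype.ext h5
  rw [h6]
  exact hg'P

/-- the lifts of the elements of the radical -/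
def Lift (P : Sylow p ↥(E Q)) (g : V ≃ₗ[F] V) : Prop :=
  ∃ hg : g ∈ E Q, (⟨g, hg⟩ : ↥(E Q)) ∈ P ∧ pr g hg ∈ rad (im P : Subgroup (PE Q))

theorem exists_lift {v : PE Q} (hv : v ∈ rad (im P : Subgroup (PE Q))) : ∃ g, ∃ h : Lift P g, v = pr g h.1 := by
  have h1 := hv 1 (one_mem _)
  rw [inv_one, one_mul, mul_one] at h1
  obtain ⟨⟨g, hg⟩, hgP, e⟩ := mem_im.1 h1
  refine ⟨g, ⟨hg, hgP, ?_⟩, e.symm⟩
  have : pr g hg = v := e
  rw [this]
  exact hv

theorem Lift.conj [Finite F] [CharP F p] (hB : Big Q) (h : Syl Q x u p P) {g k : V ≃ₗ[F] V} (hg : Lift P g)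
    (hk : k ∈ E Q) (hL : L F (k x) (k u) = L F x u) : Lift P (k⁻¹ * g * k) := by
  obtain ⟨hgE, hgP, hr⟩ := hg
  have hn := pr_mem_nor hB h hk hL
  have h1 := hr _ hn
  refine ⟨E_mul (E_mul ((E Q).inv_mem hk) hgE) hk, conj_mem hB h hgE hgP hk h1, ?_⟩
  have h2 := (nor_conj_rad (inv_mem hn) (pr g hgE)).1 hr
  rw [inv_inv] at h2
  exact h2

end cen

/-! ### the fixed space -/

section fix

variable {e f : Fin 4 → V} (h : Fr Q e f) {p : ℕ} [hp : Fact p.Prime] [Finite ↥(E Q)] {P : Sylow p ↥(E Q)}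

theorem mem_L_comb {x u v : V} {a b : F} (hv : v = a • x + b • u) : v ∈ L F x u := mem_L.2 ⟨a, b, hv.symm⟩

/-- `u` is fixed -/
theorem Lift.fix_u [Finite F] [CharP F p] (hB : Big Q) (h : Fr Q e f) (hS : Syl Q (e 0) (e 1) p P)
    {g : V ≃ₗ[F] V} (hg : Lift P g) : g (e 0) = e 0 ∧ g (e 1) = e 1 := by
  have h0 : g (e 0) = e 0 := hS.fx _ hg.2.1
  refine ⟨h0, ?_⟩
  have hq := h.qd (i := 0) (j := 1) (by decide)
  -- `k = T u y`
  have hk0 : T Q (e 1) (f 0) (e 0) = e 0 - e 1 := by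
    rw [T_apply hq.h2.left (by rw [polar_comm]; exact hq.yu), h.ee, h.fe, h.qf]
    simp
  have hk1 : T Q (e 1) (f 0) (e 1) = e 1 := T_apply_self hq.h2.left (by rw [polar_comm]; exact hq.yu)
  have hL : L F (T Q (e 1) (f 0) (e 0)) (T Q (e 1) (f 0) (e 1)) = L F (e 0) (e 1) := by
    rw [hk0, hk1]
    apply le_antisymm
    · refine Submodule.span_le.2 ?_
      rintro y (rfl | rfl)
      · exact mem_L_comb (a := 1) (b := -1) (by module)
      · exact right_mem_L _ _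
    · refine Submodule.span_le.2 ?_
      rintro y (rfl | rfl)
      · exact mem_L_comb (a := 1) (b := 1) (by module)
      · exact right_mem_L _ _
  have h1 := hg.conj hB hS (T_mem_E (e 1) (f 0)) hL
  have h2 : (T Q (e 1) (f 0))⁻¹ (g (T Q (e 1) (f 0) (e 0))) = e 0 := hS.fx _ h1.2.1
  have h3 : g (T Q (e 1) (f 0) (e 0)) = T Q (e 1) (f 0) (e 0) := by
    have := congrArg (T Q (e 1) (f 0)) h2
    rwa [show (T Q (e 1) (f 0)) ((T Q (e 1) (f 0))⁻¹ (g (T Q (e 1) (f 0) (e 0)))) =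
      g (T Q (e 1) (f 0) (e 0)) from LinearEquiv.apply_symm_apply _ _] at this
  rw [hk0, map_sub, h0] at h3
  exact sub_right_injective h3

/-- `P` fixes a vector of `L^⊥` modulo `L` -/
theorem exists_fix [Finite F] [CharP F p] (hB : Big Q) (h : Fr Q e f) (hS : Syl Q (e 0) (e 1) p P) :
    ∃ c0 : V, polar Q (e 0) c0 = 0 ∧ polar Q (e 1) c0 = 0 ∧ c0 ∉ L F (e 0) (e 1) ∧
      ∀ g ∈ P, (g : V ≃ₗ[F] V) c0 - c0 ∈ L F (e 0) (e 1) := by
  classical
  have hfd : FiniteDimensional F V := Module.finite_of_finrank_pos (by have := hB.dim; omega)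
  have hfin : Finite V := Module.finite_of_finite F
  have hstab : ∀ g ∈ P, ∀ v ∈ L F (e 0) (e 1), (g : V ≃ₗ[F] V) v ∈ L F (e 0) (e 1) := by
    intro g hg v hv
    obtain ⟨a, b, rfl⟩ := mem_L.1 hv
    obtain ⟨c, hc⟩ := hS.fu g hg
    rw [map_add, map_smul, map_smul, hS.fx g hg, hc]
    exact mem_L_comb (a := a + b * c) (b := b) (by module)
  let act : MulAction (P : Subgroup ↥(E Q)) (V ⧸ L F (e 0) (e 1)) :=
    { smul := fun g q => Submodule.mapQ (L F (e 0) (e 1)) (L F (e 0) (e 1))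
        ((g : ↥(E Q)) : V ≃ₗ[F] V).toLinearMap (fun v hv => hstab g g.2 v hv) q
      one_smul := by
        intro q
        induction q using Submodule.Quotient.induction_on with
        | _ v => rfl
      mul_smul := by
        intro a b q
        induction q using Submodule.Quotient.induction_on with
        | _ v => rfl }
  have hne : L F (e 0) (e 1) ≠ ⊤ := by
    intro htop
    have h1 : e 2 ∈ L F (e 0) (e 1) := by rw [htop]; trivial
    obtain ⟨a, b, h2⟩ := mem_L.1 h1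
    have h3 := congrArg (polar Q (f 2)) h2
    rw [polar_add_right, polar_smul_right, polar_smul_right, h.fe, h.fe, h.fe] at h3
    simp at h3
  have hcard : p ∣ Nat.card (V ⧸ L F (e 0) (e 1)) := by
    have hnt : Nontrivial (V ⧸ L F (e 0) (e 1)) := Submodule.Quotient.nontrivial_iff.2 hne
    have h1 : Nat.card (V ⧸ L F (e 0) (e 1)) = Nat.card F ^ Module.finrank F (V ⧸ L F (e 0) (e 1)) :=
      Module.natCard_eq_pow_finrank
    have h2 : p ∣ Nat.card F := by
      have : Fintype F := Fintype.ofFinite F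
      rw [Nat.card_eq_fintype_card]
      exact (CharP.cast_eq_zero_iff F p _).1 (Nat.cast_card_eq_zero F)
    rw [h1]
    exact dvd_pow h2 Module.finrank_pos.ne'
  have h0 : (0 : V ⧸ L F (e 0) (e 1)) ∈ MulAction.fixedPoints (P : Subgroup ↥(E Q)) (V ⧸ L F (e 0) (e 1)) := by
    intro g
    exact map_zero (Submodule.mapQ (L F (e 0) (e 1)) (L F (e 0) (e 1))
        ((g : ↥(E Q)) : V ≃ₗ[F] V).toLinearMap (fun v hv => hstab g g.2 v hv))
  have hfq : Finite (V ⧸ L F (e 0) (e 1)) := Finite.of_surjective _ (Submodule.Quotient.mk_surjective (L F (e 0) (e 1)))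
  obtain ⟨q, hq, hq0⟩ := P.2.exists_fixed_point_of_prime_dvd_card_of_fixed_point _ hcard h0
  obtain ⟨c0, rfl⟩ := Submodule.Quotient.mk_surjective _ q
  have hfix : ∀ g ∈ P, (g : V ≃ₗ[F] V) c0 - c0 ∈ L F (e 0) (e 1) := by
    intro g hg
    have h1 := hq ⟨g, hg⟩
    exact (Submodule.Quotient.eq _).1 h1
  have hf2 : ∀ v ∈ L F (e 0) (e 1), polar Q (f 2) v = 0 := by
    intro v hv
    obtain ⟨a, b, rfl⟩ := mem_L.1 hv
    rw [polar_add_right, polar_smul_right, polar_smul_right, h.fe, h.fe]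
    simp
  refine ⟨c0, ?_, ?_, ?_, hfix⟩
  · have h1 := hf2 _ (hfix _ (hS.rx (e 2) (h.ee 0 2)))
    change polar Q (f 2) (T Q (e 0) (e 2) c0 - c0) = 0 at h1
    rw [T_apply (h.qe 0) (h.ee 0 2), h.qe] at h1
    simp only [zero_mul, zero_smul, sub_zero, polar_sub_right, polar_add_right, polar_smul_right, h.fe, smul_eq_mul] at h1
    simpa using h1
  · have h1 := hf2 _ (hfix _ (hS.ru (e 2) (h.ee 0 2) (h.ee 1 2)))
    change polar Q (f 2) (T Q (e 1) (e 2) c0 - c0) = 0 at h1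
    rw [T_apply (h.qe 1) (h.ee 1 2), h.qe] at h1
    simp only [zero_mul, zero_smul, sub_zero, polar_sub_right, polar_add_right, polar_smul_right, h.fe, smul_eq_mul] at h1
    simpa using h1
  · intro hc
    apply hq0
    exact ((Submodule.Quotient.mk_eq_zero _).2 hc).symm

/-- the vectors fixed modulo `L` by the radical -/
def Fix (P : Sylow p ↥(E Q)) (e : Fin 4 → V) : Submodule F V where
  carrier := {v | ∀ g, Lift P g → g v - v ∈ L F (e 0) (e 1)}
  zero_mem' := fun g _ => by simp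
  add_mem' := by
    intro a b ha hb g hg
    have : g (a + b) - (a + b) = (g a - a) + (g b - b) := by rw [map_add]; abel
    rw [this]
    exact Submodule.add_mem _ (ha g hg) (hb g hg)
  smul_mem' := by
    intro c a ha g hg
    rw [map_smul, ← smul_sub]
    exact Submodule.smul_mem _ _ (ha g hg)

theorem mem_Fix {v : V} : v ∈ Fix P e ↔ ∀ g, Lift P g → g v - v ∈ L F (e 0) (e 1) := Iff.rfl

/-- stability -/
theorem Fix.map [Finite F] [CharP F p] (hB : Big Q) (hS : Syl Q (e 0) (e 1) p P) {k : V ≃ₗ[F] V} (hk : k ∈ E Q)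
    (h0 : k (e 0) = e 0) (h1 : k (e 1) = e 1) {v : V} (hv : v ∈ Fix P e) : k v ∈ Fix P e := by
  intro g hg
  have h2 := hg.conj hB hS hk (by rw [h0, h1])
  have h3 := hv _ h2
  obtain ⟨a, b, h4⟩ := mem_L.1 h3
  have h5 : (k⁻¹ * g * k) v = k⁻¹ (g (k v)) := rfl
  rw [h5] at h4
  have h6 := congrArg k h4
  rw [map_sub, show k (k⁻¹ (g (k v))) = g (k v) from LinearEquiv.apply_symm_apply _ _, map_add, map_smul, map_smul,
    h0, h1] at h6
  exact mem_L.2 ⟨a, b, h6⟩

/-- the irreducibility argument -/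
theorem Fix.step [Finite F] [CharP F p] (hB : Big Q) (hS : Syl Q (e 0) (e 1) p P) {a c a' c' w0 : V}
    (hq : Qd Q a c a' c') (ha0 : polar Q a (e 0) = 0) (ha1 : polar Q a (e 1) = 0) (hc0 : polar Q c (e 0) = 0)
    (hc1 : polar Q c (e 1) = 0) (hc0' : polar Q c' (e 0) = 0) (hc1' : polar Q c' (e 1) = 0) (hw : w0 ∈ Fix P e)
    {α t β γ : F} (hw0 : w0 = α • a + t • a' + β • c + γ • c') (ht : t ≠ 0) :
    a ∈ Fix P e ∧ a' ∈ Fix P e ∧ c ∈ Fix P e ∧ c' ∈ Fix P e := by
  have pa : polar Q a w0 = t := by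
    rw [hw0]
    simp only [polar_add_right, polar_smul_right, hq.xx, hq.h1.pair, hq.xu, hq.xv, smul_eq_mul]
    ring
  have pc : polar Q c w0 = γ := by
    rw [hw0]
    simp only [polar_add_right, polar_smul_right, hq.ux, hq.uy, hq.uu, hq.h2.pair, smul_eq_mul]
    ring
  have pc' : polar Q c' w0 = β := by
    rw [hw0]
    simp only [polar_add_right, polar_smul_right, hq.vx, hq.vy, hq.vu, hq.vv, smul_eq_mul]
    ring
  have key : ∀ b, polar Q a b = 0 → polar Q b (e 0) = 0 → polar Q b (e 1) = 0 →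
      t • b - polar Q b w0 • a - (Q b * t) • a ∈ Fix P e := by
    intro b hab hb0 hb1
    have h1 := Fix.map hB hS (T_mem_E a b) (T_fix ha0 hb0) (T_fix ha1 hb1) hw
    have h2 := Submodule.sub_mem _ h1 hw
    have h3 : T Q a b w0 - w0 = t • b - polar Q b w0 • a - (Q b * t) • a := by
      rw [T_apply hq.h1.left hab, pa]
      abel
    rwa [h3] at h2
  have k1 := key c hq.xu hc0 hc1
  have k2 := key c' hq.xv hc0' hc1'
  have k3 := key (c + c') (by rw [polar_add_right, hq.xu, hq.xv, add_zero])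
    (by rw [polar_add_left, hc0, hc0', add_zero]) (by rw [polar_add_left, hc1, hc1', add_zero])
  have hQ : Q (c + c') = 1 := by
    rw [Q_add, hq.h2.left, hq.h2.right, hq.h2.pair]
    ring
  rw [hq.h2.left, pc] at k1
  rw [hq.h2.right, pc'] at k2
  rw [hQ, polar_add_left, pc, pc'] at k3
  have k4 : a ∈ Fix P e := by
    have h1 := Submodule.sub_mem _ (Submodule.add_mem _ k1 k2) k3
    have h2 : t • c - γ • a - (0 * t) • a + (t • c' - β • a - (0 * t) • a) -
        (t • (c + c') - (γ + β) • a - (1 * t) • a) = t • a := by module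
    rw [h2] at h1
    exact (Submodule.smul_mem_iff _ ht).1 h1
  have k5 : c ∈ Fix P e := by
    have h1 := Submodule.add_mem _ k1 (Submodule.smul_mem _ γ k4)
    have h2 : t • c - γ • a - (0 * t) • a + γ • a = t • c := by module
    rw [h2] at h1
    exact (Submodule.smul_mem_iff _ ht).1 h1
  have k6 : c' ∈ Fix P e := by
    have h1 := Submodule.add_mem _ k2 (Submodule.smul_mem _ β k4)
    have h2 : t • c' - β • a - (0 * t) • a + β • a = t • c' := by module
    rw [h2] at h1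
    exact (Submodule.smul_mem_iff _ ht).1 h1
  refine ⟨k4, ?_, k5, k6⟩
  have h1 := Submodule.sub_mem _ hw (Submodule.add_mem _ (Submodule.add_mem _ (Submodule.smul_mem _ α k4)
    (Submodule.smul_mem _ β k5)) (Submodule.smul_mem _ γ k6))
  have h2 : w0 - (α • a + β • c + γ • c') = t • a' := by rw [hw0]; module
  rw [h2] at h1
  exact (Submodule.smul_mem_iff _ ht).1 h1

/-- the radical acts trivially on `L^⊥ / L` -/
theorem Fix.all [Finite F] [CharP F p] (hB : Big Q) (h : Fr Q e f) (hS : Syl Q (e 0) (e 1) p P) :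
    e 2 ∈ Fix P e ∧ f 2 ∈ Fix P e ∧ e 3 ∈ Fix P e ∧ f 3 ∈ Fix P e := by
  obtain ⟨c0, hc0, hc1, hcL, hfix⟩ := exists_fix hB h hS
  have hc : c0 ∈ Fix P e := fun g hg => hfix _ hg.2.1
  have he0 : e 0 ∈ Fix P e := fun g hg => by rw [(Lift.fix_u hB h hS hg).1, sub_self]; exact Submodule.zero_mem _
  have he1 : e 1 ∈ Fix P e := fun g hg => by rw [(Lift.fix_u hB h hS hg).2, sub_self]; exact Submodule.zero_mem _
  have hsp := h.span c0
  rw [Fin.sum_univ_four, hc0, hc1] at hsp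
  set α0 := polar Q (f 0) c0
  set α1 := polar Q (f 1) c0
  set α := polar Q (f 2) c0
  set t := polar Q (e 2) c0
  set β := polar Q (f 3) c0
  set γ := polar Q (e 3) c0
  have hw : α • e 2 + t • f 2 + β • e 3 + γ • f 3 ∈ Fix P e := by
    have h1 := Submodule.sub_mem _ hc (Submodule.add_mem _ (Submodule.smul_mem _ α0 he0) (Submodule.smul_mem _ α1 he1))
    have h2 : c0 - (α0 • e 0 + α1 • e 1) = α • e 2 + t • f 2 + β • e 3 + γ • f 3 := by
      conv_lhs => rw [hsp]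
      module
    rwa [h2] at h1
  have q23 := h.qd (i := 2) (j := 3) (by decide)
  have z : ∀ i j : Fin 4, i ≠ j → polar Q (f i) (e j) = 0 := fun i j hij => by rw [h.fe, if_neg hij]
  by_cases h1 : t = 0
  · by_cases h2 : α = 0
    · by_cases h3 : γ = 0
      · by_cases h4 : β = 0
        · exfalso
          apply hcL
          rw [h1, h2, h3, h4] at hsp
          exact mem_L_comb (a := α0) (b := α1) (hsp.trans (by module))
        · obtain ⟨k1, k2, k3, k4⟩ := Fix.step hB hS (a := f 3) (c := e 2) (a' := e 3) (c' := f 2)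
            (α := γ) (t := β) (β := α) (γ := t) (w0 := α • e 2 + t • f 2 + β • e 3 + γ • f 3)
            (h.swap.qd (i := 3) (j := 2) (by decide)).flip (z 3 0 (by decide)) (z 3 1 (by decide)) (h.ee 2 0) (h.ee 2 1)
            (z 2 0 (by decide)) (z 2 1 (by decide)) hw (by module) h4
          exact ⟨k3, k4, k2, k1⟩
      · obtain ⟨k1, k2, k3, k4⟩ := Fix.step hB hS (a := e 3) (c := e 2) (a' := f 3) (c' := f 2)
            (α := β) (t := γ) (β := α) (γ := t) (w0 := α • e 2 + t • f 2 + β • e 3 + γ • f 3)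
            (h.qd (i := 3) (j := 2) (by decide)) (h.ee 3 0) (h.ee 3 1) (h.ee 2 0) (h.ee 2 1)
            (z 2 0 (by decide)) (z 2 1 (by decide)) hw (by module) h3
        exact ⟨k3, k4, k1, k2⟩
    · obtain ⟨k1, k2, k3, k4⟩ := Fix.step hB hS (a := f 2) (c := e 3) (a' := e 2) (c' := f 3)
            (α := t) (t := α) (β := β) (γ := γ) (w0 := α • e 2 + t • f 2 + β • e 3 + γ • f 3)
            (h.swap.qd (i := 2) (j := 3) (by decide)).flip (z 2 0 (by decide)) (z 2 1 (by decide)) (h.ee 3 0) (h.ee 3 1)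
            (z 3 0 (by decide)) (z 3 1 (by decide)) hw (by module) h2
      exact ⟨k2, k1, k3, k4⟩
  · obtain ⟨k1, k2, k3, k4⟩ := Fix.step hB hS (a := e 2) (c := e 3) (a' := f 2) (c' := f 3)
            (α := α) (t := t) (β := β) (γ := γ) (w0 := α • e 2 + t • f 2 + β • e 3 + γ • f 3)
            q23 (h.ee 2 0) (h.ee 2 1) (h.ee 3 0) (h.ee 3 1)
            (z 3 0 (by decide)) (z 3 1 (by decide)) hw rfl h1
    exact ⟨k1, k2, k3, k4⟩

/-- **the elements of the radical** -/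
theorem rad_fix [Finite F] [CharP F p] (hB : Big Q) (h : Fr Q e f) (hS : Syl Q (e 0) (e 1) p P)
    {v : PE Q} (hv : v ∈ rad (im P : Subgroup (PE Q))) :
    ∃ (g : V ≃ₗ[F] V) (hg : g ∈ E Q), v = pr g hg ∧ g (e 0) = e 0 ∧ g (e 1) = e 1 ∧
      (∃ a b : F, g (e 2) = e 2 + (a • e 0 + b • e 1)) ∧ (∃ a b : F, g (f 2) = f 2 + (a • e 0 + b • e 1)) ∧
      (∃ a b : F, g (e 3) = e 3 + (a • e 0 + b • e 1)) ∧ (∃ a b : F, g (f 3) = f 3 + (a • e 0 + b • e 1)) := by
  obtain ⟨g, hg, e1⟩ := exists_lift hv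
  obtain ⟨g0, g1⟩ := Lift.fix_u hB h hS hg
  obtain ⟨k1, k2, k3, k4⟩ := Fix.all hB h hS
  have key : ∀ w ∈ Fix P e, ∃ a b : F, g w = w + (a • e 0 + b • e 1) := by
    intro w hw
    obtain ⟨a, b, h1⟩ := mem_L.1 (hw g hg)
    exact ⟨a, b, by rw [h1]; abel⟩
  exact ⟨g, hg.1, e1, g0, g1, key _ k1, key _ k2, key _ k3, key _ k4⟩

end fix

end Cfsg.Agent.H594.VzEight
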