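import Cfsg.Agent.H594.VzEight
import Cfsg.Agent.H594.VzQuad

/-!
# Elements of `PΩ₈⁺(q)` acting fixed point freely on the radical of the line stabiliser (helper594)
-/

set_option autoImplicit false
set_option linter.unusedSectionVars false

namespace Cfsg.Agent.H594.VzElt

open QuadraticMap Cfsg.Agent.LieClassical.OrthCore Cfsg.Agent.LieClassical.OrthTrans
  Cfsg.Agent.LieClassical.OrthSimple Cfsg.Agent.ClassicalGeometry.OrthAutBasic
  Cfsg.Agent.ClassicalGeometry.OrthAutRoot Cfsg.Agent.ClassicalGeometry.OrthAutSylow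
open Cfsg.Agent.H226.FrBase Cfsg.Agent.H594.VzCen Cfsg.Agent.H594.VzEight Cfsg.Agent.H594.VzQuad

variable {F V : Type*} [Field F] [AddCommGroup V] [Module F V] {Q : QuadraticForm F V} {e f : Fin 4 → V}

theorem inv_apply_eq {s : V ≃ₗ[F] V} {a b : V} (h : s a = b) : s⁻¹ b = a := by
  rw [← h]
  exact LinearEquiv.symm_apply_apply s a

/-! ### the elements -/

/-- the torus element of the root `L` -/
structure One (e f : Fin 4 → V) (z : F) (s : V ≃ₗ[F] V) : Prop where
  e0 : s (e 0) = z • e 0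
  e1 : s (e 1) = z • e 1
  f0 : s (f 0) = z⁻¹ • f 0
  f1 : s (f 1) = z⁻¹ • f 1
  e2 : s (e 2) = e 2
  e3 : s (e 3) = e 3
  f2 : s (f 2) = f 2
  f3 : s (f 3) = f 3

theorem exists_one (h : Fr Q e f) {z : F} (hz : z ≠ 0) : ∃ s ∈ E Q, One e f z s := by
  have q := h.qd (i := 0) (j := 1) (by decide)
  have q' : Qd Q (e 0) (z • e 1) (f 0) (z⁻¹ • f 1) := by
    refine ⟨q.h1, ⟨?_, ?_, ?_⟩, ?_, ?_, ?_, ?_⟩
    · rw [QuadraticMap.map_smul, h.qe, smul_zero]
    · rw [QuadraticMap.map_smul, h.qf, smul_zero]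
    · rw [polar_smul_left, polar_smul_right, q.h2.pair, smul_eq_mul, smul_eq_mul, mul_one, mul_inv_cancel₀ hz]
    · rw [polar_smul_right, q.xu, smul_zero]
    · rw [polar_smul_right, q.xv, smul_zero]
    · rw [polar_smul_right, q.yu, smul_zero]
    · rw [polar_smul_right, q.yv, smul_zero]
  have kv : rot Q (e 0) (z • e 1) (f 0) (z⁻¹ • f 1) (f 1) = -(z • e 0) := by
    have h1 := q'.rot_v
    rw [map_smul] at h1
    have h2 := congrArg (fun t => z • t) h1
    simp only [smul_smul, mul_inv_cancel₀ hz, one_smul, smul_neg] at h2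
    exact h2
  have ku : rot Q (e 0) (z • e 1) (f 0) (z⁻¹ • f 1) (e 1) = -(z⁻¹ • f 0) := by
    have h1 := q'.rot_u
    rw [map_smul] at h1
    have h2 := congrArg (fun t => z⁻¹ • t) h1
    simp only [smul_smul, inv_mul_cancel₀ hz, one_smul, smul_neg] at h2
    exact h2
  have iv : (rot Q (e 0) (e 1) (f 0) (f 1))⁻¹ (f 1) = e 0 := inv_apply_eq q.rot_x
  have ix : (rot Q (e 0) (e 1) (f 0) (f 1))⁻¹ (e 0) = -f 1 :=
    inv_apply_eq (by rw [map_neg, q.rot_v, neg_neg])
  have iu : (rot Q (e 0) (e 1) (f 0) (f 1))⁻¹ (e 1) = f 0 := inv_apply_eq q.rot_y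
  have iy : (rot Q (e 0) (e 1) (f 0) (f 1))⁻¹ (f 0) = -e 1 :=
    inv_apply_eq (by rw [map_neg, q.rot_u, neg_neg])
  have hp : ∀ p, polar Q (e 0) p = 0 → polar Q (f 0) p = 0 → polar Q (e 1) p = 0 → polar Q (f 1) p = 0 →
      (rot Q (e 0) (z • e 1) (f 0) (z⁻¹ • f 1) * (rot Q (e 0) (e 1) (f 0) (f 1))⁻¹) p = p := by
    intro p h1 h2 h3 h4
    change rot Q (e 0) (z • e 1) (f 0) (z⁻¹ • f 1) ((rot Q (e 0) (e 1) (f 0) (f 1))⁻¹ p) = p
    rw [inv_apply_eq (q.rot_p h1 h2 h3 h4)]
    exact q'.rot_p h1 h2 (by rw [polar_smul_left, h3, smul_zero]) (by rw [polar_smul_left, h4, smul_zero])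
  refine ⟨rot Q (e 0) (z • e 1) (f 0) (z⁻¹ • f 1) * (rot Q (e 0) (e 1) (f 0) (f 1))⁻¹,
    E_mul (rot_mem _ _ _ _) ((E Q).inv_mem (rot_mem _ _ _ _)), ?_, ?_, ?_, ?_, ?_, ?_, ?_, ?_⟩
  · change rot Q (e 0) (z • e 1) (f 0) (z⁻¹ • f 1) ((rot Q (e 0) (e 1) (f 0) (f 1))⁻¹ (e 0)) = _
    rw [ix, map_neg, kv, neg_neg]
  · change rot Q (e 0) (z • e 1) (f 0) (z⁻¹ • f 1) ((rot Q (e 0) (e 1) (f 0) (f 1))⁻¹ (e 1)) = _
    rw [iu, q'.rot_y]
  · change rot Q (e 0) (z • e 1) (f 0) (z⁻¹ • f 1) ((rot Q (e 0) (e 1) (f 0) (f 1))⁻¹ (f 0)) = _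
    rw [iy, map_neg, ku, neg_neg]
  · change rot Q (e 0) (z • e 1) (f 0) (z⁻¹ • f 1) ((rot Q (e 0) (e 1) (f 0) (f 1))⁻¹ (f 1)) = _
    rw [iv, q'.rot_x]
  · exact hp _ (h.ee _ _) (by rw [h.fe]; simp) (h.ee _ _) (by rw [h.fe]; simp)
  · exact hp _ (h.ee _ _) (by rw [h.fe]; simp) (h.ee _ _) (by rw [h.fe]; simp)
  · exact hp _ (by rw [h.ef]; simp) (h.ff _ _) (by rw [h.ef]; simp) (h.ff _ _)
  · exact hp _ (by rw [h.ef]; simp) (h.ff _ _) (by rw [h.ef]; simp) (h.ff _ _)

/-- the element for `q = 3 mod 4` -/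
structure Two (e f : Fin 4 → V) (c : F) (s : V ≃ₗ[F] V) : Prop where
  e0 : s (e 0) = e 1
  e1 : s (e 1) = e 0 + c • e 1
  f0 : s (f 0) = f 1 - c • f 0
  f1 : s (f 1) = f 0
  e2 : s (e 2) = e 2
  e3 : s (e 3) = -e 3
  f2 : s (f 2) = f 2
  f3 : s (f 3) = -f 3

theorem exists_two (h : Fr Q e f) (c : F) : ∃ s ∈ E Q, Two e f c s := by
  have q := (h.qd (i := 0) (j := 1) (by decide)).flip
  have q' := h.qd (i := 1) (j := 3) (by decide)
  set R := rot Q (e 0) (f 1) (f 0) (e 1) with hR
  set D := rot Q (e 1) (e 3) (f 1) (f 3) with hD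
  set A := T Q (e 1) (-(c • f 0)) with hA
  have hw : polar Q (e 1) (-(c • f 0)) = 0 := by
    rw [polar_neg_right, polar_smul_right, h.ef]; simp
  have hQw : Q (-(c • f 0)) = 0 := by rw [QuadraticMap.map_neg, QuadraticMap.map_smul, h.qf, smul_zero]
  have hAe : ∀ v, A v = v - (polar Q (e 1) v * c) • f 0 + (c * polar Q (f 0) v) • e 1 := by
    intro v
    rw [hA, T_apply (h.qe 1) hw, hQw, polar_neg_left, polar_smul_left, smul_eq_mul]
    module
  have d1 : D (D (e 1)) = -e 1 := by rw [q'.rot_x, q'.rot_v]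
  have d1' : D (D (f 1)) = -f 1 := by rw [q'.rot_y, q'.rot_u]
  have d3 : D (D (e 3)) = -e 3 := by rw [q'.rot_u, map_neg, q'.rot_y]
  have d3' : D (D (f 3)) = -f 3 := by rw [q'.rot_v, map_neg, q'.rot_x]
  have d0 : D (D (e 0)) = e 0 := by
    rw [q'.rot_p (h.ee _ _) (by rw [h.fe]; simp) (h.ee _ _) (by rw [h.fe]; simp),
      q'.rot_p (h.ee _ _) (by rw [h.fe]; simp) (h.ee _ _) (by rw [h.fe]; simp)]
  have d2 : D (D (e 2)) = e 2 := by
    rw [q'.rot_p (h.ee _ _) (by rw [h.fe]; simp) (h.ee _ _) (by rw [h.fe]; simp),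
      q'.rot_p (h.ee _ _) (by rw [h.fe]; simp) (h.ee _ _) (by rw [h.fe]; simp)]
  have d0' : D (D (f 0)) = f 0 := by
    rw [q'.rot_p (by rw [h.ef]; simp) (h.ff _ _) (by rw [h.ef]; simp) (h.ff _ _),
      q'.rot_p (by rw [h.ef]; simp) (h.ff _ _) (by rw [h.ef]; simp) (h.ff _ _)]
  have d2' : D (D (f 2)) = f 2 := by
    rw [q'.rot_p (by rw [h.ef]; simp) (h.ff _ _) (by rw [h.ef]; simp) (h.ff _ _),
      q'.rot_p (by rw [h.ef]; simp) (h.ff _ _) (by rw [h.ef]; simp) (h.ff _ _)]
  have rp : ∀ p, polar Q (e 0) p = 0 → polar Q (f 0) p = 0 → polar Q (f 1) p = 0 → polar Q (e 1) p = 0 →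
      R p = p := fun p h1 h2 h3 h4 => q.rot_p h1 h2 h3 h4
  refine ⟨A * R * (D * D), E_mul (E_mul (T_mem_E _ _) (rot_mem _ _ _ _)) (E_mul (rot_mem _ _ _ _) (rot_mem _ _ _ _)),
    ?_, ?_, ?_, ?_, ?_, ?_, ?_, ?_⟩
  · change A (R (D (D (e 0)))) = _
    rw [d0, q.rot_x, hAe, h.ee, h.fe]
    simp
  · change A (R (D (D (e 1)))) = _
    rw [d1, map_neg, q.rot_v, neg_neg, hAe, h.ee, h.fe]
    simp
  · change A (R (D (D (f 0)))) = _
    rw [d0', q.rot_y, hAe, h.ff, h.ef]
    simp
  · change A (R (D (D (f 1)))) = _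
    rw [d1', map_neg, q.rot_u, neg_neg, hAe, h.ff, h.ef]
    simp
  · change A (R (D (D (e 2)))) = _
    rw [d2, rp _ (h.ee _ _) (by rw [h.fe]; simp) (by rw [h.fe]; simp) (h.ee _ _), hAe, h.ee, h.fe]
    simp
  · change A (R (D (D (e 3)))) = _
    rw [d3, map_neg, rp _ (h.ee _ _) (by rw [h.fe]; simp) (by rw [h.fe]; simp) (h.ee _ _), map_neg, hAe, h.ee, h.fe]
    simp
  · change A (R (D (D (f 2)))) = _
    rw [d2', rp _ (by rw [h.ef]; simp) (h.ff _ _) (h.ff _ _) (by rw [h.ef]; simp), hAe, h.ff, h.ef]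
    simp
  · change A (R (D (D (f 3)))) = _
    rw [d3', map_neg, rp _ (by rw [h.ef]; simp) (h.ff _ _) (h.ff _ _) (by rw [h.ef]; simp), map_neg, hAe, h.ff, h.ef]
    simp

/-! ### coordinates -/

/-- comparison of coordinates of `L` -/
theorem coord (h : Fr Q e f) {a b a' b' : F} (he : a • e 0 + b • e 1 = a' • e 0 + b' • e 1) : a = a' ∧ b = b' := by
  constructor
  · have := congrArg (polar Q (f 0)) he
    simpa [polar_add_right, polar_smul_right, h.fe] using this
  · have := congrArg (polar Q (f 1)) he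
    simpa [polar_add_right, polar_smul_right, h.fe] using this

/-- an isometry fixing `L^⊥` -/
theorem exists_comb (h : Fr Q e f) {g : V ≃ₗ[F] V} (hg : g ∈ O Q) (h0 : g (e 0) = e 0) (h1 : g (e 1) = e 1)
    (h2 : g (e 2) = e 2) (h2' : g (f 2) = f 2) (h3 : g (e 3) = e 3) (h3' : g (f 3) = f 3) (j : Fin 4) :
    ∃ a b : F, g (f j) = f j + (a • e 0 + b • e 1) := by
  have key : ∀ w, g w = w → polar Q w (g (f j) - f j) = 0 := by
    intro w hw
    have := polar_map hg w (f j)
    rw [hw] at this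
    rw [polar_sub_right, this, sub_self]
  have hsp := h.span (g (f j) - f j)
  rw [Fin.sum_univ_four, key _ h0, key _ h1, key _ h2, key _ h2', key _ h3, key _ h3'] at hsp
  refine ⟨polar Q (f 0) (g (f j) - f j), polar Q (f 1) (g (f j) - f j), ?_⟩
  have h4 : g (f j) = f j + (g (f j) - f j) := by abel
  conv_lhs => rw [h4, hsp]
  module

section main

variable {p : ℕ} [hp : Fact p.Prime] [Finite ↥(E Q)] {P : Sylow p ↥(E Q)}

/-- commuting in `PE Q` with an element fixing `L` -/
theorem comm_lift [Finite F] (hB : Big Q) (h : Fr Q e f) {s g : V ≃ₗ[F] V} (hs : s ∈ E Q) (hg : g ∈ E Q)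
    (h0 : g (e 0) = e 0) (h1 : g (s (e 0)) = s (e 0)) (hc : pr s hs * pr g hg = pr g hg * pr s hs) (v : V) :
    s (g v) = g (s v) := by
  rw [← pr_mul, ← pr_mul] at hc
  obtain ⟨c, hc1, hv⟩ := (pr_eq_iff hB _ _).1 hc
  have h2 := hv (e 0)
  change s (g (e 0)) = c • g (s (e 0)) at h2
  rw [h0, h1] at h2
  have h3 : c = 1 := by
    have h4 : (c - 1) • s (e 0) = 0 := by rw [sub_smul, ← h2, one_smul, sub_self]
    rcases smul_eq_zero.1 h4 with h5 | h5
    · exact sub_eq_zero.1 h5
    · exact absurd ((map_eq_zero_iff s s.injective).1 h5) (h.ne_e 0)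
  have h4 := hv v
  rw [h3, one_smul] at h4
  exact h4

theorem One.free [Finite F] [CharP F p] (hB : Big Q) (h : Fr Q e f) (hS : Syl Q (e 0) (e 1) p P)
    {z : F} {s : V ≃ₗ[F] V} (hs : s ∈ E Q) (h1 : One e f z s) (hz0 : z ≠ 0) (hz1 : z ≠ 1) (hz2 : z * z ≠ 1) :
    pr s hs ∈ nor (im P : Subgroup (PE Q)) ∧
      ∀ v ∈ rad (im P : Subgroup (PE Q)), pr s hs * v = v * pr s hs → v = 1 := by
  refine ⟨pr_mem_nor hB hS hs ?_, ?_⟩
  · rw [h1.e0, h1.e1]
    apply le_antisymm
    · refine Submodule.span_le.2 ?_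
      rintro y (rfl | rfl)
      · exact mem_L_comb (a := z) (b := 0) (by module)
      · exact mem_L_comb (a := 0) (b := z) (by module)
    · refine Submodule.span_le.2 ?_
      rintro y (rfl | rfl)
      · exact mem_L_comb (a := z⁻¹) (b := 0) (by rw [smul_smul, inv_mul_cancel₀ hz0]; module)
      · exact mem_L_comb (a := 0) (b := z⁻¹) (by rw [smul_smul, smul_smul, inv_mul_cancel₀ hz0]; module)
  · intro v hv hc
    obtain ⟨g, hg, rfl, g0, g1, ⟨a2, b2, k2⟩, ⟨a2', b2', k2'⟩, ⟨a3, b3, k3⟩, ⟨a3', b3', k3'⟩⟩ := rad_fix hB h hS hv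
    have cm := comm_lift hB h hs hg g0 (by rw [h1.e0, map_smul, g0]) hc
    have key : ∀ w (a b : F), s w = w → g w = w + (a • e 0 + b • e 1) → g w = w := by
      intro w a b hw hgw
      have h2 := cm w
      rw [hw, hgw, map_add, map_add, map_smul, map_smul, hw, h1.e0, h1.e1] at h2
      have h3 : (a * z) • e 0 + (b * z) • e 1 = a • e 0 + b • e 1 := by
        have := add_left_cancel h2
        rw [smul_smul, smul_smul] at this
        exact this
      obtain ⟨h4, h5⟩ := coord h h3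
      have ha : a = 0 := by
        by_contra hne
        exact hz1 (mul_left_cancel₀ hne (by rw [h4, mul_one]))
      have hb : b = 0 := by
        by_contra hne
        exact hz1 (mul_left_cancel₀ hne (by rw [h5, mul_one]))
      rw [hgw, ha, hb]
      module
    have l2 := key _ _ _ h1.e2 k2
    have l2' := key _ _ _ h1.f2 k2'
    have l3 := key _ _ _ h1.e3 k3
    have l3' := key _ _ _ h1.f3 k3'
    have key' : ∀ j, s (f j) = z⁻¹ • f j → g (f j) = f j := by
      intro j hj
      obtain ⟨a, b, hab⟩ := exists_comb h (E_le_O hg) g0 g1 l2 l2' l3 l3' j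
      have h2 := cm (f j)
      rw [hj, map_smul, hab, map_add, map_add, map_smul, map_smul, hj, h1.e0, h1.e1, smul_add] at h2
      have h3 : (a * z) • e 0 + (b * z) • e 1 = (z⁻¹ * a) • e 0 + (z⁻¹ * b) • e 1 := by
        have := add_left_cancel h2
        rw [smul_smul, smul_smul, smul_add, smul_smul, smul_smul] at this
        exact this
      obtain ⟨h4, h5⟩ := coord h h3
      have ha : a = 0 := by
        by_contra hne
        apply hz2
        have : a * (z * z) = a * 1 := by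
          calc a * (z * z) = (a * z) * z := by ring
            _ = z⁻¹ * a * z := by rw [h4]
            _ = a * 1 := by field_simp
        exact mul_left_cancel₀ hne this
      have hb : b = 0 := by
        by_contra hne
        apply hz2
        have : b * (z * z) = b * 1 := by
          calc b * (z * z) = (b * z) * z := by ring
            _ = z⁻¹ * b * z := by rw [h5]
            _ = b * 1 := by field_simp
        exact mul_left_cancel₀ hne this
      rw [hab, ha, hb]
      module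
    have hg1 : g = 1 := by
      refine h.ext_equiv ?_ ?_
      · intro i
        fin_cases i
        · exact g0
        · exact g1
        · exact l2
        · exact l3
      · intro i
        fin_cases i
        · exact key' 0 h1.f0
        · exact key' 1 h1.f1
        · exact l2'
        · exact l3'
    rw [pr_congr hg hg1]
    exact pr_one

theorem Two.free [Finite F] [CharP F p] (hB : Big Q) (h : Fr Q e f) (hS : Syl Q (e 0) (e 1) p P)
    {c : F} {s : V ≃ₗ[F] V} (hs : s ∈ E Q) (h1 : Two e f c s) (hc0 : c ≠ 0) (h2 : (2 : F) ≠ 0) :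
    pr s hs ∈ nor (im P : Subgroup (PE Q)) ∧
      ∀ v ∈ rad (im P : Subgroup (PE Q)), pr s hs * v = v * pr s hs → v = 1 := by
  refine ⟨pr_mem_nor hB hS hs ?_, ?_⟩
  · rw [h1.e0, h1.e1]
    apply le_antisymm
    · refine Submodule.span_le.2 ?_
      rintro y (rfl | rfl)
      · exact right_mem_L _ _
      · exact mem_L_comb (a := 1) (b := c) (by module)
    · refine Submodule.span_le.2 ?_
      rintro y (rfl | rfl)
      · exact mem_L_comb (a := -c) (b := 1) (by module)
      · exact left_mem_L _ _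
  · intro v hv hc
    obtain ⟨g, hg, rfl, g0, g1, ⟨a2, b2, k2⟩, ⟨a2', b2', k2'⟩, ⟨a3, b3, k3⟩, ⟨a3', b3', k3'⟩⟩ := rad_fix hB h hS hv
    have cm := comm_lift hB h hs hg g0 (by rw [h1.e0, g1]) hc
    have key : ∀ w (a b : F), s w = w → g w = w + (a • e 0 + b • e 1) → g w = w := by
      intro w a b hw hgw
      have h2 := cm w
      rw [hw, hgw, map_add, map_add, map_smul, map_smul, hw, h1.e0, h1.e1] at h2
      have h3 : b • e 0 + (a + b * c) • e 1 = a • e 0 + b • e 1 := by
        have := add_left_cancel h2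
        rw [← this]
        module
      obtain ⟨h4, h5⟩ := coord h h3
      have hb : b = 0 := by
        rw [h4, add_eq_left] at h5
        rcases mul_eq_zero.1 h5 with h6 | h6
        · rw [h4, h6]
        · exact absurd h6 hc0
      have ha : a = 0 := by rw [← h4, hb]
      rw [hgw, ha, hb]
      module
    have keyn : ∀ w (a b : F), s w = -w → g w = w + (a • e 0 + b • e 1) → g w = w := by
      intro w a b hw hgw
      have h2 := cm w
      rw [hw, map_neg, hgw, map_add, map_add, map_smul, map_smul, hw, h1.e0, h1.e1] at h2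
      have h3 : b • e 0 + (a + b * c) • e 1 = (-a) • e 0 + (-b) • e 1 := by
        have h4 : -w + (b • e 0 + (a + b * c) • e 1) = -w + ((-a) • e 0 + (-b) • e 1) := by
          calc -w + (b • e 0 + (a + b * c) • e 1) = -w + (a • e 1 + b • (e 0 + c • e 1)) := by module
            _ = -(w + (a • e 0 + b • e 1)) := h2
            _ = _ := by module
        exact add_left_cancel h4
      obtain ⟨h4, h5⟩ := coord h h3
      have hb : b = 0 := by
        have h6 : b * c = 0 := by
          have h7 : a = -b := by rw [h4, neg_neg]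
          rw [h7] at h5
          exact add_eq_left.1 h5
        exact (mul_eq_zero.1 h6).resolve_right hc0
      have ha : a = 0 := by rw [hb] at h4; exact neg_eq_zero.1 h4.symm
      rw [hgw, ha, hb]
      module
    have l2 := key _ _ _ h1.e2 k2
    have l2' := key _ _ _ h1.f2 k2'
    have l3 := keyn _ _ _ h1.e3 k3
    have l3' := keyn _ _ _ h1.f3 k3'
    obtain ⟨a, b, hab⟩ := exists_comb h (E_le_O hg) g0 g1 l2 l2' l3 l3' 0
    obtain ⟨a', b', hab'⟩ := exists_comb h (E_le_O hg) g0 g1 l2 l2' l3 l3' 1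
    have hgO := E_le_O hg
    -- isotropy
    have ha : a = 0 := by
      have h3 : Q (g (f 0)) = 0 := by rw [mem_O.1 hgO, h.qf]
      rw [hab, Q_add, Q_add, QuadraticMap.map_smul, QuadraticMap.map_smul, h.qf, h.qe, h.qe] at h3
      simpa [polar_add_right, polar_smul_right, polar_smul_left, h.fe, h.ee] using h3
    have hb' : b' = 0 := by
      have h3 : Q (g (f 1)) = 0 := by rw [mem_O.1 hgO, h.qf]
      rw [hab', Q_add, Q_add, QuadraticMap.map_smul, QuadraticMap.map_smul, h.qf, h.qe, h.qe] at h3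
      simpa [polar_add_right, polar_smul_right, polar_smul_left, h.fe, h.ee] using h3
    have hsum : a' = -b := by
      have h3 : polar Q (g (f 0)) (g (f 1)) = 0 := by rw [polar_map hgO, h.ff]
      rw [hab, hab', ha, hb'] at h3
      have h4 : b + a' = 0 := by
        simpa [polar_add_right, polar_add_left, polar_smul_right, polar_smul_left, h.fe, h.ee, h.ef, h.ff] using h3
      exact eq_neg_of_add_eq_zero_right h4
    -- the commutation
    have hb : b = 0 := by
      have h3 := cm (f 1)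
      rw [h1.f1, hab, hab', ha, hb', hsum, map_add, map_add, map_smul, map_smul, h1.f1, h1.e0, h1.e1] at h3
      have h4 : (0 : F) • e 0 + (-b) • e 1 = (0 : F) • e 0 + b • e 1 := by
        have h5 : f 0 + ((0 : F) • e 0 + (-b) • e 1) = f 0 + ((0 : F) • e 0 + b • e 1) := by
          rw [← h3]
          module
        exact add_left_cancel h5
      have h5 := (coord h h4).2
      have h6 : 2 * b = 0 := by
        calc 2 * b = b + b := by ring
          _ = b + -b := by rw [h5]
          _ = 0 := by ring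
      exact (mul_eq_zero.1 h6).resolve_left h2
    have hf0 : g (f 0) = f 0 := by rw [hab, ha, hb]; module
    have hf1 : g (f 1) = f 1 := by rw [hab', hsum, hb', hb]; module
    have hg1 : g = 1 := by
      refine h.ext_equiv ?_ ?_
      · intro i
        fin_cases i
        · exact g0
        · exact g1
        · exact l2
        · exact l3
      · intro i
        fin_cases i
        · exact hf0
        · exact hf1
        · exact l2'
        · exact l3'
    rw [pr_congr hg hg1]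
    exact pr_one

end main

/-! ### orders -/

theorem One.pow (h : Fr Q e f) {z : F} {s : V ≃ₗ[F] V} (h1 : One e f z s) {n : ℕ} (hn : z ^ n = 1) : s ^ n = 1 := by
  have key : ∀ (c : F) (v : V), s v = c • v → ∀ n : ℕ, (s ^ n) v = c ^ n • v := by
    intro c v hv n
    induction n with
    | zero => simp
    | succ n ih =>
      rw [pow_succ]
      change (s ^ n) (s v) = _
      rw [hv, map_smul, ih, smul_smul, pow_succ, mul_comm]
  have key1 : ∀ v : V, s v = v → (s ^ n) v = v := by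
    intro v hv
    have := key 1 v (by rw [hv, one_smul]) n
    rwa [one_pow, one_smul] at this
  have hn' : (z⁻¹) ^ n = 1 := by rw [inv_pow, hn, inv_one]
  refine h.ext_equiv ?_ ?_
  · intro i
    fin_cases i
    · exact (key z _ h1.e0 n).trans (by rw [hn, one_smul]; rfl)
    · exact (key z _ h1.e1 n).trans (by rw [hn, one_smul]; rfl)
    · exact key1 _ h1.e2
    · exact key1 _ h1.e3
  · intro i
    fin_cases i
    · exact (key z⁻¹ _ h1.f0 n).trans (by rw [hn', one_smul]; rfl)
    · exact (key z⁻¹ _ h1.f1 n).trans (by rw [hn', one_smul]; rfl)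
    · exact key1 _ h1.f2
    · exact key1 _ h1.f3

theorem Two.pow (h : Fr Q e f) {c : F} {s : V ≃ₗ[F] V} (h1 : Two e f c s) {k : ℕ} (hk : 1 ≤ k)
    (hn : ab c (2 ^ k) = (0, 1)) : s ^ 2 ^ k = 1 := by
  have key : ∀ (t : V ≃ₗ[F] V) (v : V), t (t v) = v + c • t v → (t ^ 2 ^ k) v = v := by
    intro t v hv
    have h2 := pow_apply t.toLinearMap hv (2 ^ k)
    rw [hn, zero_smul, one_smul, zero_add] at h2
    have h3 : ∀ n : ℕ, (t ^ n) v = (t.toLinearMap ^ n) v := by
      intro n
      induction n with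
      | zero => rfl
      | succ n ih =>
        rw [pow_succ', pow_succ', Module.End.mul_apply, ← ih]
        rfl
    rw [h3, h2]
  have key1 : ∀ v : V, s v = v → ∀ n : ℕ, (s ^ n) v = v := by
    intro v hv n
    induction n with
    | zero => rfl
    | succ n ih =>
      rw [pow_succ]
      change (s ^ n) (s v) = _
      rw [hv, ih]
  have keyn : ∀ v : V, s v = -v → (s ^ 2 ^ k) v = v := by
    intro v hv
    obtain ⟨j, rfl⟩ : ∃ j, k = j + 1 := ⟨k - 1, by omega⟩
    rw [pow_succ, mul_comm, pow_mul]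
    have h2 : (s ^ 2) v = v := by
      rw [_root_.sq]
      change s (s v) = v
      rw [hv, map_neg, hv, neg_neg]
    have h3 : ∀ n : ℕ, ((s ^ 2) ^ n) v = v := by
      intro n
      induction n with
      | zero => rfl
      | succ n ih =>
        rw [pow_succ]
        change ((s ^ 2) ^ n) ((s ^ 2) v) = _
        rw [h2, ih]
    exact h3 _
  have inv : ∀ v, (s⁻¹ ^ 2 ^ k) v = v → (s ^ 2 ^ k) v = v := by
    intro v hv
    rw [inv_pow] at hv
    have := inv_apply_eq hv
    rwa [inv_inv] at this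
  have i0 : s⁻¹ (f 0) = f 1 := inv_apply_eq h1.f1
  have i1 : s⁻¹ (f 1) = f 0 + c • f 1 := inv_apply_eq (by rw [map_add, map_smul, h1.f0, h1.f1]; abel)
  refine h.ext_equiv ?_ ?_
  · intro i
    fin_cases i
    · exact key s _ (by change s (s (e 0)) = e 0 + c • s (e 0); rw [h1.e0, h1.e1])
    · exact key s _ (by
        change s (s (e 1)) = e 1 + c • s (e 1)
        rw [h1.e1, map_add, map_smul, h1.e0, h1.e1])
    · exact key1 _ h1.e2 _
    · exact keyn _ h1.e3
  · intro i
    fin_cases i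
    · exact inv _ (key s⁻¹ _ (by change s⁻¹ (s⁻¹ (f 0)) = f 0 + c • s⁻¹ (f 0); rw [i0, i1]))
    · exact inv _ (key s⁻¹ _ (by
        change s⁻¹ (s⁻¹ (f 1)) = f 1 + c • s⁻¹ (f 1)
        rw [i1, map_add, map_smul, i0, i1]))
    · exact key1 _ h1.f2 _
    · exact keyn _ h1.f3

theorem pr_pow {s : V ≃ₗ[F] V} (hs : s ∈ E Q) {n : ℕ} (h : s ^ n = 1) : (pr s hs) ^ n = 1 := by
  have h1 : ∀ n : ℕ, (pr s hs) ^ n = pr (s ^ n) ((E Q).pow_mem hs n) := by
    intro n
    induction n with
    | zero => rfl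
    | succ n ih => rw [pow_succ, ih]; rfl
  rw [h1, pr_congr _ h]
  rfl

end Cfsg.Agent.H594.VzElt
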