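import Cfsg.Agent.H594.VzElt
import Cfsg.Agent.H620.PNorm
import Cfsg.Agent.H829.Van.OPlus
import Cfsg.Agent.H682.FactB
import Cfsg.Agent.S0296

/-!
# S4555 / S4559: the row `PΩ₈⁺(q)` (helper594)

* `vOrdP_split` : `p` odd, `p ∣ q - 1`: an element of order `p` of `PΩ₈⁺(q)` is a zero of an irreducible character, together
  with its images under automorphisms;
* `vPow_two` : the same for an element of 2-power order, `q` odd;
* `vOrdP`, `vPow` : the row.
-/

set_option autoImplicit false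
set_option linter.unusedSectionVars false

namespace Cfsg.Agent.H594.VzO8

open QuadraticMap Cfsg.Agent.LieClassical.OrthCore Cfsg.Agent.LieClassical.OrthTrans
  Cfsg.Agent.LieClassical.OrthSimple Cfsg.Agent.ClassicalGeometry.OrthAutBasic
  Cfsg.Agent.ClassicalGeometry.OrthAutRoot Cfsg.Agent.ClassicalGeometry.OrthAutSylow
open Cfsg.Agent.H226.FrBase Cfsg.Agent.H594.VzCen Cfsg.Agent.H594.VzEight Cfsg.Agent.H594.VzQuad
  Cfsg.Agent.H594.VzElt Cfsg.Agent.H620.PNorm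

/-- the form -/
noncomputable abbrev q8 (F : Type) [Field F] : QuadraticForm F (Fin 4 ⊕ Fin 4 → F) :=
  LieClassical.QuadForms.plusForm 4 F

/-- the standard basis -/
def se (F : Type) [Field F] (i : Fin 4) : Fin 4 ⊕ Fin 4 → F := Pi.single (.inl i) 1
/-- the standard basis -/
def sf (F : Type) [Field F] (i : Fin 4) : Fin 4 ⊕ Fin 4 → F := Pi.single (.inr i) 1

variable (F : Type) [Field F] [Fintype F]

theorem fr : Fr (q8 F) (se F) (sf F) := fr_plus F

theorem big : Big (q8 F) :=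
  ⟨(AutOrth.Main.good_plus (by norm_num)).nondeg, by rw [Module.finrank_fintype_fun_eq_card]; simp⟩

/-- `PΩ₈⁺(q)` as `PE Q` -/
theorem exists_equiv : Nonempty (Cfsg.POmega F (Cfsg.quadFormPlus 4 F) ≃* PE (q8 F)) := by
  rw [← LieClassical.QuadForms.coe_plusForm]
  exact ⟨AutOrth.Main.pe (AutOrth.Main.good_plus (by norm_num))⟩

theorem finE : Finite ↥(E (q8 F)) := by
  have hfinE : Finite ((Fin 4 ⊕ Fin 4 → F) ≃ₗ[F] (Fin 4 ⊕ Fin 4 → F)) :=
    Finite.of_injective (fun g => (g : (Fin 4 ⊕ Fin 4 → F) → (Fin 4 ⊕ Fin 4 → F))) DFunLike.coe_injective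
  infer_instance

/-- the engine in the form for the final result -/
theorem vz_of {r : ℕ} [hr : Fact r.Prime] [CharP F r]
    {s : (Fin 4 ⊕ Fin 4 → F) ≃ₗ[F] (Fin 4 ⊕ Fin 4 → F)} (hs : s ∈ E (q8 F))
    (h : ∀ [Finite ↥(E (q8 F))] (P : Sylow r ↥(E (q8 F))), Syl (q8 F) (se F 0) (se F 1) r P →
      pr s hs ∈ nor (im P : Subgroup (PE (q8 F))) ∧
        ∀ v ∈ rad (im P : Subgroup (PE (q8 F))), pr s hs * v = v * pr s hs → v = 1) :
    H713.VZ (PE (q8 F)) (pr s hs) := by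
  obtain ⟨ε⟩ := exists_equiv F
  have hS : IsSimpleGroup (Cfsg.POmega F (Cfsg.quadFormPlus 4 F)) := Cfsg.Agent.S0296.result 4 le_rfl
  have : IsSimpleGroup (PE (q8 F)) := ε.symm.isSimpleGroup
  have := finE F
  have hchar : Cfsg.IsPOmegaPlusChar r (PE (q8 F)) := ⟨F, inferInstance, inferInstance, inferInstance, 4, le_rfl, ⟨ε.symm⟩⟩
  have hchar' : Cfsg.IsLieTypeChar r (PE (q8 F)) := by
    unfold Cfsg.IsLieTypeChar
    tauto
  have hsp : FixBN.HasSplit r (PE (q8 F)) := H682.FactB.hasSplit_of_lieChar hr.out hchar'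
  have hln := (fr F).ln_ee (i := 0) (j := 1) (by decide)
  obtain ⟨P, h1, h2, h3, h4⟩ := exists_sylow (big F) hln r
  obtain ⟨k1, k2⟩ := h P ⟨hln, h1, h2, h3, h4⟩
  exact vz_of_rad hsp (im P) k1 k2

/-- **`p` odd, `p ∣ q - 1`.** -/
theorem vOrdP_split {p : ℕ} (hp : p.Prime) (hp2 : p ≠ 2) (hd : p ∣ Fintype.card F - 1) :
    VOrdP p (Cfsg.POmega F (Cfsg.quadFormPlus 4 F)) := by
  obtain ⟨ε⟩ := exists_equiv F
  refine VOrdP.mulEquiv ?_ ε.symm
  have hpf : Fact p.Prime := ⟨hp⟩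
  obtain ⟨r, hchar⟩ := CharP.exists F
  have hr : Fact r.Prime := ⟨CharP.char_is_prime F r⟩
  -- the element of order `p` of the field
  obtain ⟨y, hy⟩ := exists_prime_orderOf_dvd_card' (G := Fˣ) p (by
    rw [Nat.card_units, Nat.card_eq_fintype_card]; exact hd)
  have hz0 : (y : F) ≠ 0 := y.ne_zero
  have hzp : (y : F) ^ p = 1 := by
    rw [← Units.val_pow_eq_pow_val, ← hy, pow_orderOf_eq_one, Units.val_one]
  have hz1 : (y : F) ≠ 1 := by
    intro h
    have : y = 1 := Units.ext h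
    rw [this, orderOf_one] at hy
    exact hp.one_lt.ne hy
  have hz2 : (y : F) * y ≠ 1 := by
    intro h
    have h1 : y ^ 2 = 1 := by
      apply Units.ext
      rw [_root_.sq, Units.val_mul, h, Units.val_one]
    have h2 := orderOf_dvd_of_pow_eq_one h1
    rw [hy] at h2
    exact hp2 ((Nat.prime_dvd_prime_iff_eq hp Nat.prime_two).1 h2)
  obtain ⟨s, hs, h1⟩ := exists_one (fr F) hz0
  refine ⟨pr s hs, ?_, vz_of F (r := r) hs fun P hP => One.free (big F) (fr F) hP hs h1 hz0 hz1 hz2⟩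
  refine orderOf_eq_prime (pr_pow hs (h1.pow (fr F) hzp)) ?_
  intro h2
  obtain ⟨c, -, hc⟩ := (pr_eq_iff (big F) hs (one_mem _)).1 (h2.trans pr_one.symm)
  have h3 := hc (se F 2)
  rw [h1.e2] at h3
  have h4 : c = 1 := by
    have h5 : (c - 1) • se F 2 = 0 := by
      rw [sub_smul, one_smul, sub_eq_zero]
      exact h3.symm
    rcases smul_eq_zero.1 h5 with h6 | h6
    · exact sub_eq_zero.1 h6
    · exact absurd h6 ((fr F).ne_e 2)
  have h5 := hc (se F 0)
  rw [h1.e0, h4, one_smul] at h5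
  have h6 : ((y : F) - 1) • se F 0 = 0 := by
    rw [sub_smul, one_smul, sub_eq_zero]
    exact h5
  rcases smul_eq_zero.1 h6 with h7 | h7
  · exact hz1 (sub_eq_zero.1 h7)
  · exact (fr F).ne_e 0 h7

/-- **`p = 2`, `q` odd.** -/
theorem vPow_two (h2 : (2 : F) ≠ 0) : VPow 2 (Cfsg.POmega F (Cfsg.quadFormPlus 4 F)) := by
  obtain ⟨ε⟩ := exists_equiv F
  refine VPow.mulEquiv ?_ ε.symm
  obtain ⟨r, hchar⟩ := CharP.exists F
  have hr : Fact r.Prime := ⟨CharP.char_is_prime F r⟩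
  have hne : (-1 : F) ≠ 1 := by
    intro h
    apply h2
    calc (2 : F) = 1 + 1 := by norm_num
      _ = -1 + 1 := by rw [h]
      _ = 0 := by norm_num
  by_cases h4 : Fintype.card F % 4 = 3
  · obtain ⟨c, k, hc0, hk, hab⟩ := exists_c F h4
    obtain ⟨s, hs, h1⟩ := exists_two (fr F) c
    refine ⟨pr s hs, ?_, vz_of F (r := r) hs fun P hP => Two.free (big F) (fr F) hP hs h1 hc0 h2⟩
    have h5 := orderOf_dvd_of_pow_eq_one (pr_pow hs (h1.pow (fr F) hk hab))
    obtain ⟨j, -, hj⟩ := (Nat.dvd_prime_pow Nat.prime_two).1 h5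
    exact ⟨j, hj⟩
  · obtain ⟨z, hz⟩ := FiniteField.isSquare_neg_one_iff.2 h4
    have hz0 : z ≠ 0 := by
      rintro rfl
      simp at hz
    have hz2 : z * z ≠ 1 := by rw [← hz]; exact hne
    have hz1 : z ≠ 1 := by
      rintro rfl
      exact hz2 (mul_one 1)
    have hz4 : z ^ 4 = 1 := by
      calc z ^ 4 = (z * z) * (z * z) := by ring
        _ = -1 * -1 := by rw [← hz]
        _ = 1 := by norm_num
    obtain ⟨s, hs, h1⟩ := exists_one (fr F) hz0
    refine ⟨pr s hs, ?_, vz_of F (r := r) hs fun P hP => One.free (big F) (fr F) hP hs h1 hz0 hz1 hz2⟩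
    have h5 := orderOf_dvd_of_pow_eq_one (pr_pow hs (h1.pow (fr F) hz4))
    obtain ⟨j, -, hj⟩ := (Nat.dvd_prime_pow Nat.prime_two (m := 2)).1 h5
    exact ⟨j, hj⟩

/-- **The row `PΩ₈⁺(q)`, `p` odd** (S4559 and S4555). -/
theorem vOrdP {r p : ℕ} (hp : p.Prime) (hp2 : p ≠ 2) [hr : Fact r.Prime] [CharP F r] (hpr : p ≠ r)
    (hd : p ∣ Nat.card (Cfsg.POmega F (Cfsg.quadFormPlus 4 F))) : VOrdP p (Cfsg.POmega F (Cfsg.quadFormPlus 4 F)) := by
  have hpf : Fact p.Prime := ⟨hp⟩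
  by_cases h1 : p ∣ Nat.card F - 1
  · rw [Nat.card_eq_fintype_card] at h1
    exact vOrdP_split F hp hp2 h1
  · have hk := H829.Van.kill_plus F (r := r) (m := 4) le_rfl hp hp2 hpr h1
    obtain ⟨x, hx⟩ := exists_prime_orderOf_dvd_card' p hd
    exact ⟨x, hx, hk.vz (by rw [hx])⟩

/-- **The row `PΩ₈⁺(q)`, all primes** (S4555). -/
theorem vPow {r p : ℕ} (hp : p.Prime) [hr : Fact r.Prime] [CharP F r] (hpr : p ≠ r)
    (hd : p ∣ Nat.card (Cfsg.POmega F (Cfsg.quadFormPlus 4 F))) : VPow p (Cfsg.POmega F (Cfsg.quadFormPlus 4 F)) := by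
  by_cases hp2 : p = 2
  · subst hp2
    refine vPow_two F ?_
    intro h
    have h1 : ((2 : ℕ) : F) = 0 := by exact_mod_cast h
    have h2 := (CharP.cast_eq_zero_iff F r 2).1 h1
    exact hpr ((Nat.prime_dvd_prime_iff_eq hr.out Nat.prime_two).1 h2).symm
  · exact (vOrdP F hp hp2 hpr hd).vPow

end Cfsg.Agent.H594.VzO8
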